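import Cfsg.Agent.H26.SpXB
import Cfsg.Agent.H93.SubA8

/-!
# Subgroups of `Sp(V)` in characteristic two containing a complement to the transvections in the
unipotent radical of a point stabiliser, III
-/

set_option autoImplicit false

namespace Cfsg.Agent.H26

open H27 Module

variable {F V : Type*} [Field F] [AddCommGroup V] [Module F V]
variable {B : LinearMap.BilinForm F V} {L : Subgroup (V ≃ₗ[F] V)}

theorem spx_six (K : Subgroup (Equiv.Perm (Fin 6))) (hK : 120 ∣ Nat.card K) :
    K = ⊤ ∨ Nonempty (K ≃* alternatingGroup (Fin 6)) ∨ Nonempty (K ≃* Equiv.Perm (Fin 5)) := by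
  obtain ⟨k, hk⟩ := hK
  have h := K.card_mul_index
  rw [hk, Nat.card_perm, Nat.card_eq_fintype_card, Fintype.card_fin] at h
  have h6 : K.index ∣ 6 := Dvd.intro_left k (by
    have : Nat.factorial 6 = 720 := rfl
    rw [this, mul_assoc] at h
    omega)
  have hle := Nat.le_of_dvd (by norm_num) h6
  have h3 : K.index ≠ 3 := fun h3 => by
    have hd : K.normalCore.index ∣ Nat.factorial 3 := by
      rw [Subgroup.normalCore_eq_ker, Subgroup.index_ker, ← h3, Subgroup.index, ← Nat.card_perm]
      exact Subgroup.card_subgroup_dvd_card _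
    have hnt : Nontrivial K.normalCore := (Subgroup.nontrivial_iff_ne_bot _).2 fun hb => by
      rw [hb, Subgroup.index_bot, Nat.card_perm, Nat.card_eq_fintype_card, Fintype.card_fin] at hd
      exact absurd hd (by decide)
    have := Subgroup.index_dvd_of_le ((Equiv.Perm.alternatingGroup_le_of_normal (by simp) hnt).trans
      K.normalCore_le)
    rw [alternatingGroup.index_eq_two, h3] at this
    exact absurd this (by decide)
  interval_cases hi : K.index
  · exact absurd h6 (by decide)
  · exact Or.inl (Subgroup.index_eq_one.1 hi)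
  · exact Or.inr (Or.inl ⟨MulEquiv.subgroupCongr (Equiv.Perm.eq_alternatingGroup_of_index_eq_two hi)⟩)
  · exact absurd rfl h3
  · exact absurd h6 (by decide)
  · exact absurd h6 (by decide)
  · exact Or.inr (Or.inr (H93.perm_five_of_index_six (by simp) hi))

namespace SpX

variable (h : SpX B L)
include h

variable [FiniteDimensional F V] [Finite F]

theorem full_of_card {a : V} (ha0 : a ≠ 0) (h3 : 3 ≤ finrank F V) (P : Subgroup (V ≃ₗ[F] V))
    (hP : IsPGroup 2 P) (hPa : ∀ p ∈ P, p ∈ isomGroup B ∧ p a = a)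
    (hPn : ∀ g ∈ isomGroup B, g a = a → ∀ p ∈ P, g⁻¹ * p * g ∈ P) (X : Subgroup (V ≃ₗ[F] V))
    (hXP : X ≤ P) (hXL : X ≤ L) (hcard : Nat.card X = Nat.card F ^ (finrank F V - 2))
    (hntv : ∀ x ∈ X, finrank F (LinearMap.range ((x : V →ₗ[F] V) - LinearMap.id)) ≠ 1) :
    SFull B L a := by
  have h2 := h.two
  obtain ⟨b, hab⟩ := h.exists_one ha0
  have hba : B a b = 1 := by rw [h.sym, hab]
  let f : V →ₗ[F] F × F := (B.flip a).prod (B.flip b)
  let W : Submodule F V := LinearMap.ker f
  have hW : ∀ w, w ∈ W ↔ B w a = 0 ∧ B w b = 0 := fun w => by simp [W, f, Prod.ext_iff]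
  have hdW : finrank F W = finrank F V - 2 := by
    have h1 := LinearMap.finrank_range_add_finrank_ker f
    have : LinearMap.range f = ⊤ := LinearMap.range_eq_top.2 fun p =>
      ⟨p.1 • b + p.2 • a, by simp [f, hab, hba, h.self]⟩
    rw [this, finrank_top, finrank_prod, finrank_self] at h1
    change _ + finrank F W = _ at h1
    omega
  have hcW : Nat.card W = Nat.card F ^ (finrank F V - 2) := by
    rw [Module.natCard_eq_pow_finrank (K := F), hdW]
  have : Finite V := Module.finite_of_finite F
  have hpa : ∀ p ∈ P, ∀ w, B (p w) a = B w a := fun p hp w => by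
    rw [← (hPa p hp).1 w a, (hPa p hp).2]
  let π : V → V := fun x => x + B x b • a
  have hπ : ∀ x, B x a = 0 → π x ∈ W := fun x hx => (hW _).2 ⟨by simp [π, hx, h.self], by
    simp only [π, map_add, map_smul, LinearMap.add_apply, LinearMap.smul_apply, smul_eq_mul, hba]
    grind⟩
  let _ : MulAction P W :=
    { smul := fun p w => ⟨π (p.1 w), hπ _ (by rw [hpa p p.2, ((hW _).1 w.2).1])⟩
      one_smul := fun w => Subtype.ext (by
        change π w = w
        simp [π, ((hW _).1 w.2).2])
      mul_smul := fun p p' w => Subtype.ext (by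
        change π (p.1 (p'.1 w)) = π (p.1 (π (p'.1 w)))
        simp only [π, map_add, map_smul, LinearMap.add_apply, LinearMap.smul_apply, smul_eq_mul,
          hba, (hPa p p.2).2]
        match_scalars <;> grind) }
  have : Fact (Nat.Prime 2) := ⟨Nat.prime_two⟩
  obtain ⟨w₀, hw₀, hne⟩ := hP.exists_fixed_point_of_prime_dvd_card_of_fixed_point W (a := 0) (by
    rw [hcW]
    refine dvd_pow ?_ (by omega)
    have : addOrderOf (1 : F) = 2 := addOrderOf_eq_prime (by simpa using h2) one_ne_zero
    exact this ▸ addOrderOf_dvd_natCard 1) fun p => Subtype.ext (by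
      change π (p.1 0) = 0
      simp [π])
  have hw₀a := ((hW _).1 w₀.2).1
  have hw₀b := ((hW _).1 w₀.2).2
  have hfix : ∀ p ∈ P, ∀ w, B w a = 0 → ∃ c : F, p w = w + c • a := fun p hp w hw => by
    by_cases hm : w ∈ F ∙ a
    · obtain ⟨c, rfl⟩ := Submodule.mem_span_singleton.1 hm
      exact ⟨0, by simp [(hPa p hp).2]⟩
    · obtain ⟨t, -, ht, e1, e2⟩ := exists_mem_step h.nd h.alt ⊤ (F ∙ a) (fun _ _ _ => trivial)
        (x := w₀) (y := w) (fun hm => by
          obtain ⟨c, hc⟩ := Submodule.mem_span_singleton.1 hm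
          rw [← hc] at hw₀b
          simp [hba] at hw₀b
          exact hne (Subtype.ext (by simp [← hc, hw₀b]))) hm fun z hz => by
          obtain ⟨c, rfl⟩ := Submodule.mem_span_singleton.1 hz
          simp [h.sym a, hw, hw₀a]
      have hta : t a = a := e2 a (Submodule.mem_span_singleton_self a)
      have e : π (t⁻¹ (p (t w₀))) = w₀ := congrArg Subtype.val (hw₀ ⟨_, hPn t ht hta p hp⟩)
      have e' := congrArg t e
      simp only [π, map_add, map_smul, hta, e1] at e'
      rw [show t (t⁻¹ (p w)) = p w from t.apply_symm_apply _] at e'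
      exact ⟨-B (t⁻¹ (p w)) b, by rw [neg_smul, ← sub_eq_add_neg]; exact eq_sub_of_add_eq e'⟩
  have hform : ∀ p ∈ P, ∀ x, p x = x + B x a • π (p b - b) +
      (B x (π (p b - b)) + B (p b - b) b * B x a) • a := fun p hp x => by
    have hu := (hW _).1 (hπ (p b - b) (by simp [hpa p hp]))
    have eb : p b = b + π (p b - b) + B (p b - b) b • a := by
      simp only [π]
      match_scalars <;> grind
    generalize π (p b - b) = u at hu eb
    generalize B (p b - b) b = κ at eb
    obtain ⟨c, hc⟩ := hfix p hp (x + B x a • b) (by simp [hab]; grind)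
    have := (hPa p hp).1 (x + B x a • b) b
    rw [hc, eb] at this
    simp only [map_add, map_smul, LinearMap.add_apply, LinearMap.smul_apply, smul_eq_mul, hab, hba,
      h.self, h.sym b u, h.sym a u, hu.1, hu.2] at this
    rw [map_add, map_smul, eb] at hc
    have hc' : c = B x u := by grind
    rw [eq_sub_of_add_eq hc, hc']
    match_scalars <;> grind
  let θ : X → W := fun x => ⟨π (x.1 b - b), hπ _ (by simp [hpa x (hXP x.2)])⟩
  have hθ : Function.Injective θ := fun x y e => by
    have e' : π (x.1 b - b) = π (y.1 b - b) := congrArg Subtype.val e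
    have hu := (hW _).1 (θ y).2
    have hx := hform x (hXP x.2)
    have hy := hform y (hXP y.2)
    rw [e'] at hx
    change B (π (y.1 b - b)) a = 0 ∧ B (π (y.1 b - b)) b = 0 at hu
    generalize π (y.1 b - b) = u at hu hx hy
    generalize B (x.1 b - b) b = κ at hx
    generalize B (y.1 b - b) b = κ' at hy
    by_cases hκ : κ + κ' = 0
    · exact Subtype.ext (LinearEquiv.ext fun v => by rw [hx, hy, show κ = κ' by grind])
    · refine absurd ?_ (hntv _ (X.mul_mem x.2 y.2))
      have hv : ∀ v, (((x.1 * y.1 : V ≃ₗ[F] V) : V →ₗ[F] V) - LinearMap.id : V →ₗ[F] V) v =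
          ((κ + κ') * B v a) • a := fun v => by
        change x.1 (y.1 v) - v = _
        rw [hx, hy]
        simp only [map_add, map_smul, LinearMap.add_apply, LinearMap.smul_apply, smul_eq_mul,
          h.self, h.sym a u, hu.1]
        match_scalars <;> grind
      suffices LinearMap.range (((x.1 * y.1 : V ≃ₗ[F] V) : V →ₗ[F] V) - LinearMap.id) = F ∙ a by
        rw [this, finrank_span_singleton ha0]
      refine le_antisymm ?_ ?_
      · rintro _ ⟨v, rfl⟩
        rw [hv]
        exact Submodule.smul_mem _ _ (Submodule.mem_span_singleton_self a)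
      · rw [Submodule.span_singleton_le_iff_mem]
        exact ⟨(κ + κ')⁻¹ • b, by rw [hv]; simp [hab, hκ]⟩
  have hs := (hθ.bijective_of_nat_card_le (by rw [hcW, hcard])).2
  intro u hu
  obtain ⟨x, hx⟩ := hs ⟨π u, hπ u hu⟩
  have hx' : π (x.1 b - b) = π u := congrArg Subtype.val hx
  refine ⟨B (x.1 b - b) b, (h.shift ⟨x.1, hXL x.2, hform x (hXP x.2)⟩ (B u b)).of_eq ?_ rfl⟩
  rw [hx', add_assoc, h.add_self, add_zero]

end SpX

end Cfsg.Agent.H26
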