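import Mathlib
import Cfsg.Agent.H42.ALDefs
import Cfsg.Agent.H30.DecCore

/-!
The space `F₄ ⊗ O₄⁻(2)`: Eichler maps over `F₄`, finite checks, Witt's theorem inside `Ω`.
-/

set_option autoImplicit false
set_option Elab.async false

namespace Cfsg.Agent.H26.ALP

open Cfsg Cfsg.Agent.H28 Cfsg.Agent.H30 Cfsg.Agent.H42.AL QuadraticMap Module
open Cfsg.Agent.H42.AS (om)

abbrev M : Type := N4 × N4

instance : DecidableEq M := inferInstance

def pb (x y : N4) : ZMod 2 :=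
  x (.inl (.inl 0)) * y (.inl (.inr 0)) + x (.inl (.inr 0)) * y (.inl (.inl 0)) +
    (x (.inr 0) * y (.inr 1) + x (.inr 1) * y (.inr 0))

def pq (x : N4) : ZMod 2 :=
  x (.inl (.inl 0)) * x (.inl (.inr 0)) +
    (x (.inr 0) * x (.inr 0) + x (.inr 0) * x (.inr 1) + x (.inr 1) * x (.inr 1))

theorem polar_eq (x y : N4) : polar q4 x y = pb x y := by
  rw [polar_qMinus, Fin.sum_univ_one, show (2 : ZMod 2) = 0 from rfl, pb]; ring

theorem q_eq (x : N4) : q4 x = pq x := by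
  rw [qMinus_apply, Fin.sum_univ_one, pq]; ring

def bq' (x y : M) : F4 := ⟨pb x.1 y.1 + pb x.2 y.2, pb x.1 y.2 + pb x.2 y.1 + pb x.2 y.2⟩

def qq' (x : M) : F4 := ⟨pq x.1 + pq x.2, pb x.1 x.2 + pq x.2⟩

theorem bq_eq (x y : M) : bq x y = bq' x y := by simp only [bq, bq', polar_eq]

theorem qq_eq (x : M) : qq x = qq' x := by simp only [qq, qq', polar_eq, q_eq]

def e1 : M := (vP', vP)
def f1 : M := (vP + vP', vP)
def e2 : M := (vE, 0)
def f2 : M := (vF, 0)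

/-- The Eichler map over `F₄`. -/
def eF (e n y : M) : M := y + sm (bq' y e) n + sm (bq' y n) e + sm (qq' n * bq' y e) e

/-- A real map. -/
def re (φ : O q4) (x : M) : M := (φ.1 x.1, φ.1 x.2)

def n1 (x y : F4) : M := sm x f1 + sm y e1

/-- The diagonal map on the second hyperbolic plane. -/
def dg (d : F4) (x : M) : M :=
  sm (bq' x f1) e1 + sm (bq' x e1) f1 + sm (d * bq' x f2) e2 + sm (d ^ 2 * bq' x e2) f2

/-- The swap on the second hyperbolic plane. -/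
def sw (d : F4) (x : M) : M :=
  sm (bq' x f1) e1 + sm (bq' x e1) f1 + sm (d * bq' x f2) f2 + sm (d ^ 2 * bq' x e2) e2

theorem add_self (x : M) : x + x = 0 := by
  ext <;> simp [CharTwo.add_self_eq_zero]

theorem add_sm (s t : F4) (x : M) : sm (s + t) x = sm s x + sm t x := by
  simp only [sm, QuadraticAlgebra.re_add, QuadraticAlgebra.im_add, add_smul, Prod.mk_add_mk]
  congr 1 <;> abel

theorem one_sm (x : M) : sm 1 x = x := by
  simp [sm, QuadraticAlgebra.re_one, QuadraticAlgebra.im_one]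

theorem bq_add (x y z : M) : bq' (x + y) z = bq' x z + bq' y z := by
  simp only [← bq_eq, bq, Prod.fst_add, Prod.snd_add, polar_add_left]
  ext
  · simp only [QuadraticAlgebra.re_add]; ring
  · simp only [QuadraticAlgebra.im_add]; ring

theorem eF_add (e n x y : M) : eF e n (x + y) = eF e n x + eF e n y := by
  simp only [eF, bq_add, mul_add, add_sm]; abel

theorem dg_add (d : F4) (x y : M) : dg d (x + y) = dg d x + dg d y := by
  simp only [dg, bq_add, mul_add, add_sm]; abel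

theorem sw_add (d : F4) (x y : M) : sw d (x + y) = sw d x + sw d y := by
  simp only [sw, bq_add, mul_add, add_sm]; abel

theorem bq_sm (s : F4) (x y : M) : bq (sm s x) y = s * bq x y := by
  obtain ⟨a, b⟩ := s
  simp only [bq, sm, polar_add_left, polar_smul_left']
  generalize polar q4 x.1 y.1 = p, polar q4 x.1 y.2 = q, polar q4 x.2 y.1 = r, polar q4 x.2 y.2 = t
  revert a b p q r t
  decide

theorem bq_ext {x x' : M} (h : ∀ y, bq x y = bq x' y) : x = x' :=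
  Prod.ext (eq_of_polar hq4 fun y => by
      simpa [bq] using congrArg QuadraticAlgebra.re (h (y, 0)))
    (eq_of_polar hq4 fun y => by
      simpa [bq] using congrArg QuadraticAlgebra.im (h (y, 0)))

theorem eF_real {u : N4} {n : M} (h1 : pq u = 0) (h2 : n.2 = 0) (h : pb u n.1 = 0) (y : M) :
    eF (u, 0) n y = re (eich q4 u n.1) y := by
  obtain ⟨n, _⟩ := n
  subst h2
  have h3 : ∀ x, pb x 0 = 0 := fun x => by simp [pb]
  have h4 : pq 0 = 0 := by decide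
  have h5 : ∀ x : N4, -x = x := fun x => by ext; simp
  simp only [re, eich_apply ((q_eq _).trans h1) ((polar_eq _ _).trans h), polar_eq, q_eq, eF, bq',
    qq', sm, h3, h4, sub_eq_add_neg, h5]
  ext <;> simp

set_option synthInstance.maxSize 2000 in
theorem chk_s : ∀ l : F4, l ≠ 0 → ∀ v β t : F4,
    sm t e1 + sm (l * (t * β)) e2 = eF e2 (n1 (l * β) (l * v * β ^ 2)) (sm t e1) ∧
    sm t f1 + sm (l * (v * β ^ 2 * t)) e2 + 0 = eF e2 (n1 (l * β) (l * v * β ^ 2)) (sm t f1) ∧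
    sm (v * β ^ 2 * t) e1 + sm (β * t) f1 + sm (l * (v * β ^ 3 * t)) e2 + sm (l ^ 2 * t) f2 + 0 =
      eF e2 (n1 (l * β) (l * v * β ^ 2)) (sm (l ^ 2 * t) f2) ∧
    sm (l * t) e2 = eF e2 (n1 (l * β) (l * v * β ^ 2)) (sm (l * t) e2) := by decide +kernel

set_option synthInstance.maxSize 2000 in
theorem chk_s' : ∀ l : F4, l ≠ 0 → ∀ v β t : F4,
    sm t e1 + sm (l ^ 2 * (t * β)) f2 = eF f2 (n1 (l ^ 2 * β) (l ^ 2 * v * β ^ 2)) (sm t e1) ∧
    sm t f1 + sm (l ^ 2 * (v * β ^ 2 * t)) f2 + 0 =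
      eF f2 (n1 (l ^ 2 * β) (l ^ 2 * v * β ^ 2)) (sm t f1) ∧
    sm (v * β ^ 2 * t) e1 + sm (β * t) f1 + sm (l ^ 2 * (v * β ^ 3 * t)) f2 + sm (l * t) e2 + 0 =
      eF f2 (n1 (l ^ 2 * β) (l ^ 2 * v * β ^ 2)) (sm (l * t) e2) ∧
    sm (l ^ 2 * t) f2 = eF f2 (n1 (l ^ 2 * β) (l ^ 2 * v * β ^ 2)) (sm (l ^ 2 * t) f2) := by
  decide +kernel

theorem chk_n : ∀ t : F4, (n1 t (t ^ 2)).2 = 0 ∧ pb vE (n1 t (t ^ 2)).1 = 0 ∧
    pb vF (n1 t (t ^ 2)).1 = 0 := by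
  decide +kernel

theorem chk_span : ∀ m : N4, (pb vE m = 0 → ∃ t : F4, ∃ a : ZMod 2, m = (n1 t (t ^ 2)).1 + a • vE) ∧
    (pb vF m = 0 → ∃ t : F4, ∃ a : ZMod 2, m = (n1 t (t ^ 2)).1 + a • vF) := by decide +kernel

set_option synthInstance.maxSize 2000 in
theorem chk_word : ∀ v v' : F4, v * v' ≠ 1 → ¬ (v = 0 ∧ v' = 0) → ∃ a b c : F4,
    (∃ x, eF e2 (n1 (1 * a) (1 * v * a ^ 2)) (eF f2 (n1 (1 ^ 2 * b) (1 ^ 2 * v' * b ^ 2))
      (eF e2 (n1 (1 * c) (1 * v * c ^ 2)) (sm 1 e1))) = sm (1 ^ 2 * x) f2) ∨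
    ∃ x, eF f2 (n1 (1 ^ 2 * a) (1 ^ 2 * v' * a ^ 2)) (eF e2 (n1 (1 * b) (1 * v * b ^ 2))
      (eF f2 (n1 (1 ^ 2 * c) (1 ^ 2 * v' * c ^ 2)) (sm 1 e1))) = sm (1 * x) e2 := by
  decide +kernel

set_option synthInstance.maxSize 2000 in
theorem chk_sing : ∀ x : M, qq' x = 0 → pq x.1 = 0 → ∃ a b c : F4,
    eF f2 (n1 a (a ^ 2)) (eF e2 (n1 b (b ^ 2)) x) = sm c e2 := by
  decide +kernel

set_option synthInstance.maxSize 2000 in
theorem chk_f : ∀ z : M, ∀ t : F4, t ≠ 0 → bq' z e2 = 0 → bq' z f2 = 0 → bq' z (sm 1 e1) = t →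
    qq' z = 0 → z = sm t f1 := by
  decide +kernel

set_option synthInstance.maxSize 2000 in
theorem chk_dg : ∀ l : F4, l ≠ 0 → ∀ d : F4, d ≠ 0 → ∀ t : F4,
    sm t e1 = dg d (sm t e1) ∧ sm t f1 = dg d (sm t f1) ∧
    sm (l * (d * t)) e2 = dg d (sm (l * t) e2) ∧
    sm (l ^ 2 * (d ^ 2 * t)) f2 = dg d (sm (l ^ 2 * t) f2) ∧
    sm t e1 = sw (l * d) (sm t e1) ∧ sm t f1 = sw (l * d) (sm t f1) ∧
    sm (l ^ 2 * (d * t)) f2 = sw (l * d) (sm (l * t) e2) ∧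
    sm (l * (d ^ 2 * t)) e2 = sw (l * d) (sm (l ^ 2 * t) f2) := by
  decide +kernel

theorem dg_one : ∀ x : M, dg 1 x = x := by decide +kernel

theorem bq_sm' (s : F4) (x y : M) : bq' (sm s x) y = s * bq' x y := by
  rw [← bq_eq, ← bq_eq, bq_sm]

theorem dg_inv (d : F4) (h : d ≠ 0) (x : M) : dg (d ^ 2) (dg d x) = x ∧ sw d (sw d x) = x := by
  have k : bq' e1 e1 = 0 ∧ bq' e1 f1 = 1 ∧ bq' e1 e2 = 0 ∧ bq' e1 f2 = 0 ∧
      bq' f1 e1 = 1 ∧ bq' f1 f1 = 0 ∧ bq' f1 e2 = 0 ∧ bq' f1 f2 = 0 ∧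
      bq' e2 e1 = 0 ∧ bq' e2 f1 = 0 ∧ bq' e2 e2 = 0 ∧ bq' e2 f2 = 1 ∧
      bq' f2 e1 = 0 ∧ bq' f2 f1 = 0 ∧ bq' f2 e2 = 1 ∧ bq' f2 f2 = 0 := by decide +kernel
  have j : ∀ d : F4, d ≠ 0 → ∀ a, d ^ 2 * (d * a) = 1 * a ∧ (d ^ 2) ^ 2 * (d ^ 2 * a) = 1 ^ 2 * a ∧
      d * (d ^ 2 * a) = 1 ^ 2 * a := by decide
  constructor
  · conv_rhs => rw [← dg_one x]
    rw [dg, dg.eq_1 d]
    simp only [bq_add, bq_sm', k, mul_zero, mul_one, add_zero, zero_add, j d h]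
    rfl
  · conv_rhs => rw [← dg_one x]
    rw [sw, sw.eq_1 d x]
    simp only [bq_add, bq_sm', k, mul_zero, mul_one, add_zero, zero_add, j d h]
    rw [add_right_comm]
    rfl

set_option synthInstance.maxSize 2000 in
theorem chk_one : ∀ d : F4, d ≠ 0 →
    (eF e2 (n1 d (d ^ 2)) (dg d (eF e2 (n1 1 (1 ^ 2)) (dg (d ^ 2) (sm 1 e1)))) = sm 1 e1 ∧
      (eF e2 (n1 d (d ^ 2)) (dg d (eF e2 (n1 1 (1 ^ 2)) (dg (d ^ 2) (sm 1 f1)))) = sm 1 f1 → d = 1)) ∧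
    (eF f2 (n1 d (d ^ 2)) (sw d (eF e2 (n1 1 (1 ^ 2)) (sw d (sm 1 e1)))) = sm 1 e1 ∧
      (eF f2 (n1 d (d ^ 2)) (sw d (eF e2 (n1 1 (1 ^ 2)) (sw d (sm 1 f1)))) = sm 1 f1 → d = 1)) := by
  decide +kernel

theorem sw_one (x : M) : sw 1 x = re (refl q4 (vE + vF)) x := by
  have h2 : q4 (vE + vF) = 1 := by rw [q_eq]; decide
  simp only [re, refl_apply, h2, inv_one, one_mul, polar_eq]
  revert x
  decide +kernel

theorem chk_triv : ∀ l : F4, l ≠ 0 → ∀ d : F4,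
    (dg d (sm (l * 1) e2) = sm (l * 1) e2 → d = 1) ∧ sw d (sm (l * 1) e2) ≠ sm (l * 1) e2 := by
  decide +kernel

theorem indep {x y : N4} (h : polar q4 x y = 1) : LinearIndependent (ZMod 2) ![x, y] := by
  have h0 : ∀ z : N4, polar q4 z z = 0 := fun z => by
    rw [polar_self', show (2 : ZMod 2) = 0 from rfl, zero_mul]
  refine LinearIndependent.pair_iff.2 fun s t e => ⟨?_, ?_⟩
  · simpa [polar_add_left, polar_smul_left', h, h0] using congrArg (polar q4 · y) e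
  · simpa [polar_add_right, polar_smul_right', h, h0] using congrArg (polar q4 x) e

/-- `Ω` is transitive on the isotropic vectors of the type of `e₁`. -/
theorem witt_e1 {x : M} (h : qq x = 0) (h1 : q4 x.1 = 1) :
    ∃ φ ∈ kerDS hq4, re φ x = sm 1 e1 := by
  have h2 : q4 x.1 + q4 x.2 = 0 := congrArg QuadraticAlgebra.re h
  have h3 : polar q4 x.1 x.2 + q4 x.2 = 0 := congrArg QuadraticAlgebra.im h
  have h4 : q4 x.2 = 1 := by rw [h1] at h2; revert h2; generalize q4 x.2 = a; revert a; decide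
  have h5 : polar q4 x.1 x.2 = 1 := by
    rw [h4] at h3; revert h3; generalize polar q4 x.1 x.2 = a; revert a; decide
  have h6 : polar q4 vP' vP = 1 := by rw [polar_eq]; decide
  obtain ⟨φ, e, e'⟩ := witt_two hq4 (indep h5) (indep h6)
    (by rw [h1, q_eq]; decide) (by rw [h4, q_eq]; decide) (h5.trans h6.symm)
  rw [one_sm]
  rcases Int.units_eq_one_or (dickson hq4 φ) with k | k
  · exact ⟨φ, (mem_kerDS_of_two_eq_zero _ rfl).2 k, Prod.ext e e'⟩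
  · refine ⟨refl q4 (vE + vF) * φ, (mem_kerDS_of_two_eq_zero _ rfl).2 (by
      rw [map_mul, k, dickson_refl _ (by rw [q_eq]; decide)]; simp), Prod.ext ?_ ?_⟩
    · change (refl q4 (vE + vF)).1 (φ.1 x.1) = vP'
      rw [e, refl_apply_of_orth (by rw [polar_eq]; decide)]
    · change (refl q4 (vE + vF)).1 (φ.1 x.2) = vP
      rw [e', refl_apply_of_orth (by rw [polar_eq]; decide)]

set_option synthInstance.maxSize 2000 in
theorem not_exc : ¬ IsExc q4 := by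
  rintro ⟨-, -, u, v, h, h1, h2, h3⟩
  rw [q_eq] at h1 h2
  rw [polar_eq] at h3
  have k : ∀ u v : N4, pq u = 0 → pq v = 0 → pb u v = 0 →
      ∃ s t : ZMod 2, s • u + t • v = 0 ∧ ¬ (s = 0 ∧ t = 0) := by decide +kernel
  obtain ⟨s, t, e, hn⟩ := k u v h1 h2 h3
  exact hn (LinearIndependent.pair_iff.1 h s t e)

theorem kerDS_le_of {H : Subgroup (O q4)} (h1 : ∀ t, eich q4 vE (n1 t (t ^ 2)).1 ∈ H)
    (h3 : ∀ t, eich q4 vF (n1 t (t ^ 2)).1 ∈ H) : kerDS hq4 ≤ H := by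
  have hE : FullAt H vE := ⟨by rw [q_eq]; decide, fun m hm => by
    obtain ⟨t, a, rfl⟩ := (chk_span m).1 ((polar_eq _ _).symm.trans hm)
    rw [eich_add_smul]
    exact h1 t⟩
  have hF : FullAt H vF := ⟨by rw [q_eq]; decide, fun m hm => by
    obtain ⟨t, a, rfl⟩ := (chk_span m).2 ((polar_eq _ _).symm.trans hm)
    rw [eich_add_smul]
    exact h3 t⟩
  rw [← eichGroup_eq_kerDS _ not_exc (by simp)]
  exact hE.eichGroup_le hq4 hF (by rw [polar_eq]; decide)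

end Cfsg.Agent.H26.ALP
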