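import Mathlib
import Cfsg.Agent.H42.ASDefs
import Cfsg.Agent.H30.DecCore

/-!
The space `F₄ ⊗ O₆⁺(2)`: Eichler maps over `F₄`, finite checks, Witt's theorem inside `Ω`.
-/

set_option autoImplicit false

namespace Cfsg.Agent.H26.AP

open Cfsg Cfsg.Agent.H28 Cfsg.Agent.H30 Cfsg.Agent.H42.AS QuadraticMap Module

abbrev M : Type := N6 × N6

instance : DecidableEq M := inferInstance

def pb (x y : N6) : ZMod 2 :=
  x (.inl 0) * y (.inr 0) + x (.inr 0) * y (.inl 0) + (x (.inl 1) * y (.inr 1) + x (.inr 1) * y (.inl 1)) +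
    (x (.inl 2) * y (.inr 2) + x (.inr 2) * y (.inl 2))

def pq (x : N6) : ZMod 2 :=
  x (.inl 0) * x (.inr 0) + x (.inl 1) * x (.inr 1) + x (.inl 2) * x (.inr 2)

theorem polar_eq (x y : N6) : polar q6 x y = pb x y := by
  rw [polar_qPlus, Fin.sum_univ_three]; rfl

theorem q_eq (x : N6) : q6 x = pq x := by
  rw [qPlus_apply, Fin.sum_univ_three]; rfl

def bq' (x y : M) : F4 := ⟨pb x.1 y.1 + pb x.2 y.2, pb x.1 y.2 + pb x.2 y.1 + pb x.2 y.2⟩

def qq' (x : M) : F4 := ⟨pq x.1 + pq x.2, pb x.1 x.2 + pq x.2⟩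

theorem bq_eq (x y : M) : bq x y = bq' x y := by simp only [bq, bq', polar_eq]

def e1 : M := (vP', vP)
def f1 : M := (vP + vP', vP)
def e2 : M := (vE, 0)
def f2 : M := (vF, 0)
def e3 : M := (vT', vT)
def f3 : M := (vT + vT', vT)

/-- The Eichler map over `F₄`. -/
def eF (e n y : M) : M := y + sm (bq' y e) n + sm (bq' y n) e + sm (qq' n * bq' y e) e

/-- A real map. -/
def re (φ : O q6) (x : M) : M := (φ.1 x.1, φ.1 x.2)

def n1 (v β : F4) : M := sm β f1 + sm (v * β ^ 2) e1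
def n3 (t : F4) : M := sm (t ^ 2) e3 + sm t f3

theorem add_self (x : M) : x + x = 0 := by
  ext <;> simp [CharTwo.add_self_eq_zero]

theorem sm_add (s : F4) (x y : M) : sm s (x + y) = sm s x + sm s y := by
  simp only [sm, Prod.fst_add, Prod.snd_add, smul_add, Prod.mk_add_mk]
  congr 1 <;> abel

theorem add_sm (s t : F4) (x : M) : sm (s + t) x = sm s x + sm t x := by
  simp only [sm, QuadraticAlgebra.re_add, QuadraticAlgebra.im_add, add_smul, Prod.mk_add_mk]
  congr 1 <;> abel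

theorem one_sm (x : M) : sm 1 x = x := by
  simp [sm, QuadraticAlgebra.re_one, QuadraticAlgebra.im_one]

theorem bq_add (x y z : M) : bq' (x + y) z = bq' x z + bq' y z := by
  simp only [← bq_eq, bq, Prod.fst_add, Prod.snd_add, polar_add_left]
  ext
  · simp only [QuadraticAlgebra.re_add]; ring
  · simp only [QuadraticAlgebra.im_add]; ring

theorem eF_add (e n x y : M) : eF e n (x + y) = eF e n x + eF e n y := by
  simp only [eF, bq_add, mul_add, add_sm]; abel

theorem re_add (φ : O q6) (x y : M) : re φ (x + y) = re φ x + re φ y := by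
  simp [re]

theorem re_sm (φ : O q6) (s : F4) (x : M) : re φ (sm s x) = sm s (re φ x) := by
  simp [re, sm]

theorem bq_sm (s : F4) (x y : M) : bq (sm s x) y = s * bq x y := by
  obtain ⟨a, b⟩ := s
  simp only [bq, sm, polar_add_left, polar_smul_left']
  generalize polar q6 x.1 y.1 = p, polar q6 x.1 y.2 = q, polar q6 x.2 y.1 = r, polar q6 x.2 y.2 = t
  revert a b p q r t
  decide

theorem bq_ext {x x' : M} (h : ∀ y, bq x y = bq x' y) : x = x' :=
  Prod.ext (eq_of_polar (qPlus_nondegenerate 3) fun y => by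
      simpa [bq] using congrArg QuadraticAlgebra.re (h (y, 0)))
    (eq_of_polar (qPlus_nondegenerate 3) fun y => by
      simpa [bq] using congrArg QuadraticAlgebra.im (h (y, 0)))

theorem eF_real {n : M} (h2 : n.2 = 0) (h : pb vE n.1 = 0) (y : M) :
    eF e2 n y = re (eich q6 vE n.1) y := by
  obtain ⟨n, _⟩ := n
  subst h2
  have h1 : q6 vE = 0 := by rw [q_eq]; decide
  have h3 : ∀ x, pb x 0 = 0 := fun x => by simp [pb]
  have h4 : pq 0 = 0 := by decide
  have h5 : ∀ x : N6, -x = x := fun x => by ext; simp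
  simp only [re, eich_apply h1 ((polar_eq _ _).trans h), polar_eq, q_eq, eF, e2, bq', qq', sm, h3, h4,
    sub_eq_add_neg, h5]
  ext <;> simp [QuadraticAlgebra.re_mul, QuadraticAlgebra.im_mul]

set_option synthInstance.maxSize 2000 in
theorem chk_s : ∀ v β t : F4,
    sm t e1 + sm (t * β) e2 = eF e2 (n1 v β) (sm t e1) ∧
    sm t f1 + sm (v * β ^ 2 * t) e2 + 0 = eF e2 (n1 v β) (sm t f1) ∧
    sm (v * β ^ 2 * t) e1 + sm (β * t) f1 + sm (v * β ^ 3 * t) e2 + sm t f2 + 0 =
      eF e2 (n1 v β) (sm t f2) ∧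
    sm t f3 = eF e2 (n1 v β) (sm t f3) ∧ sm t e3 = eF e2 (n1 v β) (sm t e3) ∧
    sm t e2 = eF e2 (n1 v β) (sm t e2) := by decide +kernel

set_option synthInstance.maxSize 2000 in
theorem chk_a : ∀ t u : F4,
    sm u e1 = eF e2 (n3 t) (sm u e1) ∧ sm u f1 = eF e2 (n3 t) (sm u f1) ∧
    sm u f2 + sm (t * u) f3 + sm (t ^ 2 * u) e3 + sm (t ^ 3 * u) e2 + 0 = eF e2 (n3 t) (sm u f2) ∧
    sm u f3 + sm (t ^ 2 * u) e2 + 0 = eF e2 (n3 t) (sm u f3) ∧
    sm u e3 + sm (t * u) e2 = eF e2 (n3 t) (sm u e3) ∧ sm u e2 = eF e2 (n3 t) (sm u e2) := by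
  decide +kernel

theorem chk_n : ∀ t : F4, (n3 t).2 = 0 ∧ pb vE (n3 t).1 = 0 ∧ (n1 1 t).2 = 0 ∧ pb vE (n1 1 t).1 = 0 := by
  decide +kernel

theorem chk_span : ∀ m : N6, pb vE m = 0 →
    ∃ t u : F4, ∃ a : ZMod 2, m = (n1 1 t).1 + (n3 u).1 + a • vE := by decide +kernel

/-- The action of `n_a`. -/
noncomputable def nu : O q6 := refl q6 (vE + vF) * refl q6 vT

def nu' (x : N6) : N6 := x + pb x vT • vT + pb x (vE + vF) • (vE + vF)

theorem nu_apply (x : N6) : nu.1 x = nu' x := by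
  have h1 : q6 vT = 1 := by rw [q_eq]; decide
  have h2 : q6 (vE + vF) = 1 := by rw [q_eq]; decide
  rw [nu, O_mul_apply, refl_apply, refl_apply, h1, h2, inv_one, one_mul, one_mul, polar_eq, polar_eq]
  revert x
  decide +kernel

theorem nu_mem : nu ∈ kerDS (qPlus_nondegenerate (F := ZMod 2) 3) :=
  (refl_mul_refl_mem_kerDS_iff _ (by rw [q_eq]; decide) (by rw [q_eq]; decide)).2
    (isSquare_of_two_eq_zero (by decide) _)

theorem chk_nu : re nu e1 = e1 ∧ re nu f1 = f1 ∧ re nu f2 = e2 ∧ re nu f3 = e3 ∧ re nu e3 = f3 ∧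
    re nu e2 = f2 := by
  simp only [re, nu_apply]
  decide +kernel

theorem chk_word {v : F4} (h0 : v ≠ 0) (h1 : v ≠ 1) :
    re nu (eF e2 (n1 v v) (re nu (eF e2 (n1 v 1) (re nu (eF e2 (n1 v 1) (sm 1 e1)))))) =
      sm (1 + v) e2 := by
  simp only [re, nu_apply]
  revert v
  decide +kernel

theorem bq_e1_f1 : bq (sm 1 e1) (sm 1 f1) = 1 := by rw [bq_eq]; decide +kernel

theorem indep {x y : N6} (h : polar q6 x y = 1) : LinearIndependent (ZMod 2) ![x, y] := by
  have h0 : ∀ z : N6, polar q6 z z = 0 := fun z => by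
    rw [polar_self', show (2 : ZMod 2) = 0 from rfl, zero_mul]
  refine LinearIndependent.pair_iff.2 fun s t e => ⟨?_, ?_⟩
  · simpa [polar_add_left, polar_smul_left', h, h0] using congrArg (polar q6 · y) e
  · simpa [polar_add_right, polar_smul_right', h, h0] using congrArg (polar q6 x) e

/-- `Ω` is transitive on the isotropic vectors of the type of `e₁`. -/
theorem witt_e1 {x : M} (h : qq x = 0) (h1 : q6 x.1 = 1) :
    ∃ φ ∈ kerDS (qPlus_nondegenerate (F := ZMod 2) 3), re φ x = sm 1 e1 := by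
  have h2 : q6 x.1 + q6 x.2 = 0 := congrArg QuadraticAlgebra.re h
  have h3 : polar q6 x.1 x.2 + q6 x.2 = 0 := congrArg QuadraticAlgebra.im h
  have h4 : q6 x.2 = 1 := by rw [h1] at h2; revert h2; generalize q6 x.2 = a; revert a; decide
  have h5 : polar q6 x.1 x.2 = 1 := by
    rw [h4] at h3; revert h3; generalize polar q6 x.1 x.2 = a; revert a; decide
  have h6 : polar q6 vP' vP = 1 := by rw [polar_eq]; decide
  obtain ⟨φ, e, e'⟩ := witt_two (qPlus_nondegenerate 3) (indep h5) (indep h6)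
    (by rw [h1, q_eq]; decide) (by rw [h4, q_eq]; decide) (h5.trans h6.symm)
  rw [one_sm]
  rcases Int.units_eq_one_or (dickson (qPlus_nondegenerate 3) φ) with k | k
  · exact ⟨φ, (mem_kerDS_of_two_eq_zero _ rfl).2 k, Prod.ext e e'⟩
  · refine ⟨refl q6 vT * φ, (mem_kerDS_of_two_eq_zero _ rfl).2 (by
      rw [map_mul, k, dickson_refl _ (by rw [q_eq]; decide)]; simp), Prod.ext ?_ ?_⟩
    · change (refl q6 vT).1 (φ.1 x.1) = vP'
      rw [e, refl_apply_of_orth (by rw [polar_eq]; decide)]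
    · change (refl q6 vT).1 (φ.1 x.2) = vP
      rw [e', refl_apply_of_orth (by rw [polar_eq]; decide)]

theorem exists_m (x y : N6) : ∃ m, q6 m ≠ 0 ∧ polar q6 x m = 0 ∧ polar q6 y m = 0 := by
  by_contra h0
  push Not at h0
  have hQ : (polarBilin q6).Nondegenerate := qPlus_nondegenerate 3
  set S := Submodule.span (ZMod 2) {x, y}
  have h1 : ∀ m ∈ perp q6 S, q6 m = 0 := fun m hm => by_contra fun k =>
    h0 m k (mem_perp_span.1 hm x (by simp)) (mem_perp_span.1 hm y (by simp))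
  have h2 : perp q6 S ≤ S := fun m hm => (perp_perp hQ S).le (mem_perp.2 fun w hw => by
    have := Q_add q6 w m
    rwa [h1 _ (add_mem hw hm), h1 w hw, h1 m hm, zero_add, zero_add, eq_comm] at this)
  have h3 := Submodule.finrank_mono h2
  have h4 := finrank_add_finrank_perp hQ S
  have h5 : finrank (ZMod 2) S ≤ 2 := by
    classical
    exact (finrank_span_le_card _).trans (by rw [Set.toFinset_insert]; exact Finset.card_le_two)
  rw [finrank_fintype_fun_eq_card, Fintype.card_sum, Fintype.card_fin] at h4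
  omega

theorem orth_of_fix {u m z : N6} (hu : q6 u = 0) (hm : q6 m ≠ 0) (h : polar q6 u m = 0)
    (e : (eich q6 u m).1 z = z) : polar q6 z u = 0 := by
  by_contra k
  rw [eich_apply hu h] at e
  have h1 : polar q6 z u • m = (polar q6 z m + q6 m * polar q6 z u) • u := by
    rw [add_smul]; linear_combination (exp := 1) e
  have h2 := congrArg q6 h1
  rw [Q_smul, Q_smul, hu, mul_zero] at h2
  exact mul_ne_zero (mul_ne_zero k k) hm h2

/-- A totally singular vector `x` is orthogonal to everything its stabilizer in `Ω` fixes. -/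
theorem sing_orth {x z : M} (h : qq x = 0) (h1 : q6 x.1 = 0)
    (hz : ∀ φ ∈ kerDS (qPlus_nondegenerate (F := ZMod 2) 3), re φ x = x → re φ z = z) :
    bq x z = 0 := by
  have h2 : q6 x.2 = 0 := by simpa [qq, h1] using congrArg QuadraticAlgebra.re h
  have h3 : polar q6 x.1 x.2 = 0 := by simpa [qq, h2] using congrArg QuadraticAlgebra.im h
  obtain ⟨m, hm, m1, m2⟩ := exists_m x.1 x.2
  have k1 := hz _ (eich_mem_kerDS _ x.1 m)
    (Prod.ext (eich_apply_self _ _) (eich_apply_of_orth ((polar_comm _ _ _).trans h3) m2))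
  have k2 := hz _ (eich_mem_kerDS _ x.2 m)
    (Prod.ext (eich_apply_of_orth h3 m1) (eich_apply_self _ _))
  simp only [bq, polar_comm q6 x.1, polar_comm q6 x.2, orth_of_fix h1 hm m1 (congrArg Prod.fst k1),
    orth_of_fix h1 hm m1 (congrArg Prod.snd k1), orth_of_fix h2 hm m2 (congrArg Prod.fst k2),
    orth_of_fix h2 hm m2 (congrArg Prod.snd k2)]
  rfl

theorem kerDS_le_of {H : Subgroup (O q6)} (h1 : ∀ t, eich q6 vE (n1 1 t).1 ∈ H)
    (h3 : ∀ t, eich q6 vE (n3 t).1 ∈ H) (hn : nu ∈ H) :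
    kerDS (qPlus_nondegenerate (F := ZMod 2) 3) ≤ H := by
  have hE : q6 vE = 0 := by rw [q_eq]; decide
  have h : FullAt H vE := ⟨hE, fun m hm => by
    obtain ⟨t, u, a, rfl⟩ := chk_span m ((polar_eq _ _).symm.trans hm)
    rw [eich_add_smul, ← eich_mul hE ((polar_eq _ _).trans (chk_n t).2.2.2)
      ((polar_eq _ _).trans (chk_n u).2.1)]
    exact mul_mem (h1 t) (h3 u)⟩
  rw [← eichGroup_eq_kerDS _ (not_isExc_of_finrank (by simp)) (by simp)]
  exact h.eichGroup_le (qPlus_nondegenerate 3) (h.conj hn) (by rw [nu_apply, polar_eq]; decide)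

end Cfsg.Agent.H26.AP
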