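import Mathlib
import Cfsg.Agent.H26.AsPhiA
import Cfsg.Agent.H72.ASB

/-!
The action of `C(V) ∩ N(W)` on `W / V`.
-/

set_option autoImplicit false
set_option linter.unusedSectionVars false

namespace Cfsg.Agent.H26.AP

open Cfsg Subgroup Cfsg.Agent.H28 Cfsg.Agent.H30 Cfsg.Agent.H42.AS QuadraticMap Cfsg.Agent.H72.ASB

universe u

variable {G : Type u} [Group G] [Finite G] {D : RD G} {R Od W : Subgroup G} {r f : F4 → G}
  {c v : F4} {π : G → M} {a b g k y : G}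

def PW (W : Subgroup G) (π : G → M) (a : G) (x : M) : Prop := a ∈ W ∧ π a = x

/-- `g` normalizes `W` and acts on `W / V` as `φ`. -/
def Act (W : Subgroup G) (π : G → M) (g : G) (φ : M → M) : Prop :=
  ∀ a ∈ W, PW W π (g * a * g⁻¹) (φ (π a))

theorem Act.mul {φ ψ : M → M} (hg : Act W π g φ) (hk : Act W π k ψ) :
    Act W π (g * k) fun x => φ (ψ x) := fun a ha => by
  have := hg _ (hk a ha).1
  rw [(hk a ha).2] at this
  rwa [show g * k * a * (g * k)⁻¹ = g * (k * a * k⁻¹) * g⁻¹ by group]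

theorem PW.cast {x x' : M} (h : PW W π a x) (e : b = a) (e' : x = x') : PW W π b x' :=
  e ▸ e' ▸ h

abbrev M0 (D : RD G) (W : Subgroup G) : Subgroup G :=
  centralizer (D.V : Set G) ⊓ normalizer (W : Set G)

theorem M0_v (hg : g ∈ M0 D W) (t : F4) : g * D.xv t = D.xv t * g := (hg.1 _ (xv_V t)).symm

theorem M0_W (hg : g ∈ M0 D W) (ha : a ∈ W) : g * a * g⁻¹ ∈ W := (mem_normalizer_iff.1 hg.2 a).1 ha

/-- `g` acts as the real map `φ`. -/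
def RA (D : RD G) (W : Subgroup G) (π : G → M) (g : G) (φ : O q6) : Prop :=
  g ∈ M0 D W ∧ Act W π g (re φ)

theorem RA.one : RA D W π 1 1 := ⟨one_mem _, fun a ha => ⟨by simpa using ha, by simp [re]⟩⟩

theorem RA.mul {φ ψ : O q6} (hg : RA D W π g φ) (hk : RA D W π k ψ) : RA D W π (g * k) (φ * ψ) :=
  ⟨mul_mem hg.1 hk.1, hg.2.mul hk.2⟩

theorem RA.inv {φ : O q6} (hg : RA D W π g φ) : RA D W π g⁻¹ φ⁻¹ :=
  ⟨inv_mem hg.1, fun a ha => ⟨M0_W (inv_mem hg.1) ha, by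
    have h1 := (hg.2 _ (M0_W (inv_mem hg.1) ha)).2
    rw [show g * (g⁻¹ * a * g⁻¹⁻¹) * g⁻¹ = a by group] at h1
    rw [h1]
    exact Prod.ext (O_inv_apply _ _).symm (O_inv_apply _ _).symm⟩⟩

/-- The elements acting as a member of `Ω`. -/
def RR (D : RD G) (W : Subgroup G) (π : G → M) : Subgroup G where
  carrier := {g | ∃ φ ∈ kerDS (qPlus_nondegenerate (F := ZMod 2) 3), RA D W π g φ}
  one_mem' := ⟨1, one_mem _, RA.one⟩
  mul_mem' := fun ⟨_, h1, h2⟩ ⟨_, k1, k2⟩ => ⟨_, mul_mem h1 k1, h2.mul k2⟩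
  inv_mem' := fun ⟨_, h1, h2⟩ => ⟨_, inv_mem h1, h2.inv⟩

/-- The real maps induced by the centralizer of `Od`. -/
def HH (D : RD G) (W Od : Subgroup G) (π : G → M) : Subgroup (O q6) where
  carrier := {φ | ∃ g, RA D W π g φ ∧ g ∈ centralizer (Od : Set G)}
  one_mem' := ⟨1, RA.one, one_mem _⟩
  mul_mem' := fun ⟨_, h1, h2⟩ ⟨_, k1, k2⟩ => ⟨_, h1.mul k1, mul_mem h2 k2⟩
  inv_mem' := fun ⟨_, h1, h2⟩ => ⟨_, h1.inv, inv_mem h2⟩

structure Hy (D : RD G) (R Od W : Subgroup G) (r f : F4 → G) (c v : F4) (π : G → M) : Prop where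
  fa : D.Fa
  pd : PD D R
  wa : WA D R Od r f c
  wb : WB D r f v
  w6 : W6 D r f W π

variable (h : Hy D R Od W r f c v π)
include h

theorem Q_W : D.QA ≤ W := h.w6.W_eq ▸ le_sup_left

theorem pr (s : F4) : PW W π (r s) (sm s e1) :=
  ⟨h.w6.W_eq ▸ mem_sup_right (subset_closure (Or.inl ⟨s, rfl⟩)), h.w6.πr s⟩

theorem pf (s : F4) : PW W π (f s) (sm s f1) :=
  ⟨h.w6.W_eq ▸ mem_sup_right (subset_closure (Or.inr ⟨s, rfl⟩)), h.w6.πf s⟩

theorem pB (s : F4) : PW W π (D.xb s) (sm s f2) := ⟨Q_W h (xb_Q s), h.w6.πb s⟩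
theorem pC (s : F4) : PW W π (D.xc s) (sm s f3) := ⟨Q_W h (xc_Q s), h.w6.πc s⟩
theorem pD (s : F4) : PW W π (D.xd s) (sm s e3) := ⟨Q_W h (xd_Q s), h.w6.πd s⟩
theorem pE (s : F4) : PW W π (D.xe s) (sm s e2) := ⟨Q_W h (xe_Q s), h.w6.πe s⟩
theorem pV (s : F4) : PW W π (D.xv s) 0 :=
  ⟨Q_W h (xv_Q s), (h.w6.π_ker _ (Q_W h (xv_Q s))).2 ⟨s, rfl⟩⟩

theorem pm {x y : M} (ha : PW W π a x) (hb : PW W π b y) : PW W π (a * b) (x + y) :=
  ⟨mul_mem ha.1 hb.1, by rw [h.w6.π_mul a ha.1 b hb.1, ha.2, hb.2]⟩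

theorem pi_one : π 1 = 0 := (h.w6.π_ker _ (one_mem _)).2 ⟨0, v0 h.fa.rel⟩

theorem pi_inv (ha : a ∈ W) : π a⁻¹ = π a := by
  have h1 := h.w6.π_mul _ (inv_mem ha) _ ha
  rw [inv_mul_cancel, pi_one h, ← add_self (π a)] at h1
  exact (add_right_cancel h1).symm

theorem pi_eq (ha : a ∈ W) (hb : b ∈ W) (e : π a = π b) : ∃ t, a = b * D.xv t := by
  obtain ⟨t, ht⟩ := (h.w6.π_ker _ (mul_mem (inv_mem hb) ha)).1 (by
    rw [h.w6.π_mul _ (inv_mem hb) _ ha, pi_inv h hb, e, add_self])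
  exact ⟨t, by rw [ht, mul_inv_cancel_left]⟩

theorem conj_congr (hg : g ∈ M0 D W) (ha : a ∈ W) (hb : b ∈ W) (e : π a = π b) :
    π (g * a * g⁻¹) = π (g * b * g⁻¹) := by
  obtain ⟨t, rfl⟩ := pi_eq h ha hb e
  rw [← conj_mul, conj_of_eq (M0_v hg t), (pm h ⟨M0_W hg hb, rfl⟩ (pV h t)).2, add_zero]

theorem bq_conj (hg : g ∈ M0 D W) (ha : a ∈ W) (hb : b ∈ W) :
    bq (π (g * a * g⁻¹)) (π (g * b * g⁻¹)) = bq (π a) (π b) := by
  have h1 := h.w6.comm _ (M0_W hg ha) _ (M0_W hg hb)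
  rw [conj_mul, conj_mul, h.w6.comm a ha b hb, ← conj_mul, conj_of_eq (M0_v hg _)] at h1
  exact (v_inj h.fa.rel (mul_right_cancel h1)).symm

theorem act_gen {φ : M → M} (hφ : ∀ x y, φ (x + y) = φ x + φ y)
    (hr : ∀ s, PW W π (g * r s * g⁻¹) (φ (sm s e1))) (hf : ∀ s, PW W π (g * f s * g⁻¹) (φ (sm s f1)))
    (hb : ∀ s, PW W π (g * D.xb s * g⁻¹) (φ (sm s f2)))
    (hc : ∀ s, PW W π (g * D.xc s * g⁻¹) (φ (sm s f3)))
    (hd : ∀ s, PW W π (g * D.xd s * g⁻¹) (φ (sm s e3)))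
    (he : ∀ s, PW W π (g * D.xe s * g⁻¹) (φ (sm s e2))) (hv : ∀ t, g * D.xv t = D.xv t * g) :
    g ∈ M0 D W ∧ Act W π g φ := by
  have h0 : φ 0 = 0 := left_eq_add.1 ((congrArg φ (add_zero 0)).symm.trans (hφ 0 0))
  have hm : ∀ {a b x y}, PW W π (g * a * g⁻¹) (φ x) → PW W π (g * b * g⁻¹) (φ y) →
      PW W π (g * (a * b) * g⁻¹) (φ (x + y)) := fun k k' =>
    (pm h k k').cast conj_mul.symm (hφ _ _).symm
  have h1 : Act W π g φ := fun a ha => by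
    obtain ⟨s, t, q, hq, rfl⟩ := h.w6.wnf a ha
    obtain ⟨t1, t2, t3, t4, t5, rfl⟩ := h.fa.par.qnf q hq
    rw [(pm h (pm h (pr h s) (pf h t))
      (pm h (pm h (pm h (pm h (pB h t1) (pC h t2)) (pD h t3)) (pE h t4)) (pV h t5))).2]
    exact hm (hm (hr s) (hf t)) (hm (hm (hm (hm (hb t1) (hc t2)) (hd t3)) (he t4))
      ((pV h t5).cast (conj_of_eq (hv t5)) h0.symm))
  refine ⟨⟨fun x hx => ?_, mem_normalizer_fintype fun a ha => (h1 a ha).1⟩, h1⟩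
  obtain ⟨t, rfl⟩ := (mem_V h.fa.rel).1 hx
  exact (hv t).symm

theorem r_K (s : F4) : r s ∈ D.K := h.pd.syl.le ((h.wa.r_mem _).2 ⟨s, rfl⟩)

theorem swap_nb {x y : G} (e : D.nb * x = y * D.nb) : D.nb * y = x * D.nb := by
  calc D.nb * y = D.nb * (y * D.nb) * D.nb := by
        rw [mul_assoc, mul_assoc, h.fa.rel.nb2, mul_one]
    _ = _ := by rw [← e, ← mul_assoc, h.fa.rel.nb2, one_mul]

theorem s_comm (β : F4) {x p : G} (hp : p ∈ D.P) (e : D.nb * x = p * D.nb) :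
    sE D f β * x = x * sE D f β := by
  unfold sE
  calc _ = D.nb * (f β * p) * D.nb := by rw [mul_assoc, e]; group
    _ = _ := by rw [h.wa.fP β p hp, ← mul_assoc, swap_nb h e]; group

theorem s_r (β t : F4) : sE D f β * r t * (sE D f β)⁻¹ = r t * D.xe (t * β) := by
  refine conj_of_eq ?_
  unfold sE
  calc _ = D.nb * (f β * r t) * D.nb := by rw [mul_assoc, K_comm (r_K h t) nb_A]; group
    _ = D.nb * r t * D.xv (t * β) * f β * D.nb := by rw [h.wa.fr]; group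
    _ = r t * (D.nb * D.xv (t * β)) * f β * D.nb := by rw [K_comm (r_K h t) nb_A]; group
    _ = _ := by rw [swap_nb h (h.fa.rel.nbe _)]; group

theorem s_e (β t : F4) : sE D f β * D.xe t = D.xe t * sE D f β :=
  s_comm h β (Q_P (xv_Q t)) (h.fa.rel.nbe t)

theorem s_v (β t : F4) : sE D f β * D.xv t = D.xv t * sE D f β :=
  s_comm h β (Q_P (xe_Q t)) (swap_nb h (h.fa.rel.nbe t))

theorem act_s (β : F4) : sE D f β ∈ M0 D W ∧ Act W π (sE D f β) (eF e2 (n1 v β)) :=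
  act_gen h (eF_add _ _)
    (fun t => (pm h (pr h _) (pE h _)).cast (s_r h β t) (chk_s v β t).1)
    (fun t => (h.wb.sf β t).elim fun x e =>
      (pm h (pm h (pf h _) (pE h _)) (pV h x)).cast e (chk_s v β t).2.1)
    (fun t => (h.wb.sb β t).elim fun x e =>
      (pm h (pm h (pm h (pm h (pr h _) (pf h _)) (pE h _)) (pB h _)) (pV h x)).cast e
        (chk_s v β t).2.2.1)
    (fun t => (pC h t).cast (conj_of_eq (s_comm h β (L_P (xa_L t)) (swap_nb h (h.fa.rel.nba t))))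
      (chk_s v β t).2.2.2.1)
    (fun t => (pD h t).cast (conj_of_eq (s_comm h β (Q_P (xd_Q t)) (h.fa.rel.nbd t)))
      (chk_s v β t).2.2.2.2.1)
    (fun t => (pE h t).cast (conj_of_eq (s_e h β t)) (chk_s v β t).2.2.2.2.2) (s_v h β)

theorem act_a (t : F4) : D.xa t ∈ M0 D W ∧ Act W π (D.xa t) (eF e2 (n3 t)) :=
  act_gen h (eF_add _ _)
    (fun u => (pr h u).cast (conj_of_eq (K_comm (r_K h u) (xa_A t))) (chk_a t u).1)
    (fun u => (pf h u).cast (conj_of_eq (h.wa.fP u _ (L_P (xa_L t))).symm) (chk_a t u).2.1)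
    (fun u => (pm h (pm h (pm h (pm h (pB h _) (pC h _)) (pD h _)) (pE h _)) (pV h _)).cast
      (conj_of_eq (h.fa.rel.ab t u)) (chk_a t u).2.2.1)
    (fun u => (pm h (pm h (pC h _) (pE h _)) (pV h _)).cast (conj_of_eq (h.fa.rel.ac t u))
      (chk_a t u).2.2.2.1)
    (fun u => (pm h (pD h _) (pE h _)).cast (conj_of_eq (h.fa.rel.ad t u)) (chk_a t u).2.2.2.2.1)
    (fun u => (pE h u).cast (conj_of_eq (h.fa.rel.ae t u)) (chk_a t u).2.2.2.2.2) (h.fa.rel.av t)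

theorem act_n : RA D W π D.na nu :=
  act_gen h (re_add _)
    (fun u => (pr h u).cast (conj_of_eq (K_comm (r_K h u) na_A)) (by rw [re_sm, chk_nu.1]))
    (fun u => (pf h u).cast (conj_of_eq (h.wa.fP u _ (L_P na_L)).symm) (by rw [re_sm, chk_nu.2.1]))
    (fun u => (pE h u).cast (conj_of_eq (h.fa.rel.nab u)) (by rw [re_sm, chk_nu.2.2.1]))
    (fun u => (pD h u).cast (conj_of_eq (h.fa.rel.nac u)) (by rw [re_sm, chk_nu.2.2.2.1]))
    (fun u => (pC h u).cast (conj_of_eq (na_d h.fa.rel u)) (by rw [re_sm, chk_nu.2.2.2.2.1]))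
    (fun u => (pB h u).cast (conj_of_eq (na_e h.fa.rel u)) (by rw [re_sm, chk_nu.2.2.2.2.2]))
    h.fa.rel.nav

theorem trans (hy : ∀ s, ∃ t, y * r s * y⁻¹ = r s * D.xv t) :
    ∃ t, (f t)⁻¹ * y ∈ normalizer (R : Set G) ∧ ∀ s, y * r s * y⁻¹ = r s * D.xv (s * t) := by
  obtain ⟨t, ht⟩ := h.wa.nE y fun s => ⟨s, hy s⟩
  refine ⟨t, ht, fun s => ?_⟩
  obtain ⟨θ, e⟩ := hy s
  have hs : r s ∈ R := (h.wa.r_mem _).2 ⟨s, rfl⟩
  have h1 : (f t)⁻¹ * y * r s * ((f t)⁻¹ * y)⁻¹ = r s * D.xv (s * t + θ) := by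
    calc _ = (f t)⁻¹ * (y * r s * y⁻¹ * f t) := by group
      _ = (f t)⁻¹ * (r s * D.xv (s * t) * (D.xv (s * t + θ) * f t)) := by
        rw [e, h.fa.rel.vv, mul_assoc (D.xv _), ← mul_assoc (r s * D.xv (s * t)),
          mul_assoc (r s) (D.xv (s * t)), v_sq h.fa.rel, mul_one, mul_assoc (r s)]
      _ = _ := by
        rw [← h.wa.fP t _ (Q_P (xv_Q _)), ← mul_assoc (r s * _), ← h.wa.fr]; group
  have h2 := mul_mem (inv_mem hs) (h1 ▸ (mem_normalizer_iff.1 ht _).1 hs)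
  rw [inv_mul_cancel_left] at h2
  have h3 := v_eq_one h.fa.rel (h.pd.noD 1 _ (h.pd.syl.le h2) (by simpa using xv_V _))
  rw [e, add_right_cancel (h3.trans (f4_add θ).symm)]

theorem v_ne_zero : v ≠ 0 := by
  rintro rfl
  have R := h.fa.rel
  set s := sE D f 1
  have a1 : ∀ t, MulAut.conj s (r t) = r t * D.xe t := fun t => by simpa using s_r h 1 t
  have a2 : ∀ t, MulAut.conj s (D.xe t) = D.xe t := fun t => conj_of_eq (s_e h 1 t)
  have a3 : ∀ t, MulAut.conj s (D.xv t) = D.xv t := fun t => conj_of_eq (s_v h 1 t)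
  have b1 : ∀ t, MulAut.conj D.na (r t) = r t := fun t => conj_of_eq (K_comm (r_K h t) na_A)
  have b2 : ∀ t, MulAut.conj D.na (D.xe t) = D.xb t := fun t => conj_of_eq (na_e R t)
  have b3 : ∀ t, MulAut.conj D.na (D.xb t) = D.xe t := fun t => conj_of_eq (R.nab t)
  have b4 : ∀ t, MulAut.conj D.na (f t) = f t := fun t => conj_of_eq (h.wa.fP t _ (L_P na_L)).symm
  have b5 : ∀ t, MulAut.conj D.na (D.xv t) = D.xv t := fun t => conj_of_eq (R.nav t)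
  have key : ∀ t, (s * D.na * s * D.na)⁻¹ * (D.na * s * D.na * s) * r t *
      ((s * D.na * s * D.na)⁻¹ * (D.na * s * D.na * s))⁻¹ = r t * D.xv (t * t) := fun t => by
    obtain ⟨x, e⟩ := h.wb.sb 1 t
    have a4 : MulAut.conj s (D.xb t) = f t * D.xb t * D.xv x := by
      simpa [one_of_add h.wa.r_add, one_of_add R.ee] using e
    rw [← MulAut.conj_apply, map_mul, map_inv, MulAut.mul_apply, MulAut.inv_apply, MulEquiv.symm_apply_eq]
    simp only [map_mul, MulAut.mul_apply, a1, a2, a3, a4, b1, b2, b3, b4, b5]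
    calc _ = r t * (D.xb t * f t) * D.xe t * D.xv x := by group
      _ = r t * f t * (D.xb t * D.xe t) * D.xv x := by rw [← h.wa.fP t _ (Q_P (xb_Q t))]; group
      _ = r t * (f t * D.xe t) * (D.xv (t * t) * D.xb t) * D.xv x := by rw [R.be]; group
      _ = r t * D.xe t * f t * D.xb t * (D.xv (t * t) * D.xv x) := by
        rw [h.wa.fP t _ (Q_P (xe_Q t)), ← R.bv]; group
      _ = _ := by rw [← R.vv, add_comm, R.vv]; group
  obtain ⟨t, -, e⟩ := trans h fun t => ⟨_, key t⟩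
  have h1 := v_inj R (mul_left_cancel ((key 1).symm.trans (e 1)))
  have h2 := v_inj R (mul_left_cancel ((key om).symm.trans (e om)))
  clear e
  revert h1 h2 t
  decide

theorem v_eq : v = 1 := by
  by_contra h1
  have R := h.fa.rel
  obtain ⟨k1, k2⟩ := (act_n h).2.mul ((act_s h v).2.mul ((act_n h).2.mul ((act_s h 1).2.mul
    ((act_n h).2.mul (act_s h 1).2)))) _ (pr h 1).1
  generalize D.na * _ = g at k1 k2
  obtain ⟨x, e⟩ := pi_eq h k1 (pE h (1 + v)).1 (by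
    rw [k2, (pr h 1).2, (pE h _).2]; exact chk_word (v_ne_zero h) h1)
  have h2 : ∀ v x : F4, v ≠ 1 → ∃ t, t * (1 + v) = x := by decide
  obtain ⟨t, rfl⟩ := h2 v x h1
  refine one_ne_zero (h.wa.r_inj 1 (h.pd.noD (D.nb * D.xb t * g) _ (r_K h 1) ?_))
  have h3 : D.nb * D.xb t * g * r 1 * (D.nb * D.xb t * g)⁻¹ = D.xv (1 + v) := by
    calc _ = D.nb * (D.xb t * (g * r 1 * g⁻¹) * (D.xb t)⁻¹) * D.nb⁻¹ := by group
      _ = _ := by
        rw [e, ← conj_mul (b := D.xb t), conj_of_eq (R.be _ _), conj_of_eq (R.bv _ _), mul_assoc (D.xe _),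
          v_sq R, mul_one, conj_of_eq (R.nbe _)]
  exact h3 ▸ xv_V _

theorem O_f {o : G} (ho : o ∈ Od) (t : F4) : f t * o = o * f t :=
  h.wa.fI o (h.wa.OK ho) (h.wa.oddO.of_dvd_nat (Od.orderOf_dvd_natCard ho))
    ⟨1, one_ne_zero, h.wa.OR o ho _ ((h.wa.r_mem _).2 ⟨1, rfl⟩)⟩ t

theorem O_W {o : G} (ho : o ∈ Od) (ha : a ∈ W) : a * o = o * a := by
  obtain ⟨s, t, q, hq, rfl⟩ := h.w6.wnf a ha
  rw [mul_assoc, K_comm (h.wa.OK ho) (P_A h.fa.rel (Q_P hq)), ← mul_assoc, mul_assoc (r s), O_f h ho,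
    ← mul_assoc, ← h.wa.OR o ho _ ((h.wa.r_mem _).2 ⟨s, rfl⟩)]
  group

theorem RA_of (hv : ∀ t, g * D.xv t = D.xv t * g) (hg : ∀ a ∈ W, PW W π (g * a * g⁻¹) (π a)) :
    RA D W π g 1 :=
  ⟨⟨fun x hx => by
    obtain ⟨t, rfl⟩ := (mem_V h.fa.rel).1 hx
    exact (hv t).symm, mem_normalizer_fintype fun a ha => (hg a ha).1⟩, hg⟩

theorem RA_O {o : G} (ho : o ∈ Od) : RA D W π o 1 :=
  RA_of h (fun t => (O_W h ho (pV h t).1).symm) fun a ha =>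
    PW.cast ⟨ha, rfl⟩ (conj_of_eq (O_W h ho ha).symm) rfl

theorem RA_W (hg : g ∈ W) : RA D W π g 1 :=
  RA_of h (fun t => by
    rw [h.w6.comm g hg _ (pV h t).1, (pV h t).2, show bq (π g) 0 = 0 by simp [bq]; rfl,
      v0 h.fa.rel, one_mul]) fun a ha =>
    (pm h (pm h ⟨hg, rfl⟩ ⟨ha, rfl⟩) ⟨inv_mem hg, pi_inv h hg⟩).cast rfl (by
      rw [add_right_comm, add_self, zero_add])

/-- The stabilizer of the image of `r 1`. -/
theorem stab (hy : y ∈ M0 D W) (e : π (y * r 1 * y⁻¹) = sm 1 e1) :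
    ∃ w ∈ W, ∃ o ∈ Od, ∃ l ∈ D.L, y = w * o * l := by
  have h1 : ∀ s, π (y * r s * y⁻¹) = π (r s) := fun s => bq_ext fun x => by
    obtain ⟨a, ha, rfl⟩ := h.w6.π_surj x
    have h2 := M0_W (inv_mem hy) ha
    have h3 : a = y * (y⁻¹ * a * y⁻¹⁻¹) * y⁻¹ := by group
    have h4 := bq_conj h hy (pr h 1).1 h2
    rw [← h3, e, (pr h 1).2, one_sm] at h4
    conv_lhs => rw [h3]
    rw [bq_conj h hy (pr h s).1 h2, (pr h s).2, bq_sm, bq_sm, h4]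
  obtain ⟨t, ht, e1⟩ := trans h fun s => pi_eq h (M0_W hy (pr h s).1) (pr h s).1 (h1 s)
  obtain ⟨k, hk, p, hp, e2⟩ := h.wa.cV _ (h.wa.nR ht) fun u => by
    rw [mul_assoc, M0_v hy, ← mul_assoc, (show Commute _ _ from h.wa.fP t _ (Q_P (xv_Q u))).inv_left.eq,
      mul_assoc]
  obtain ⟨x, hx, o, ho, rfl⟩ := h.wa.cKR k hk fun x hx => by
    obtain ⟨s, rfl⟩ := (h.wa.r_mem x).1 hx
    have h2 : (f t)⁻¹ * y * r s = r s * ((f t)⁻¹ * y) := by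
      rw [mul_assoc, mul_inv_eq_iff_eq_mul.1 (e1 s), ← mul_inv_eq_iff_eq_mul.2 (h.wa.fr t s)]; group
    rw [e2, mul_assoc, K_comm (r_K h s) (P_A h.fa.rel hp), ← mul_assoc, ← mul_assoc] at h2
    exact mul_right_cancel h2
  obtain ⟨q, hq, l, hl, rfl⟩ := h.fa.par.pnf p hp
  obtain ⟨s, rfl⟩ := (h.wa.r_mem x).1 hx
  refine ⟨f t * r s * q, mul_mem (mul_mem (pf h t).1 (pr h s).1) (Q_W h hq), o, ho, l, hl, ?_⟩
  rw [inv_mul_eq_iff_eq_mul.1 e2, mul_assoc _ q, K_comm (h.wa.OK ho) (P_A h.fa.rel (Q_P hq))]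
  group

theorem stab_f (hy : y ∈ M0 D W) (e : π (y * r 1 * y⁻¹) = sm 1 e1) :
    π (y * f 1 * y⁻¹) = π (f 1) := by
  obtain ⟨w, hw, o, ho, l, hl, rfl⟩ := stab h hy e
  rw [show w * o * l * f 1 * (w * o * l)⁻¹ = w * o * (l * f 1 * l⁻¹) * (w * o)⁻¹ by group,
    conj_of_eq (h.wa.fP 1 l (L_P hl)).symm]
  exact (((RA_W h hw).mul (RA_O h ho)).2 _ (pf h 1).1).2

theorem RA_a (t : F4) : RA D W π (D.xa t) (eich q6 vE (n3 t).1) :=
  ⟨(act_a h t).1, fun a ha => ((act_a h t).2 a ha).cast rfl (eF_real (chk_n t).1 (chk_n t).2.1 _)⟩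

theorem L_RR : D.L ≤ RR D W π :=
  L_ind (fun t => ⟨_, eich_mem_kerDS _ _ _, RA_a h t⟩) ⟨_, nu_mem, act_n h⟩

theorem surj : kerDS (qPlus_nondegenerate (F := ZMod 2) 3) ≤ HH D W Od π := by
  obtain rfl := v_eq h
  have hA : D.A ≤ centralizer (Od : Set G) := fun a ha o ho => (K_comm (h.wa.OK ho) ha).symm
  exact kerDS_le_of (fun t => ⟨sE D f t, ⟨(act_s h t).1, fun a ha => ((act_s h t).2 a ha).cast rfl
      (eF_real (chk_n t).2.2.1 (chk_n t).2.2.2 _)⟩,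
      mul_mem (mul_mem (hA nb_A) fun o ho => (O_f h ho t).symm) (hA nb_A)⟩)
    (fun t => ⟨_, RA_a h t, hA (xa_A t)⟩) ⟨_, act_n h, hA na_A⟩

theorem M0_RR (hg : g ∈ M0 D W) : g ∈ RR D W π := by
  have h1 := M0_W hg (pr h 1).1
  have h2 : qq (π (g * r 1 * g⁻¹)) = 0 := v_eq_one h.fa.rel (by
    rw [← h.w6.sq _ h1, conj_mul, sq_of_add h.wa.r_add, mul_one, mul_inv_cancel])
  have h3 : ∀ a : ZMod 2, a = 0 ∨ a = 1 := by decide
  rcases h3 (q6 (π (g * r 1 * g⁻¹)).1) with e | e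
  · exfalso
    have h4 := M0_W hg (pf h 1).1
    have h5 := sing_orth (z := π (g * f 1 * g⁻¹)) h2 e fun φ hφ e => by
      obtain ⟨k, hk, -⟩ := surj h hφ
      have h6 := mul_mem (mul_mem (inv_mem hg) hk.1) hg
      have h7 := conj_congr h hg (M0_W h6 (pf h 1).1) (pf h 1).1 (stab_f h h6 (by
        have := conj_congr h (inv_mem hg) (hk.2 _ h1).1 h1 ((hk.2 _ h1).2.trans e)
        rw [show g⁻¹ * (g * r 1 * g⁻¹) * g⁻¹⁻¹ = r 1 by group, (pr h 1).2] at this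
        rw [← this]; congr 1; group))
      rw [← (hk.2 _ h4).2, ← h7]; congr 1; group
    rw [bq_conj h hg (pr h 1).1 (pf h 1).1, (pr h 1).2, (pf h 1).2, bq_e1_f1] at h5
    exact one_ne_zero h5
  · obtain ⟨φ, hφ, e'⟩ := witt_e1 h2 e
    obtain ⟨k, hk, -⟩ := surj h hφ
    obtain ⟨w, hw, o, ho, l, hl, e2⟩ := stab h (mul_mem hk.1 hg) (by
      rw [← e', ← (hk.2 _ h1).2]; congr 1; group)
    rw [eq_inv_mul_of_mul_eq e2]
    exact mul_mem (inv_mem ⟨φ, hφ, hk⟩)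
      (mul_mem (mul_mem ⟨1, one_mem _, RA_W h hw⟩ ⟨1, one_mem _, RA_O h ho⟩) (L_RR h hl))

theorem RA_uniq {φ ψ : O q6} (h1 : RA D W π g φ) (h2 : RA D W π g ψ) : φ = ψ := O_ext fun x => by
  obtain ⟨a, ha, e⟩ := h.w6.π_surj (x, 0)
  simpa [e, re] using congrArg Prod.fst ((h1.2 a ha).2.symm.trans (h2.2 a ha).2)

theorem RA_ker (hg : RA D W π g 1) : ∃ a ∈ W, ∃ o ∈ Od, g = a * o := by
  obtain ⟨w, hw, o, ho, l, hl, rfl⟩ := stab h hg.1 ((hg.2 _ (pr h 1).1).2.trans (pr h 1).2)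
  have h1 := ((RA_W h hw).mul (RA_O h ho)).inv.mul hg
  rw [inv_mul_cancel_left] at h1
  have h2 : l ∈ D.QA := h.fa.par.cQV l (L_P hl) fun q hq => by
    obtain ⟨t, e⟩ := pi_eq h (h1.2 q (Q_W h hq)).1 (Q_W h hq) (h1.2 q (Q_W h hq)).2
    rw [e, P_v h.fa.rel (Q_P hq), mul_inv_cancel_right]
    exact xv_V t
  exact ⟨w * l, mul_mem hw (Q_W h h2), o, ho, by rw [mul_assoc, mul_assoc, O_W h ho (Q_W h h2)]⟩

omit h

theorem vone : VOneStmt.{u} := fun _ _ _ _ _ _ _ _ _ _ _ _ h1 h2 h3 h4 h5 =>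
  v_eq ⟨h1, h2, h3, h4, h5⟩

theorem phi : PhiStmt.{u} := by
  intro G _ _ D R Od W r f c π h1 h2 h3 h4 h5
  have h : Hy D R Od W r f c 1 π := ⟨h1, h2, h3, h4, h5⟩
  have sp : ∀ g ∈ M0 D W, RA D W π g (Classical.epsilon (RA D W π g)) := fun g hg =>
    (M0_RR h hg).elim fun φ k => Classical.epsilon_spec ⟨φ, k.2⟩
  refine ⟨fun g => Classical.epsilon (RA D W π g),
    fun g hg k hk => RA_uniq h (sp _ (mul_mem hg hk)) ((sp g hg).mul (sp k hk)),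
    fun g hg a ha => ((sp g hg).2 a ha).2,
    fun g hg => (M0_RR h hg).elim fun φ k => RA_uniq h k.2 (sp g hg) ▸ k.1,
    fun φ hφ => ?_, fun g hg e => RA_ker h (e ▸ sp g hg)⟩
  obtain ⟨g, hg, k⟩ := surj h hφ
  exact ⟨g, hg.1, RA_uniq h (sp g hg.1) hg, k⟩

end Cfsg.Agent.H26.AP
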