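import Mathlib
import Cfsg.Agent.H26.AlPhiA
import Cfsg.Agent.H72.ASB

/-!
The action of `C(V) ∩ N(W)` on `W / V` (project AL).
-/

set_option autoImplicit false
set_option linter.unusedSectionVars false

namespace Cfsg.Agent.H26.ALP

open Cfsg Subgroup Cfsg.Agent.H28 Cfsg.Agent.H30 Cfsg.Agent.H42.AL QuadraticMap
open Cfsg.Agent.H42.AS (om)
open Cfsg.Agent.H72.ASB (one_of_add sq_of_add mem_closure_range conj_of_eq f4_add)

universe u

variable {G : Type u} [Group G] [Finite G] {D : RD G} {R Od W : Subgroup G} {r f : F4 → G}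
  {c v v' l : F4} {π : G → M} {a b g k y : G}

theorem xe_A (t : F4) : D.xe t ∈ D.A := subset_closure (Or.inl (Or.inl ⟨t, rfl⟩))
theorem xb_A (t : F4) : D.xb t ∈ D.A := subset_closure (Or.inl (Or.inr ⟨t, rfl⟩))
theorem ne_A : D.ne ∈ D.A := subset_closure (Or.inr (Or.inl rfl))
theorem nb_A : D.nb ∈ D.A := subset_closure (Or.inr (Or.inr rfl))
theorem xe_U (t : F4) : D.xe t ∈ D.U := subset_closure (Or.inl (Or.inl ⟨t, rfl⟩))
theorem xb_U (t : F4) : D.xb t ∈ D.U := subset_closure (Or.inl (Or.inr ⟨t, rfl⟩))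
theorem xv_U (t : F4) : D.xv t ∈ D.U := subset_closure (Or.inr ⟨t, rfl⟩)
theorem xv_V (t : F4) : D.xv t ∈ D.V := subset_closure ⟨t, rfl⟩

theorem K_comm (hk : k ∈ D.K) (ha : a ∈ D.A) : a * k = k * a := mem_centralizer_iff.1 hk a ha

theorem xv_A (h : D.Rel) (t : F4) : D.xv t ∈ D.A :=
  conj_of_eq (h.nbe t) ▸ mul_mem (mul_mem nb_A (xe_A t)) (inv_mem nb_A)

theorem U_A (h : D.Rel) : D.U ≤ D.A := (closure_le _).2 (by
  rintro _ ((⟨t, rfl⟩ | ⟨t, rfl⟩) | ⟨t, rfl⟩)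
  exacts [xe_A t, xb_A t, xv_A h t])

theorem v_eq_one (h : D.Rel) {t : F4} (e : D.xv t = 1) : t = 0 :=
  (h.nf 0 0 t (by rw [one_of_add h.bb, one_of_add h.ee, e]; simp)).2.2

theorem v_inj (h : D.Rel) {t u : F4} (e : D.xv t = D.xv u) : t = u := by
  have := v_eq_one h (t := t + u) (by rw [h.vv, e, sq_of_add h.vv])
  rw [← add_zero t, ← f4_add u, ← add_assoc, this, zero_add]

theorem mem_V (h : D.Rel) : g ∈ D.V ↔ ∃ t, g = D.xv t := mem_closure_range h.vv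

theorem swap_n {n x y : G} (h : n * n = 1) (e : n * x = y * n) : n * y = x * n := by
  calc n * y = n * (y * n) * n := by rw [mul_assoc, mul_assoc, h, mul_one]
    _ = _ := by rw [← e, ← mul_assoc, h, one_mul]

def PW (W : Subgroup G) (π : G → M) (a : G) (x : M) : Prop := a ∈ W ∧ π a = x

/-- `g` normalizes `W` and acts on `W / V` as `φ`. -/
def Act (W : Subgroup G) (π : G → M) (g : G) (φ : M → M) : Prop :=
  ∀ a ∈ W, PW W π (g * a * g⁻¹) (φ (π a))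

theorem Act.mul {φ ψ : M → M} (hg : Act W π g φ) (hk : Act W π k ψ) :
    Act W π (g * k) fun x => φ (ψ x) := fun a ha => by
  have := hg _ (hk a ha).1
  rw [(hk a ha).2] at this
  rwa [show g * k * a * (g * k)⁻¹ = g * (k * a * k⁻¹) * g⁻¹ by group]

theorem PW.cast {x x' : M} (h : PW W π a x) (e : b = a) (e' : x = x') : PW W π b x' :=
  e ▸ e' ▸ h

abbrev M0 (D : RD G) (W : Subgroup G) : Subgroup G :=
  centralizer (D.V : Set G) ⊓ normalizer (W : Set G)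

theorem M0_v (hg : g ∈ M0 D W) (t : F4) : g * D.xv t = D.xv t * g := (hg.1 _ (xv_V t)).symm

theorem M0_W (hg : g ∈ M0 D W) (ha : a ∈ W) : g * a * g⁻¹ ∈ W := (mem_normalizer_iff.1 hg.2 a).1 ha

theorem Act.inv {φ ψ : M → M} (hg : g ∈ M0 D W) (hA : Act W π g φ) (hψ : ∀ x, ψ (φ x) = x) :
    Act W π g⁻¹ ψ := fun a ha => ⟨M0_W (inv_mem hg) ha, by
  have h1 := (hA _ (M0_W (inv_mem hg) ha)).2
  rw [show g * (g⁻¹ * a * g⁻¹⁻¹) * g⁻¹ = a by group] at h1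
  rw [h1, hψ]⟩

/-- `g` acts as the real map `φ`. -/
def RA (D : RD G) (W : Subgroup G) (π : G → M) (g : G) (φ : O q4) : Prop :=
  g ∈ M0 D W ∧ Act W π g (re φ)

theorem RA.one : RA D W π 1 1 := ⟨one_mem _, fun a ha => ⟨by simpa using ha, by simp [re]⟩⟩

theorem RA.mul {φ ψ : O q4} (hg : RA D W π g φ) (hk : RA D W π k ψ) : RA D W π (g * k) (φ * ψ) :=
  ⟨mul_mem hg.1 hk.1, hg.2.mul hk.2⟩

theorem RA.inv {φ : O q4} (hg : RA D W π g φ) : RA D W π g⁻¹ φ⁻¹ :=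
  ⟨inv_mem hg.1, hg.2.inv hg.1 fun _ => Prod.ext (O_inv_apply _ _) (O_inv_apply _ _)⟩

/-- The elements acting as a real isometry. -/
def RR (D : RD G) (W : Subgroup G) (π : G → M) : Subgroup G where
  carrier := {g | ∃ φ, RA D W π g φ}
  one_mem' := ⟨1, RA.one⟩
  mul_mem' := fun ⟨_, h2⟩ ⟨_, k2⟩ => ⟨_, h2.mul k2⟩
  inv_mem' := fun ⟨_, h2⟩ => ⟨_, h2.inv⟩

/-- The real maps induced by the centralizer of `Od`. -/
def HH (D : RD G) (W Od : Subgroup G) (π : G → M) : Subgroup (O q4) where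
  carrier := {φ | ∃ g, RA D W π g φ ∧ g ∈ centralizer (Od : Set G)}
  one_mem' := ⟨1, RA.one, one_mem _⟩
  mul_mem' := fun ⟨_, h1, h2⟩ ⟨_, k1, k2⟩ => ⟨_, h1.mul k1, mul_mem h2 k2⟩
  inv_mem' := fun ⟨_, h1, h2⟩ => ⟨_, h1.inv, inv_mem h2⟩

structure Hy (D : RD G) (R Od W : Subgroup G) (r f : F4 → G) (c v v' l : F4) (π : G → M) :
    Prop where
  fa : D.Fa
  pd : PD D R
  wa : WA D R Od r f c
  wb : WB D r f v
  wb' : WB D.swap r f v'
  w4 : W4 D r f l W π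
  l0 : l ≠ 0

section
variable (h : Hy D R Od W r f c v v' l π)
include h

theorem U_W : D.U ≤ W := h.w4.W_eq ▸ le_sup_left

theorem pr (s : F4) : PW W π (r s) (sm s e1) :=
  ⟨h.w4.W_eq ▸ mem_sup_right (subset_closure (Or.inl ⟨s, rfl⟩)), h.w4.πr s⟩

theorem pf (s : F4) : PW W π (f s) (sm s f1) :=
  ⟨h.w4.W_eq ▸ mem_sup_right (subset_closure (Or.inr ⟨s, rfl⟩)), h.w4.πf s⟩

theorem pB (s : F4) : PW W π (D.xb s) (sm (l ^ 2 * s) f2) := ⟨U_W h (xb_U s), h.w4.πb s⟩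
theorem pE (s : F4) : PW W π (D.xe s) (sm (l * s) e2) := ⟨U_W h (xe_U s), h.w4.πe s⟩
theorem pV (s : F4) : PW W π (D.xv s) 0 :=
  ⟨U_W h (xv_U s), (h.w4.π_ker _ (U_W h (xv_U s))).2 ⟨s, rfl⟩⟩

theorem pm {x y : M} (ha : PW W π a x) (hb : PW W π b y) : PW W π (a * b) (x + y) :=
  ⟨mul_mem ha.1 hb.1, by rw [h.w4.π_mul a ha.1 b hb.1, ha.2, hb.2]⟩

theorem pi_one : π 1 = 0 := (h.w4.π_ker _ (one_mem _)).2 ⟨0, one_of_add h.fa.rel.vv⟩

theorem pi_inv (ha : a ∈ W) : π a⁻¹ = π a := by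
  have h1 := h.w4.π_mul _ (inv_mem ha) _ ha
  rw [inv_mul_cancel, pi_one h, ← add_self (π a)] at h1
  exact (add_right_cancel h1).symm

theorem pi_eq (ha : a ∈ W) (hb : b ∈ W) (e : π a = π b) : ∃ t, a = b * D.xv t := by
  obtain ⟨t, ht⟩ := (h.w4.π_ker _ (mul_mem (inv_mem hb) ha)).1 (by
    rw [h.w4.π_mul _ (inv_mem hb) _ ha, pi_inv h hb, e, add_self])
  exact ⟨t, by rw [ht, mul_inv_cancel_left]⟩

theorem bq_conj (hg : g ∈ M0 D W) (ha : a ∈ W) (hb : b ∈ W) :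
    bq (π (g * a * g⁻¹)) (π (g * b * g⁻¹)) = bq (π a) (π b) := by
  have h1 := h.w4.comm _ (M0_W hg ha) _ (M0_W hg hb)
  rw [conj_mul, conj_mul, h.w4.comm a ha b hb, ← conj_mul, conj_of_eq (M0_v hg _)] at h1
  exact (v_inj h.fa.rel (mul_right_cancel h1)).symm

theorem act_gen {φ : M → M} (hφ : ∀ x y, φ (x + y) = φ x + φ y)
    (hr : ∀ s, PW W π (g * r s * g⁻¹) (φ (sm s e1))) (hf : ∀ s, PW W π (g * f s * g⁻¹) (φ (sm s f1)))
    (he : ∀ s, PW W π (g * D.xe s * g⁻¹) (φ (sm (l * s) e2)))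
    (hb : ∀ s, PW W π (g * D.xb s * g⁻¹) (φ (sm (l ^ 2 * s) f2)))
    (hv : ∀ t, g * D.xv t = D.xv t * g) : g ∈ M0 D W ∧ Act W π g φ := by
  have h0 : φ 0 = 0 := left_eq_add.1 ((congrArg φ (add_zero 0)).symm.trans (hφ 0 0))
  have hm : ∀ {a b x y}, PW W π (g * a * g⁻¹) (φ x) → PW W π (g * b * g⁻¹) (φ y) →
      PW W π (g * (a * b) * g⁻¹) (φ (x + y)) := fun k k' =>
    (pm h k k').cast conj_mul.symm (hφ _ _).symm
  have h1 : Act W π g φ := fun a ha => by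
    obtain ⟨s, t, q, hq, rfl⟩ := h.w4.wnf a ha
    obtain ⟨t1, t2, t3, rfl⟩ := h.fa.par.unf q hq
    rw [(pm h (pm h (pr h s) (pf h t)) (pm h (pm h (pE h t1) (pB h t2)) (pV h t3))).2]
    exact hm (hm (hr s) (hf t)) (hm (hm (he t1) (hb t2))
      ((pV h t3).cast (conj_of_eq (hv t3)) h0.symm))
  refine ⟨⟨fun x hx => ?_, mem_normalizer_fintype fun a ha => (h1 a ha).1⟩, h1⟩
  obtain ⟨t, rfl⟩ := (mem_V h.fa.rel).1 hx
  exact (hv t).symm

theorem r_K (s : F4) : r s ∈ D.K := h.pd.syl.le ((h.wa.r_mem _).2 ⟨s, rfl⟩)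

theorem s_comm {n : G} (hn : n * n = 1) (β : F4) {x p : G} (hp : p ∈ D.U) (e : n * x = p * n) :
    n * f β * n * x = x * (n * f β * n) := by
  calc _ = n * (f β * p) * n := by rw [mul_assoc, e]; group
    _ = _ := by rw [h.wa.fU β p hp, ← mul_assoc, swap_n hn e]; group

theorem s_r {n : G} (hn : n * n = 1) (hA : n ∈ D.A) {x : F4 → G} (e : ∀ t, n * x t = D.xv t * n)
    (β t : F4) : n * f β * n * r t * (n * f β * n)⁻¹ = r t * x (t * β) := by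
  refine conj_of_eq ?_
  calc _ = n * (f β * r t) * n := by rw [mul_assoc, K_comm (r_K h t) hA]; group
    _ = n * r t * D.xv (t * β) * f β * n := by rw [h.wa.fr]; group
    _ = r t * (n * D.xv (t * β)) * f β * n := by rw [K_comm (r_K h t) hA]; group
    _ = _ := by rw [swap_n hn (e _)]; group

theorem s_v (β t : F4) : sE D f β * D.xv t = D.xv t * sE D f β :=
  s_comm h h.fa.rel.nb2 β (xe_U t) (swap_n h.fa.rel.nb2 (h.fa.rel.nbe t))

theorem s_v' (β t : F4) : sE D.swap f β * D.xv t = D.xv t * sE D.swap f β :=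
  s_comm h h.fa.rel.ne2 β (xb_U t) (swap_n h.fa.rel.ne2 (h.fa.rel.neb t))

theorem act_s (β : F4) :
    sE D f β ∈ M0 D W ∧ Act W π (sE D f β) (eF e2 (n1 (l * β) (l * v * β ^ 2))) :=
  act_gen h (eF_add _ _)
    (fun t => (pm h (pr h _) (pE h _)).cast (s_r h h.fa.rel.nb2 nb_A h.fa.rel.nbe β t)
      (chk_s l h.l0 v β t).1)
    (fun t => (h.wb.sf β t).elim fun x e =>
      (pm h (pm h (pf h _) (pE h _)) (pV h x)).cast e (chk_s l h.l0 v β t).2.1)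
    (fun t => (pE h t).cast (conj_of_eq (s_comm h h.fa.rel.nb2 β (xv_U t) (h.fa.rel.nbe t)))
      (chk_s l h.l0 v β t).2.2.2)
    (fun t => (h.wb.sb β t).elim fun x e =>
      (pm h (pm h (pm h (pm h (pr h _) (pf h _)) (pE h _)) (pB h _)) (pV h x)).cast e
        (chk_s l h.l0 v β t).2.2.1) (s_v h β)

theorem act_s' (β : F4) : sE D.swap f β ∈ M0 D W ∧
    Act W π (sE D.swap f β) (eF f2 (n1 (l ^ 2 * β) (l ^ 2 * v' * β ^ 2))) :=
  act_gen h (eF_add _ _)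
    (fun t => (pm h (pr h _) (pB h _)).cast (s_r h h.fa.rel.ne2 ne_A h.fa.rel.neb β t)
      (chk_s' l h.l0 v' β t).1)
    (fun t => (h.wb'.sf β t).elim fun x e =>
      (pm h (pm h (pf h _) (pB h _)) (pV h x)).cast e (chk_s' l h.l0 v' β t).2.1)
    (fun t => (h.wb'.sb β t).elim fun x e =>
      (pm h (pm h (pm h (pm h (pr h _) (pf h _)) (pB h _)) (pE h _)) (pV h x)).cast e
        (chk_s' l h.l0 v' β t).2.2.1)
    (fun t => (pB h t).cast (conj_of_eq (s_comm h h.fa.rel.ne2 β (xv_U t) (h.fa.rel.neb t)))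
      (chk_s' l h.l0 v' β t).2.2.2) (s_v' h β)

theorem trans (hy : ∀ s, ∃ t, y * r s * y⁻¹ = r s * D.xv t) :
    ∃ t, (f t)⁻¹ * y ∈ normalizer (R : Set G) ∧ ∀ s, y * r s * y⁻¹ = r s * D.xv (s * t) := by
  obtain ⟨t, ht⟩ := h.wa.nE y fun s => ⟨s, hy s⟩
  refine ⟨t, ht, fun s => ?_⟩
  obtain ⟨θ, e⟩ := hy s
  have hs : r s ∈ R := (h.wa.r_mem _).2 ⟨s, rfl⟩
  have h1 : (f t)⁻¹ * y * r s * ((f t)⁻¹ * y)⁻¹ = r s * D.xv (s * t + θ) := by
    calc _ = (f t)⁻¹ * (y * r s * y⁻¹ * f t) := by group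
      _ = (f t)⁻¹ * (r s * D.xv (s * t) * (D.xv (s * t + θ) * f t)) := by
        rw [e, h.fa.rel.vv, mul_assoc (D.xv _), ← mul_assoc (r s * D.xv (s * t)),
          mul_assoc (r s) (D.xv (s * t)), sq_of_add h.fa.rel.vv, mul_one, mul_assoc (r s)]
      _ = _ := by
        rw [← h.wa.fU t _ (xv_U _), ← mul_assoc (r s * _), ← h.wa.fr]; group
  have h2 := mul_mem (inv_mem hs) (h1 ▸ (mem_normalizer_iff.1 ht _).1 hs)
  rw [inv_mul_cancel_left] at h2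
  have h3 := v_eq_one h.fa.rel (h.pd.noD 1 _ (h.pd.syl.le h2) (sq_of_add h.fa.rel.vv _)
    (by simpa using xv_A h.fa.rel _))
  rw [e, add_right_cancel (h3.trans (f4_add θ).symm)]

theorem noU (hg : g * r 1 * g⁻¹ ∈ W) (ha : a ∈ D.U) (e : π (g * r 1 * g⁻¹) = π a) : False := by
  obtain ⟨t, e⟩ := pi_eq h hg (U_W h ha) e
  exact one_ne_zero (h.wa.r_inj 1 (h.pd.noD g _ (r_K h 1) (sq_of_add h.wa.r_add 1)
    (e ▸ U_A h.fa.rel (mul_mem ha (xv_U t)))))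

theorem side {s : G} {z : F4 → G} {β : F4} {X : F4 → F4} (hz : ∀ t, z t ∈ D.U)
    (za : ∀ t u, z (t + u) = z t * z u) (zv : ∀ t u, z t * D.xv u = D.xv u * z t)
    (e : ∀ t, s * z t * s⁻¹ = f (β * t) * z t * D.xv (X t)) (t u : F4) : X (t + u) = X t + X u := by
  have h1 := e (t + u)
  rw [za, ← conj_mul, e, e, mul_add, h.wb.f_add] at h1
  refine v_inj h.fa.rel (mul_left_cancel (a := f (β * t) * f (β * u) * (z t * z u)) ?_)
  rw [← h1, h.fa.rel.vv]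
  calc _ = f (β * t) * ((z t * D.xv (X t)) * f (β * u)) * z u * D.xv (X u) := by group
    _ = f (β * t) * f (β * u) * z t * (D.xv (X t) * z u) * D.xv (X u) := by
      rw [← h.wa.fU _ _ (mul_mem (hz t) (xv_U _))]; group
    _ = _ := by rw [← zv]; group

theorem not_zero (h0 : v = 0) (h0' : v' = 0) : False := by
  subst h0 h0'
  have R := h.fa.rel
  choose X hX using h.wb.sb
  choose Y hY using h.wb'.sb
  have a4 : ∀ β t, sE D f β * D.xb t * (sE D f β)⁻¹ = f (β * t) * D.xb t * D.xv (X β t) :=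
    fun β t => by simpa [one_of_add h.wa.r_add, one_of_add R.ee] using hX β t
  have b4 : ∀ β t, sE D.swap f β * D.xe t * (sE D.swap f β)⁻¹ =
      f (β * t) * D.xe t * D.xv (Y β t) := fun β t => by
    simpa [one_of_add h.wa.r_add, one_of_add R.bb, RD.swap] using hY β t
  have key : ∀ β γ, ∃ m, ∀ t, t * γ * (t * β) + X β (t * γ) + Y γ (t * β) = t * m := by
    intro β γ
    have a1 : ∀ t, MulAut.conj (sE D f β) (r t) = r t * D.xe (t * β) :=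
      s_r h R.nb2 nb_A R.nbe β
    have b1 : ∀ t, MulAut.conj (sE D.swap f γ) (r t) = r t * D.xb (t * γ) :=
      s_r h R.ne2 ne_A R.neb γ
    have a3 : ∀ t, MulAut.conj (sE D f β) (D.xv t) = D.xv t := fun t => conj_of_eq (s_v h β t)
    have b3 : ∀ t, MulAut.conj (sE D.swap f γ) (D.xv t) = D.xv t := fun t => conj_of_eq (s_v' h γ t)
    have a5 : ∀ t, MulAut.conj (sE D f β) (D.xb t) = _ := a4 β
    have b5 : ∀ t, MulAut.conj (sE D.swap f γ) (D.xe t) = _ := b4 γ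
    generalize sE D f β = s, sE D.swap f γ = s' at a1 b1 a3 b3 a5 b5
    have k : ∀ t, (s' * s)⁻¹ * (s * s') * r t * ((s' * s)⁻¹ * (s * s'))⁻¹ =
        r t * D.xv (t * γ * (t * β) + X β (t * γ) + Y γ (t * β)) := fun t => by
      rw [← MulAut.conj_apply, map_mul, map_inv, MulAut.mul_apply, MulAut.inv_apply,
        MulEquiv.symm_apply_eq]
      simp only [map_mul, MulAut.mul_apply, a1, a3, a5, b1, b3, b5]
      rw [show γ * (t * β) = β * (t * γ) by ring]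
      generalize t * γ = p, t * β = q
      generalize β * p = m, X β p = x, Y γ q = y
      calc _ = r t * (D.xe q * f m) * D.xb p * D.xv x := by group
        _ = r t * f m * (D.xe q * D.xv (p * q) * D.xb p) * D.xv (p * q + x) := by
          rw [← h.wa.fU m _ (xe_U q), mul_assoc (D.xe q), ← R.bv, R.vv]
          simp only [mul_assoc]
          rw [← mul_assoc (D.xv (p * q)), sq_of_add R.vv, one_mul]
        _ = r t * (f m * D.xb p) * D.xe q * D.xv (y + (p * q + x + y)) := by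
          rw [← R.be, add_comm y, add_assoc _ y, f4_add, add_zero]; group
        _ = _ := by rw [h.wa.fU m _ (xb_U p), R.vv y]; group
    obtain ⟨m, -, e⟩ := trans h fun t => ⟨_, k t⟩
    exact ⟨m, fun t => v_inj R (mul_left_cancel ((k t).symm.trans (e t)))⟩
  have hX := fun β => side h xb_U R.bb R.bv (a4 β) om 1
  have hY := fun β => side h xe_U R.ee R.ev (b4 β) om 1
  have o2 : om * om = om + 1 := by decide
  obtain ⟨m1, e1⟩ := key 1 1
  obtain ⟨m2, e2⟩ := key om 1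
  obtain ⟨m3, e3⟩ := key 1 om
  obtain ⟨m4, e4⟩ := key om om
  have k1 := e1 1
  have k2 := e1 om
  have k3 := e2 1
  have k4 := e2 om
  have k5 := e3 1
  have k6 := e3 om
  have k7 := e4 1
  have k8 := e4 om
  simp only [one_mul, mul_one, o2, hX, hY] at k1 k2 k3 k4 k5 k6 k7 k8
  have q1 : ∀ a b c d m : F4, 1 + a + c = m → om + 1 + b + d = om * m →
      b + om * a + (d + om * c) = 1 := by decide +kernel
  have q2 : ∀ a b c d m : F4, om + a + d = m → om * (om + 1) + b + (d + c) = om * m →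
      b + om * a = om + om ^ 2 * (d + om * c) := by decide +kernel
  have q3 : ∀ a b c d m : F4, om + b + c = m → (om + 1) * om + (b + a) + d = om * m →
      d + om * c = om + om ^ 2 * (b + om * a) := by decide +kernel
  have q4 : ∀ a b c d m : F4, om + 1 + b + d = m →
      (om + 1) * (om + 1) + (b + a) + (d + c) = om * m → b + om * a + (d + om * c) = 1 := by
    decide +kernel
  have q5 : ∀ p q : F4, p + q = 1 → om + om ^ 2 * q + (om + om ^ 2 * p) ≠ 1 := by decide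
  have j := q4 _ _ _ _ _ k7 k8
  rw [q2 _ _ _ _ _ k3 k4, q3 _ _ _ _ _ k5 k6] at j
  exact q5 _ _ (q1 _ _ _ _ _ k1 k2) j

theorem O_f {o : G} (ho : o ∈ Od) (t : F4) : f t * o = o * f t :=
  h.wa.fI o (h.wa.OK ho) (h.wa.oddO.of_dvd_nat (Od.orderOf_dvd_natCard ho))
    ⟨1, one_ne_zero, h.wa.OR o ho _ ((h.wa.r_mem _).2 ⟨1, rfl⟩)⟩ t

theorem O_W {o : G} (ho : o ∈ Od) (ha : a ∈ W) : a * o = o * a := by
  obtain ⟨s, t, q, hq, rfl⟩ := h.w4.wnf a ha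
  rw [mul_assoc, K_comm (h.wa.OK ho) (U_A h.fa.rel hq), ← mul_assoc, mul_assoc (r s), O_f h ho,
    ← mul_assoc, ← h.wa.OR o ho _ ((h.wa.r_mem _).2 ⟨s, rfl⟩)]
  group

theorem RA_of (hv : ∀ t, g * D.xv t = D.xv t * g) (hg : ∀ a ∈ W, PW W π (g * a * g⁻¹) (π a)) :
    RA D W π g 1 :=
  ⟨⟨fun x hx => by
    obtain ⟨t, rfl⟩ := (mem_V h.fa.rel).1 hx
    exact (hv t).symm, mem_normalizer_fintype fun a ha => (hg a ha).1⟩, hg⟩

theorem RA_O {o : G} (ho : o ∈ Od) : RA D W π o 1 :=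
  RA_of h (fun t => (O_W h ho (pV h t).1).symm) fun a ha =>
    PW.cast ⟨ha, rfl⟩ (conj_of_eq (O_W h ho ha).symm) rfl

theorem RA_W (hg : g ∈ W) : RA D W π g 1 :=
  RA_of h (fun t => by
    rw [h.w4.comm g hg _ (pV h t).1, (pV h t).2, show bq (π g) 0 = 0 by simp [bq]; rfl,
      one_of_add h.fa.rel.vv, one_mul]) fun a ha =>
    (pm h (pm h ⟨hg, rfl⟩ ⟨ha, rfl⟩) ⟨inv_mem hg, pi_inv h hg⟩).cast rfl (by
      rw [add_right_comm, add_self, zero_add])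

/-- The stabilizer of the image of `r 1`. -/
theorem stab (hy : y ∈ M0 D W) (e : π (y * r 1 * y⁻¹) = sm 1 e1) :
    ∃ w ∈ W, ∃ g ∈ M0 D W, y = w * g ∧ (∀ s, g * r s = r s * g) ∧
      ∃ d, D.St D g d (d ^ 2) false ∨ D.St D.swap g d (d ^ 2) false := by
  have h1 : ∀ s, π (y * r s * y⁻¹) = π (r s) := fun s => bq_ext fun x => by
    obtain ⟨a, ha, rfl⟩ := h.w4.π_surj x
    have h2 := M0_W (inv_mem hy) ha
    have h3 : a = y * (y⁻¹ * a * y⁻¹⁻¹) * y⁻¹ := by group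
    have h4 := bq_conj h hy (pr h 1).1 h2
    rw [← h3, e, (pr h 1).2, one_sm] at h4
    conv_lhs => rw [h3]
    rw [bq_conj h hy (pr h s).1 h2, (pr h s).2, bq_sm, bq_sm, h4]
  obtain ⟨t, ht, e1⟩ := trans h fun s => pi_eq h (M0_W hy (pr h s).1) (pr h s).1 (h1 s)
  have h2 := mul_mem (inv_mem (RA_W h (pf h t).1).1) hy
  obtain ⟨u, hu, d, m, fr, e2⟩ := h.fa.par.nU _ (h.wa.nR ht) (centralizer_le_normalizer _ h2.1)
  have h3 := mul_mem (RA_W h (U_W h hu)).1 h2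
  have h4 : ∀ s, s = d * m * pw fr s := fun s => v_inj h.fa.rel
    ((conj_of_eq (M0_v h3 s)).symm.trans (e2.elim (fun k => k.v s) fun k => k.v s))
  have h5 : ∀ d m : F4, ∀ fr, (∀ s, s = d * m * pw fr s) → m = d ^ 2 ∧ fr = false := by decide
  obtain ⟨rfl, rfl⟩ := h5 d m fr h4
  refine ⟨f t * u⁻¹, mul_mem (pf h t).1 (inv_mem (U_W h hu)), _, h3, by group, fun s => ?_, d, e2⟩
  have h6 : (f t)⁻¹ * y * r s = r s * ((f t)⁻¹ * y) := by
    rw [mul_assoc, mul_inv_eq_iff_eq_mul.1 (e1 s), ← mul_inv_eq_iff_eq_mul.2 (h.wa.fr t s)]; group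
  rw [mul_assoc, h6, ← mul_assoc, K_comm (r_K h s) (U_A h.fa.rel hu), mul_assoc]

theorem bq_zero (ha : a ∈ W) (hb : b ∈ W) (e : a * b = b * a) : bq' (π a) (π b) = 0 :=
  (bq_eq _ _).symm.trans (v_eq_one h.fa.rel (mul_eq_right.1 ((h.w4.comm a ha b hb).symm.trans e)))

theorem St_f {d : F4} (hg : g ∈ M0 D W) (hr : ∀ s, g * r s = r s * g)
    (e : D.St D g d (d ^ 2) false ∨ D.St D.swap g d (d ^ 2) false) (t : F4) :
    PW W π (g * f t * g⁻¹) (sm t f1) := by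
  have h1 := M0_W hg (pf h t).1
  refine ⟨h1, ?_⟩
  by_cases ht : t = 0
  · rw [ht, ← (pf h 0).2, h.wa.f0, mul_one, mul_inv_cancel]
  have h2 : ∀ p ∈ D.U, g * f t * g⁻¹ * (g * p * g⁻¹) = g * p * g⁻¹ * (g * f t * g⁻¹) :=
    fun p hp => by rw [conj_mul, conj_mul, h.wa.fU t p hp]
  have h3 : ∀ d : F4, d ≠ 0 → ∀ x, d * pw false (d ^ 2 * x) = x ∧ d ^ 2 * pw false (d * x) = x := by
    decide
  have h4 : ∀ x, g * f t * g⁻¹ * D.xe x = D.xe x * (g * f t * g⁻¹) ∧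
      g * f t * g⁻¹ * D.xb x = D.xb x * (g * f t * g⁻¹) := fun x => by
    have k1 := h2 _ (xe_U (d ^ 2 * x))
    have k2 := h2 _ (xb_U (d * x))
    rcases e with e | e <;> rw [e.e, (h3 d e.l0 x).1] at k1 <;> rw [e.b, (h3 d e.l0 x).2] at k2
    exacts [⟨k1, k2⟩, ⟨k2, k1⟩]
  have h5 : ∀ l : F4, l ≠ 0 → l * l ^ 2 = 1 ∧ l ^ 2 * l = 1 := by decide
  have h6 : ∀ t, bq' (sm t f1) (sm 1 e1) = t := by decide +kernel
  refine chk_f _ t ht ?_ ?_ ?_ ?_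
  · have := bq_zero h h1 (pE h _).1 (h4 (l ^ 2)).1
    rwa [(pE h _).2, (h5 l h.l0).1, one_sm] at this
  · have := bq_zero h h1 (pB h _).1 (h4 l).2
    rwa [(pB h _).2, (h5 l h.l0).2, one_sm] at this
  · have := bq_conj h hg (pf h t).1 (pr h 1).1
    rwa [conj_of_eq (hr 1), (pr h 1).2, (pf h t).2, bq_eq, bq_eq, h6] at this
  · rw [← qq_eq]
    exact v_eq_one h.fa.rel (by
      rw [← h.w4.sq _ h1, conj_mul, sq_of_add h.wb.f_add, mul_one, mul_inv_cancel])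

theorem stab_f (hy : y ∈ M0 D W) (e : π (y * r 1 * y⁻¹) = sm 1 e1) :
    π (y * f 1 * y⁻¹) = sm 1 f1 := by
  obtain ⟨w, hw, g, hg, rfl, hr, d, e⟩ := stab h hy e
  have h1 := St_f h hg hr e 1
  rw [show w * g * f 1 * (w * g)⁻¹ = w * (g * f 1 * g⁻¹) * w⁻¹ by group, ← h1.2]
  exact ((RA_W h hw).2 _ h1.1).2

theorem stab_act {φ : M → M} (hy : y ∈ M0 D W) (hA : Act W π y φ) (e : φ (sm 1 e1) = sm 1 e1) :
    φ (sm 1 f1) = sm 1 f1 := by
  have := stab_f h hy (by rw [(hA _ (pr h 1).1).2, (pr h 1).2, e])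
  rwa [(hA _ (pf h 1).1).2, (pf h 1).2] at this

theorem RA_uniq {φ ψ : O q4} (h1 : RA D W π g φ) (h2 : RA D W π g ψ) : φ = ψ := O_ext fun x => by
  obtain ⟨a, ha, e⟩ := h.w4.π_surj (x, 0)
  simpa [e, re] using congrArg Prod.fst ((h1.2 a ha).2.symm.trans (h2.2 a ha).2)

end

theorem v_eq (h : Hy D R Od W r f c v v' 1 π) : v * v' = 1 := by
  by_contra h1
  obtain ⟨a, b, c, ⟨x, e⟩ | ⟨x, e⟩⟩ := chk_word v v' h1 fun k => not_zero h k.1 k.2
  · obtain ⟨k1, k2⟩ := (act_s h a).2.mul ((act_s' h b).2.mul (act_s h c).2) _ (pr h 1).1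
    exact noU h k1 (xb_U x) (by rw [k2, (pr h 1).2, (pB h x).2]; exact e)
  · obtain ⟨k1, k2⟩ := (act_s' h a).2.mul ((act_s h b).2.mul (act_s' h c).2) _ (pr h 1).1
    exact noU h k1 (xe_U x) (by rw [k2, (pr h 1).2, (pE h x).2]; exact e)

variable (h : Hy D R Od W r f c v (v ^ 2) v π)
include h

theorem act1 (t : F4) : ∃ g ∈ M0 D W, Act W π g (eF e2 (n1 t (t ^ 2))) ∧
    g ∈ centralizer (Od : Set G) := by
  have hA : D.A ≤ centralizer (Od : Set G) := fun a ha o ho => (K_comm (h.wa.OK ho) ha).symm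
  have k : ∀ v : F4, v ≠ 0 → ∀ t, v * (v ^ 2 * t) = t ∧ v * v * (v ^ 2 * t) ^ 2 = t ^ 2 := by decide
  have := act_s h (v ^ 2 * t)
  rw [(k v h.l0 t).1, (k v h.l0 t).2] at this
  exact ⟨_, this.1, this.2, mul_mem (mul_mem (hA nb_A) fun o ho => (O_f h ho _).symm) (hA nb_A)⟩

theorem act2 (t : F4) : ∃ g ∈ M0 D W, Act W π g (eF f2 (n1 t (t ^ 2))) ∧
    g ∈ centralizer (Od : Set G) := by
  have hA : D.A ≤ centralizer (Od : Set G) := fun a ha o ho => (K_comm (h.wa.OK ho) ha).symm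
  have k : ∀ v : F4, v ≠ 0 → ∀ t, v ^ 2 * (v * t) = t ∧ v ^ 2 * v ^ 2 * (v * t) ^ 2 = t ^ 2 := by
    decide
  have := act_s' h (v * t)
  rw [(k v h.l0 t).1, (k v h.l0 t).2] at this
  exact ⟨_, this.1, this.2, mul_mem (mul_mem (hA ne_A) fun o ho => (O_f h ho _).symm) (hA ne_A)⟩

theorem surj : kerDS hq4 ≤ HH D W Od π :=
  kerDS_le_of (fun t => (act1 h t).elim fun g k => ⟨g, ⟨k.1, fun a ha => (k.2.1 a ha).cast rfl
      (eF_real (by decide) (chk_n t).1 (chk_n t).2.1 _)⟩, k.2.2⟩)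
    fun t => (act2 h t).elim fun g k => ⟨g, ⟨k.1, fun a ha => (k.2.1 a ha).cast rfl
      (eF_real (by decide) (chk_n t).1 (chk_n t).2.2 _)⟩, k.2.2⟩

theorem stab2 (hy : y ∈ M0 D W) (e : π (y * r 1 * y⁻¹) = sm 1 e1) :
    ∃ w ∈ W, (∃ o ∈ Od, y = w * o) ∨ ∃ g ∈ M0 D W, y = w * g ∧ Act W π g (sw 1) := by
  obtain ⟨w, hw, g, hg, rfl, hr, d, e⟩ := stab h hy e
  have hf := St_f h hg hr e
  obtain ⟨s, hs, hA, -⟩ := act1 h 1
  rcases e with e | e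
  · have k := chk_dg v h.l0 d e.l0
    have h1 := (act_gen h (dg_add d) (fun s => (pr h s).cast (conj_of_eq (hr s)) (k s).1)
      (fun s => (hf s).cast rfl (k s).2.1) (fun s => (pE h _).cast (e.e s) (k s).2.2.1)
      (fun s => (pB h _).cast (e.b s) (k s).2.2.2.1) (M0_v hg)).2
    obtain ⟨s', hs', hA', -⟩ := act1 h d
    have h2 := stab_act h (mul_mem hs' (mul_mem hg (mul_mem hs (inv_mem hg))))
      (hA'.mul (h1.mul (hA.mul (h1.inv hg fun x => (dg_inv d e.l0 x).1)))) (chk_one d e.l0).1.1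
    obtain rfl : d = 1 := (chk_one d e.l0).1.2 h2
    rw [one_pow] at e
    obtain ⟨x, hx, o, ho, rfl⟩ := h.wa.cKR g (h.fa.par.stK g e) fun x hx => by
      obtain ⟨s, rfl⟩ := (h.wa.r_mem x).1 hx
      exact hr s
    obtain ⟨s, rfl⟩ := (h.wa.r_mem x).1 hx
    exact ⟨w * r s, mul_mem hw (pr h s).1, Or.inl ⟨o, ho, (mul_assoc _ _ _).symm⟩⟩
  · have k := chk_dg v h.l0 d e.l0
    have h1 := (act_gen h (sw_add (v * d)) (fun s => (pr h s).cast (conj_of_eq (hr s)) (k s).2.2.2.2.1)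
      (fun s => (hf s).cast rfl (k s).2.2.2.2.2.1)
      (fun s => (pB h _).cast (e.e s) (k s).2.2.2.2.2.2.1)
      (fun s => (pE h _).cast (e.b s) (k s).2.2.2.2.2.2.2) (M0_v hg)).2
    have h0 : v * d ≠ 0 := by
      have : ∀ v d : F4, v ≠ 0 → d ≠ 0 → v * d ≠ 0 := by decide
      exact this v d h.l0 e.l0
    generalize v * d = m at h1 h0
    obtain ⟨s', hs', hA', -⟩ := act2 h m
    have h2 := stab_act h (mul_mem hs' (mul_mem hg (mul_mem hs (inv_mem hg))))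
      (hA'.mul (h1.mul (hA.mul (h1.inv hg fun x => (dg_inv m h0 x).2)))) (chk_one m h0).2.1
    obtain rfl : m = 1 := (chk_one m h0).2.2 h2
    exact ⟨w, hw, Or.inr ⟨g, hg, rfl, h1⟩⟩

theorem M0_RR (hg : g ∈ M0 D W) : g ∈ RR D W π := by
  have h1 := M0_W hg (pr h 1).1
  have h2 : qq (π (g * r 1 * g⁻¹)) = 0 := v_eq_one h.fa.rel (by
    rw [← h.w4.sq _ h1, conj_mul, sq_of_add h.wa.r_add, mul_one, mul_inv_cancel])
  have h3 : ∀ a : ZMod 2, a = 0 ∨ a = 1 := by decide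
  rcases h3 (q4 (π (g * r 1 * g⁻¹)).1) with e | e
  · exfalso
    obtain ⟨a, b, c, e'⟩ := chk_sing _ ((qq_eq _).symm.trans h2) ((q_eq _).symm.trans e)
    obtain ⟨s, -, hA, -⟩ := act1 h b
    obtain ⟨s', -, hA', -⟩ := act2 h a
    obtain ⟨k1, k2⟩ := hA'.mul hA _ h1
    have k : ∀ v : F4, v ≠ 0 → ∀ t, v * (v ^ 2 * t) = t := by decide
    rw [show s' * s * (g * r 1 * g⁻¹) * (s' * s)⁻¹ = s' * s * g * r 1 * (s' * s * g)⁻¹ by group]
      at k1 k2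
    exact noU h k1 (xe_U (v ^ 2 * c)) (by rw [k2, (pE h _).2, k v h.l0]; exact e')
  · obtain ⟨φ, hφ, e'⟩ := witt_e1 h2 e
    obtain ⟨k, hk, -⟩ := surj h hφ
    obtain ⟨w, hw, e2⟩ := stab2 h (mul_mem hk.1 hg) (by
      rw [← e', ← (hk.2 _ h1).2]; congr 1; group)
    rcases e2 with ⟨o, ho, e2⟩ | ⟨x, hx, e2, hA⟩ <;> rw [eq_inv_mul_of_mul_eq e2]
    · exact mul_mem (inv_mem ⟨φ, hk⟩) (mul_mem ⟨1, RA_W h hw⟩ ⟨1, RA_O h ho⟩)
    · exact mul_mem (inv_mem ⟨φ, hk⟩) (mul_mem ⟨1, RA_W h hw⟩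
        ⟨_, hx, fun a ha => (hA a ha).cast rfl (sw_one _)⟩)

theorem RA_ker (hg : RA D W π g 1) : ∃ a ∈ W, ∃ o ∈ Od, g = a * o := by
  obtain ⟨w, hw, e | ⟨x, -, rfl, hA⟩⟩ := stab2 h hg.1 ((hg.2 _ (pr h 1).1).2.trans (pr h 1).2)
  · exact ⟨w, hw, e⟩
  have h1 := (RA_W h hw).inv.mul hg
  rw [inv_mul_cancel_left] at h1
  have h2 := (hA _ (pE h 1).1).2.symm.trans (h1.2 _ (pE h 1).1).2
  rw [(pE h 1).2] at h2
  exact absurd h2 (chk_triv v h.l0 1).2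

omit h

theorem vone : VOneStmt.{u} := fun _ _ _ _ _ _ _ _ _ _ _ _ _ h1 h2 h3 h4 h5 h6 =>
  v_eq ⟨h1, h2, h3, h4, h5, h6, one_ne_zero⟩

theorem phi : PhiStmt.{u} := by
  intro G _ _ D R Od W r f c v v' π h1 h2 h3 h4 h5 h6 h7
  have k : ∀ v v' : F4, v * v' = 1 → v' = v ^ 2 ∧ v ≠ 0 := by decide
  obtain ⟨rfl, h0⟩ := k v v' h6
  have h : Hy D R Od W r f c v (v ^ 2) v π := ⟨h1, h2, h3, h4, h5, h7, h0⟩
  have sp : ∀ g ∈ M0 D W, RA D W π g (Classical.epsilon (RA D W π g)) := fun g hg =>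
    Classical.epsilon_spec (M0_RR h hg)
  refine ⟨fun g => Classical.epsilon (RA D W π g),
    fun g hg k hk => RA_uniq h (sp _ (mul_mem hg hk)) ((sp g hg).mul (sp k hk)),
    fun g hg a ha => ((sp g hg).2 a ha).2,
    fun φ hφ => ?_, fun g hg e => RA_ker h (e ▸ sp g hg)⟩
  obtain ⟨g, hg, k⟩ := surj h hφ
  exact ⟨g, hg.1, RA_uniq h (sp g hg.1) hg, k⟩

end Cfsg.Agent.H26.ALP
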