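import Mathlib
import Cfsg.Agent.H96.D4Defs

/-!
# Polynomial functions of bounded degree on `K`, and their sums
-/

set_option autoImplicit false

namespace Cfsg.Agent.H26.D4

open Cfsg.Agent.H96.DF

universe u v

variable {F K : Type u} [Field F] [Field K] [Algebra F K]

section Pol

variable {W W' W'' : Type v} [AddCommGroup W] [Module F W] [AddCommGroup W'] [Module F W']
  [AddCommGroup W''] [Module F W'']

variable (F K W) in
/-- Polynomial functions `K → W` of degree at most `n` (in `F`-coordinates). -/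
def Pol (n : ℕ) : Submodule F (K → W) :=
  Submodule.span F {g | ∃ (l : List (K →ₗ[F] F)) (w : W), l.length ≤ n ∧
    g = fun t => (l.map fun φ => φ t).prod • w}

theorem pol_const (n : ℕ) (w : W) : (fun _ : K => w) ∈ Pol F K W n :=
  Submodule.subset_span ⟨[], w, by simp, by simp⟩

theorem pol_mono {n m : ℕ} (h : n ≤ m) {f : K → W} (hf : f ∈ Pol F K W n) : f ∈ Pol F K W m :=
  Submodule.span_mono (by rintro _ ⟨l, w, hl, rfl⟩; exact ⟨l, w, hl.trans h, rfl⟩) hf

theorem pol_add {n : ℕ} {f g : K → W} (hf : f ∈ Pol F K W n) (hg : g ∈ Pol F K W n) :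
    (fun t => f t + g t) ∈ Pol F K W n := add_mem hf hg

theorem pol_congr {n : ℕ} {f g : K → W} (hf : f ∈ Pol F K W n) (h : ∀ t, g t = f t) :
    g ∈ Pol F K W n := (funext h : g = f) ▸ hf

theorem pol_lin [Module.Finite F K] (L : K →ₗ[F] W) : (fun t => L t) ∈ Pol F K W 1 := by
  let b := Module.finBasis F K
  have : (fun t => L t) = ∑ i, fun t => ([b.coord i].map fun φ => φ t).prod • L (b i) := by
    funext t
    conv_lhs => rw [← b.sum_repr t, map_sum]
    simp [Finset.sum_apply]
  rw [this]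
  exact Submodule.sum_mem _ fun i _ => Submodule.subset_span ⟨[b.coord i], _, by simp, rfl⟩

theorem pol_map (M : W →ₗ[F] W') {n : ℕ} {f : K → W} (hf : f ∈ Pol F K W n) :
    (fun t => M (f t)) ∈ Pol F K W' n := by
  induction hf using Submodule.span_induction with
  | mem x hx =>
    obtain ⟨l, w, hl, rfl⟩ := hx
    exact Submodule.subset_span ⟨l, M w, hl, by simp⟩
  | zero => simpa using pol_const n (0 : W')
  | add x y _ _ hx hy => simpa using pol_add hx hy
  | smul c x _ hx => exact pol_congr (Submodule.smul_mem _ c hx) fun t => by simp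

theorem pol_smul (c : F) {n : ℕ} {f : K → W} (hf : f ∈ Pol F K W n) :
    (fun t => c • f t) ∈ Pol F K W n := Submodule.smul_mem _ c hf

theorem pol_bil (B : W →ₗ[F] W' →ₗ[F] W'') {n m : ℕ} {f : K → W} {g : K → W'}
    (hf : f ∈ Pol F K W n) (hg : g ∈ Pol F K W' m) :
    (fun t => B (f t) (g t)) ∈ Pol F K W'' (n + m) := by
  induction hf using Submodule.span_induction with
  | mem x hx =>
    obtain ⟨l, w, hl, rfl⟩ := hx
    induction hg using Submodule.span_induction with
    | mem y hy =>
      obtain ⟨l', w', hl', rfl⟩ := hy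
      exact Submodule.subset_span ⟨l ++ l', B w w', by simp; omega, by
        funext t; simp [smul_smul, mul_comm]⟩
    | zero => simpa using pol_const _ (0 : W'')
    | add x y _ _ hx hy => simpa using pol_add hx hy
    | smul c x _ hx => exact pol_congr (Submodule.smul_mem _ c hx) fun t => by simp
  | zero => simpa using pol_const _ (0 : W'')
  | add x y _ _ hx hy => simpa using pol_add hx hy
  | smul c x _ hx => exact pol_congr (Submodule.smul_mem _ c hx) fun t => by simp

theorem pol_app {n m : ℕ} {f : K → W' →ₗ[F] W''} {g : K → W'}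
    (hf : f ∈ Pol F K (W' →ₗ[F] W'') n) (hg : g ∈ Pol F K W' m) :
    (fun t => f t (g t)) ∈ Pol F K W'' (n + m) :=
  pol_bil LinearMap.id hf hg

/-- The sum of a polynomial function of small degree vanishes. -/
theorem pol_sum [Fintype K] {n : ℕ} (hn : n < (Nat.card F - 1) * Module.finrank F K) {f : K → W}
    (hf : f ∈ Pol F K W n) : ∑ t, f t = 0 := by
  classical
  have : Finite F := Finite.of_injective _ (algebraMap F K).injective
  have := Fintype.ofFinite F
  induction hf using Submodule.span_induction with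
  | mem x hx =>
    obtain ⟨l, w, hl, rfl⟩ := hx
    let b := Module.finBasis F K
    let P : (K →ₗ[F] F) → MvPolynomial (Fin (Module.finrank F K)) F := fun φ =>
      ∑ i, MvPolynomial.C (φ (b i)) * MvPolynomial.X i
    have hP : ∀ φ, (P φ).totalDegree ≤ 1 := fun φ =>
      MvPolynomial.totalDegree_finsetSum_le fun i _ =>
        (MvPolynomial.totalDegree_mul _ _).trans (by simp [MvPolynomial.totalDegree_X])
    have hd : ∀ l : List (K →ₗ[F] F), (l.map P).prod.totalDegree ≤ l.length := by
      intro l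
      induction l with
      | nil => simp
      | cons a l ih =>
        rw [List.map_cons, List.prod_cons, List.length_cons]
        have := hP a
        exact (MvPolynomial.totalDegree_mul _ _).trans (by omega)
    have he : ∀ (l : List (K →ₗ[F] F)) x, MvPolynomial.eval x (l.map P).prod =
        (l.map fun φ => φ (b.equivFun.symm x)).prod := by
      intro l x
      induction l with
      | nil => simp
      | cons a l ih =>
        rw [List.map_cons, List.prod_cons, map_mul, ih, List.map_cons, List.prod_cons]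
        congr 1
        simp [P, mul_comm]
    have := MvPolynomial.sum_eval_eq_zero (l.map P).prod (by
      rw [Fintype.card_fin, ← Nat.card_eq_fintype_card]
      exact (hd l).trans_lt (hl.trans_lt hn))
    simp only [he] at this
    rw [← Finset.sum_smul, ← b.equivFun.symm.toEquiv.sum_comp]
    simp only [LinearEquiv.coe_toEquiv]
    rw [this, zero_smul]
  | zero => simp
  | add x y _ _ hx hy => simp [Finset.sum_add_distrib, hx, hy]
  | smul c x _ hx => simp [← Finset.smul_sum, hx]

end Pol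

variable (C : Tri F K)

include C in
theorem pol_finsum {W : Type v} [AddCommGroup W] [Module F W] [Finite K] {n : ℕ}
    (hn : n < (Nat.card F - 1) * 3) {f : K → W} (hf : f ∈ Pol F K W n) : ∑ᶠ t, f t = 0 := by
  have := Fintype.ofFinite K
  rw [finsum_eq_sum_of_fintype]
  exact pol_sum (by rwa [C.finrank]) hf

variable [Finite K]

theorem pol_id : (fun t : K => t) ∈ Pol F K K 1 :=
  have h := pol_lin (LinearMap.id : K →ₗ[F] K)
  pol_congr h fun _ => rfl

theorem pol_σ : (fun t : K => C.σ t) ∈ Pol F K K 1 :=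
  have h := pol_lin C.σ.toLinearMap
  pol_congr h fun _ => rfl

theorem pol_σσ : (fun t : K => C.σ (C.σ t)) ∈ Pol F K K 1 :=
  have h := pol_map C.σ.toLinearMap (pol_σ C)
  pol_congr h fun _ => rfl

omit [Finite K] in
theorem pol_mul {n m : ℕ} {f g : K → K} (hf : f ∈ Pol F K K n) (hg : g ∈ Pol F K K m) :
    (fun t => f t * g t) ∈ Pol F K K (n + m) :=
  have h := pol_bil (LinearMap.mul F K) hf hg
  pol_congr h fun _ => rfl

omit [Finite K] in
theorem pol_mulc {n : ℕ} {f : K → K} (hf : f ∈ Pol F K K n) (c : K) :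
    (fun t => f t * c) ∈ Pol F K K n :=
  have h := pol_map (LinearMap.mulRight F c) hf
  pol_congr h fun _ => rfl

theorem pol_sh : (fun t : K => C.sh t) ∈ Pol F K K 2 :=
  have h := pol_mul (pol_σ C) (pol_σσ C)
  pol_congr h fun _ => rfl

theorem pol_cr (y : K) : (fun t : K => C.cr t y) ∈ Pol F K K 1 :=
  have h := pol_add (pol_mulc (pol_σ C) (C.σ (C.σ y))) (pol_mulc (pol_σσ C) (C.σ y))
  pol_congr h fun _ => rfl

theorem pol_N : (fun t : K => C.N t) ∈ Pol F K F 3 := by
  obtain ⟨f, hf⟩ := C.exists_T_one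
  have h := pol_map C.T (pol_mulc (pol_mul pol_id (pol_sh C)) f)
  refine pol_congr h fun t => ?_
  rw [C.mul_sh, ← Algebra.smul_def, map_smul, hf, smul_eq_mul, mul_one]

/-- embeddings of the coordinates -/
def i1 : F →ₗ[F] V F K := LinearMap.inl F F (K × K × F)
def i2 : K →ₗ[F] V F K := (LinearMap.inr F F (K × K × F)).comp (LinearMap.inl F K (K × F))
def i3 : K →ₗ[F] V F K := (LinearMap.inr F F (K × K × F)).comp
  ((LinearMap.inr F K (K × F)).comp (LinearMap.inl F K F))

omit [Finite K] in
theorem pol_V {n : ℕ} {a : K → F} {x y : K → K} (u : F) (ha : a ∈ Pol F K F n)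
    (hx : x ∈ Pol F K K n) (hy : y ∈ Pol F K K n) :
    (fun t => ((a t, x t, y t, u) : V F K)) ∈ Pol F K (V F K) n :=
  have h := pol_add (pol_add (pol_add (pol_map (i1 (K := K)) ha) (pol_map i2 hx)) (pol_map i3 hy))
    (pol_const n ((0, 0, 0, u) : V F K))
  pol_congr h fun t => by simp [i1, i2, i3]

/-- the part of `ρ t v` of degree at most two -/
def low (t : K) (v : V F K) : V F K :=
  (v.1 + C.T (t * v.2.1) + C.T (C.sh t * v.2.2.1), v.2.1 + C.cr t v.2.2.1 + v.2.2.2 • C.sh t,
    v.2.2.1 + v.2.2.2 • t, v.2.2.2)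

omit [Finite K] in
theorem ρ_eq (t : K) (v : V F K) : ρ C t v = (C.N t * v.2.2.2) • e0 + low C t v := by
  simp [ρ_apply, rmap, low, e0, add_comm]

theorem pol_low (v : V F K) : (fun t => low C t v) ∈ Pol F K (V F K) 2 :=
  have h1 := pol_mono (m := 2) (by omega) (pol_map C.T (pol_mulc pol_id v.2.1))
  have h2 := pol_map C.T (pol_mulc (pol_sh C) v.2.2.1)
  have h3 := pol_mono (m := 2) (by omega) (pol_cr C v.2.2.1)
  have h4 := pol_smul v.2.2.2 (pol_sh C)
  have h5 := pol_mono (m := 2) (by omega) (pol_smul v.2.2.2 (pol_id (K := K)))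
  have h := pol_V v.2.2.2 (pol_add (pol_add (pol_const 2 v.1) h1) h2)
    (pol_add (pol_add (pol_const 2 v.2.1) h3) h4) (pol_add (pol_const 2 v.2.2.1) h5)
  pol_congr h fun _ => rfl

theorem pol_top (u : F) : (fun t => (C.N t * u) • (e0 : V F K)) ∈ Pol F K (V F K) 3 :=
  have h := pol_map (LinearMap.toSpanSingleton F _ (u • (e0 : V F K))) (pol_N C)
  pol_congr h fun t => by simp [smul_smul]

theorem pol_ρ3 (v : V F K) : (fun t => ρ C t v) ∈ Pol F K (V F K) 3 :=
  have h := pol_add (pol_top C v.2.2.2) (pol_mono (by omega) (pol_low C v))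
  pol_congr h fun t => ρ_eq C t v

theorem pol_ρ2 {v : V F K} (h : v.2.2.2 = 0) : (fun t => ρ C t v) ∈ Pol F K (V F K) 2 :=
  pol_congr (pol_low C v) fun t => by rw [ρ_eq, h, mul_zero, zero_smul, zero_add]

theorem pol_ρ1 {v : V F K} (h : v.2.2.2 = 0) (h' : v.2.2.1 = 0) :
    (fun t => ρ C t v) ∈ Pol F K (V F K) 1 :=
  have h1 := pol_V 0 (pol_add (pol_const 1 v.1) (pol_map C.T (pol_mulc pol_id v.2.1)))
    (pol_const 1 v.2.1) (pol_const 1 0)
  pol_congr h1 fun t => by simp [ρ_apply, rmap, h, h']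

omit [Finite K] in
theorem pol_ρ0 {v : V F K} (h : v.2.2.2 = 0) (h' : v.2.2.1 = 0) (h'' : v.2.1 = 0) :
    (fun t => ρ C t v) ∈ Pol F K (V F K) 0 :=
  pol_congr (pol_const _ v) fun t => by
    obtain ⟨a, x, y, u⟩ := v
    simp only at h h' h''
    simp [ρ_apply, rmap, h, h', h'']

omit [Finite K]

/-- a multilinear form as an iterated linear map -/
def mlin {m : V F K → V F K → V F K → V F K → F} (hm : ML4 m) :
    V F K →ₗ[F] V F K →ₗ[F] V F K →ₗ[F] V F K →ₗ[F] F where
  toFun a :=
    { toFun := fun b => LinearMap.mk₂ F (m a b) (fun c c' d => (hm.l3 a b d).map_add c c')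
        (fun r c d => (hm.l3 a b d).map_smul r c) (fun c d d' => (hm.l4 a b c).map_add d d')
        (fun r c d => (hm.l4 a b c).map_smul r d)
      map_add' := fun b b' => LinearMap.ext₂ fun c d => (hm.l2 a c d).map_add b b'
      map_smul' := fun r b => LinearMap.ext₂ fun c d => (hm.l2 a c d).map_smul r b }
  map_add' a a' := LinearMap.ext fun b => LinearMap.ext₂ fun c d => (hm.l1 b c d).map_add a a'
  map_smul' r a := LinearMap.ext fun b => LinearMap.ext₂ fun c d => (hm.l1 b c d).map_smul r a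

theorem mlin_apply {m : V F K → V F K → V F K → V F K → F} (hm : ML4 m) (a b c d : V F K) :
    mlin hm a b c d = m a b c d := rfl

theorem pol_ml4 {m : V F K → V F K → V F K → V F K → F} (hm : ML4 m) {n1 n2 n3 n4 : ℕ}
    {a b c d : K → V F K} (ha : a ∈ Pol F K (V F K) n1) (hb : b ∈ Pol F K (V F K) n2)
    (hc : c ∈ Pol F K (V F K) n3) (hd : d ∈ Pol F K (V F K) n4) :
    (fun t => m (a t) (b t) (c t) (d t)) ∈ Pol F K F (n1 + n2 + n3 + n4) :=
  have h := pol_app (pol_app (pol_bil (mlin hm) ha hb) hc) hd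
  pol_congr h fun _ => rfl

theorem ml4_comp {m : V F K → V F K → V F K → V F K → F} (hm : ML4 m) (g : V F K →ₗ[F] V F K) :
    ML4 fun a b c d => m (g a) (g b) (g c) (g d) where
  l1 b c d := ⟨fun x y => by simp [← mlin_apply hm], fun r x => by simp [← mlin_apply hm]⟩
  l2 b c d := ⟨fun x y => by simp [← mlin_apply hm], fun r x => by simp [← mlin_apply hm]⟩
  l3 b c d := ⟨fun x y => by simp [← mlin_apply hm], fun r x => by simp [← mlin_apply hm]⟩
  l4 b c d := ⟨fun x y => by simp [← mlin_apply hm], fun r x => by simp [← mlin_apply hm]⟩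

variable {C}

theorem trc [Finite K] : TrcStmt C := by
  intro hq m hm
  have := Fintype.ofFinite K
  refine ⟨∑ t, C.N t ^ 4 * m e0 e0 e0 e0, fun a b c d => ?_⟩
  have hn : 11 < (Nat.card F - 1) * Module.finrank F K := by rw [C.finrank]; omega
  have p1 := pol_ml4 hm (pol_low C a) (pol_ρ3 C b) (pol_ρ3 C c) (pol_ρ3 C d)
  have p2 := pol_ml4 hm (pol_top C a.2.2.2) (pol_low C b) (pol_ρ3 C c) (pol_ρ3 C d)
  have p3 := pol_ml4 hm (pol_top C a.2.2.2) (pol_top C b.2.2.2) (pol_low C c) (pol_ρ3 C d)
  have p4 := pol_ml4 hm (pol_top C a.2.2.2) (pol_top C b.2.2.2) (pol_top C c.2.2.2) (pol_low C d)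
  have s := pol_sum hn (pol_add (pol_add (pol_add p1 p2) p3) p4)
  rw [finsum_eq_sum_of_fintype, Finset.sum_mul, ← add_zero (∑ t, C.N t ^ 4 * _ * _), ← s,
    ← Finset.sum_add_distrib]
  refine Finset.sum_congr rfl fun t _ => ?_
  simp only [← mlin_apply hm, ρ_eq, map_add, map_smul, LinearMap.add_apply, LinearMap.smul_apply,
    smul_eq_mul]
  ring

theorem inv5 [Finite K] {p : ℕ} (hT : TkStmt C p) (hK : Kap C) : Inv5Stmt C p := by
  intro hq D hD
  obtain ⟨m, ⟨I, hI⟩, hm⟩ := hT D hD
  choose k hk using fun g : V F K ≃ₗ[F] V F K => trc (C := C) hq _ (ml4_comp hK.ml g.toLinearMap)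
  have e : ∀ a b c d, m a b c d = (∑ g ∈ I, k g) * (a.2.2.2 * b.2.2.2 * c.2.2.2 * d.2.2.2) :=
    fun a b c d => by
      rw [hI, Finset.sum_mul]
      exact Finset.sum_congr rfl fun g _ => hk g a b c d
  refine ⟨∑ g ∈ I, k g, fun g hg a b c d => ?_⟩
  rw [kc, kc, ← e, ← e]
  exact hm g hg a b c d

end Cfsg.Agent.H26.D4
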