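import Mathlib
import Cfsg.Agent.H87.LQ0
import Cfsg.Agent.H56.ONanPSL

/-! The geometric step in Suzuki's characterisation of `L_n(q)`, `q` even. -/

set_option autoImplicit false

namespace Cfsg.Agent.H26.Geo

open Subgroup Matrix MulAction Cfsg.Agent.H85 Cfsg.Agent.H87.LQ Cfsg.Agent.H56

universe u v

theorem frame_field {F F' X : Type*} [Field F] [Field F'] (e : F ≃+* F') {n : ℕ}
    {L : X → X → Set X} {ψ : (Fin n → F') → X} (fr : Frame F' L ψ) :
    Frame F L fun v : Fin n → F => ψ (e ∘ v) := by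
  have inj : ∀ v w : Fin n → F, e ∘ v = e ∘ w → v = w := fun v w h =>
    funext fun i => e.injective (congrFun h i)
  have ne : ∀ v : Fin n → F, v ≠ 0 → e ∘ v ≠ 0 := fun v hv h =>
    hv (inj v 0 (h.trans (funext fun i => by simp)))
  refine ⟨fun x => ?_, fun v v' hv hv' => ?_, fun v v' w hv hv' hw hne => ?_⟩
  · obtain ⟨v, hv, rfl⟩ := fr.surj x
    have : e ∘ (e.symm ∘ v) = v := funext fun i => by simp
    exact ⟨e.symm ∘ v, fun h => hv (by rw [← this, h]; exact funext fun i => by simp), by rw [this]⟩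
  · rw [fr.eq_iff _ _ (ne v hv) (ne v' hv')]
    constructor
    · rintro ⟨t, ht⟩
      exact ⟨e.symm t, inj _ _ (ht.trans (funext fun i => by simp))⟩
    · rintro ⟨t, rfl⟩
      exact ⟨e t, funext fun i => by simp⟩
  · rw [fr.line _ _ _ (ne v hv) (ne v' hv') (ne w hw) hne]
    constructor
    · rintro ⟨s, t, ht⟩
      exact ⟨e.symm s, e.symm t, inj _ _ (ht.trans (funext fun i => by simp))⟩
    · rintro ⟨s, t, rfl⟩
      exact ⟨e s, e t, funext fun i => by simp⟩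

/-- O'Nan's theorem with a prescribed field -/
theorem onan_q {M : Type u} {X : Type*} [Group M] [Finite M] [MulAction M X] [FaithfulSMul M X]
    {A : X → Subgroup M} (h : ON 2 A) {F : Type v} [Field F] [Fintype F] {m : ℕ} (hm1 : 1 ≤ m)
    (hq : ∀ x y, x ≠ y → (stabilizer M y).relIndex (A x) = Fintype.card F)
    (hm : ∀ x, Nat.card (A x) = Fintype.card F ^ (m - 1)) :
    ∃ (ψ : (Fin m → F) → X) (φ : SLn m F →* M), (∀ x, ∃ v, v ≠ 0 ∧ ψ v = x) ∧
      φ.ker = center _ ∧ φ.range.Normal ∧ ∀ v, v ≠ 0 → A (ψ v) = (Tc v).map φ := by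
  have : Fact (Nat.Prime 2) := ⟨Nat.prime_two⟩
  obtain ⟨F', _, _, n, ψ', hn, fr', hc'⟩ := h.exists_frame
  have hF : Nat.card F' = Fintype.card F := by
    have hV : Nat.card (Fin n → F') = Nat.card F' ^ n := by rw [Nat.card_fun, Nat.card_fin]
    let i : Fin n := ⟨0, by omega⟩
    let j : Fin n := ⟨1, by omega⟩
    have hij : i ≠ j := by simp [i, j]
    have hv : (Pi.single i 1 : Fin n → F') ≠ 0 := by simp
    have hw : ∀ c : F', (Pi.single j 1 + c • Pi.single i 1 : Fin n → F') ≠ 0 := by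
      intro c e
      simpa [hij.symm] using congrFun e j
    have inj : Function.Injective fun c : F' => ψ' (Pi.single j 1 + c • Pi.single i 1) := by
      intro c c' e
      obtain ⟨t, ht⟩ := (fr'.eq_iff _ _ (hw c) (hw c')).1 e
      have e1 := congrFun ht j
      have e2 := congrFun ht i
      simp [hij, hij.symm] at e1 e2
      rw [e2, ← e1, one_mul]
    have hne : ψ' (Pi.single i 1) ≠ ψ' (Pi.single j 1) := fun e => by
      obtain ⟨t, ht⟩ := (fr'.eq_iff _ _ hv (by simp)).1 e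
      simpa [hij.symm] using congrFun ht j
    have orb : orbit (A (ψ' (Pi.single i 1))) (ψ' (Pi.single j 1)) =
        Set.range fun c : F' => ψ' (Pi.single j 1 + c • Pi.single i 1) := by
      ext y
      constructor
      · rintro ⟨a, rfl⟩
        obtain ⟨f, -, hf⟩ := h.act fr' hv a.2
        exact ⟨_, (hf _ (by simp)).symm⟩
      · rintro ⟨c, rfl⟩
        obtain ⟨a, ha, ha'⟩ := h.act_surj fr' (fun x => (hc' x).trans hV.symm) hv
          (c • LinearMap.proj j) (by simp [hij.symm])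
        exact ⟨⟨a, ha⟩, by simpa using ha' (Pi.single j 1) (by simp)⟩
    rw [← hq _ _ hne, ← Set.ncard_range_of_injective inj, ← orb, ← index_stabilizer]
    rfl
  obtain rfl : n = m := by
    have := hc' (ψ' 0)
    rw [hm, hF, ← pow_succ, Nat.sub_add_cancel hm1] at this
    exact (Nat.pow_right_injective Fintype.one_lt_card this).symm
  have fr := frame_field (FiniteField.ringEquivOfCardEq (K := F) (K' := F')
    (by rw [← hF, Nat.card_eq_fintype_card])) fr'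
  generalize (fun v : Fin n → F => ψ' (_ ∘ v)) = ψ at fr
  have hc : ∀ x, Nat.card (A x) * Nat.card F = Nat.card (Fin n → F) := fun x => by
    rw [hm, Nat.card_fun, Nat.card_fin, Nat.card_eq_fintype_card, ← pow_succ,
      Nat.sub_add_cancel hm1]
  obtain ⟨e, he⟩ := fr.exists_equiv
  let ρ : M →* Equiv.Perm (Projectivization F (Fin n → F)) :=
    e.permCongrHom.toMonoidHom.comp (toPermHom M X)
  have hρ : Function.Injective ρ := e.permCongrHom.injective.comp toPerm_injective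
  let σ := toPermHom (SLn n F) (Projectivization F (Fin n → F))
  have hkey : ∀ (a : M) (v c : Fin n → F) (t : SLn n F),
      (t : Matrix (Fin n) (Fin n) F) = 1 + vecMulVec v c →
      (∀ w, w ≠ 0 → a • ψ w = ψ (w + (c ⬝ᵥ w) • v)) → ρ a = σ t := by
    intro a v c t ht k
    ext P
    induction P using Projectivization.ind with | h w hw =>
    show e (a • e.symm (Projectivization.mk F w hw)) = t • Projectivization.mk F w hw
    have : w + (c ⬝ᵥ w) • v = t • w := by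
      rw [← H26.tv_mulVec, ← ht]; rfl
    rw [← he w hw, Equiv.symm_apply_apply, k w hw, this, he, he w hw, Projectivization.smul_mk]
  have k1 : ∀ v, v ≠ 0 → (A (ψ v)).map ρ = (Tc v).map σ := fun v hv => by
    apply le_antisymm
    · rintro _ ⟨a, ha, rfl⟩
      obtain ⟨f, hf, hf'⟩ := h.act fr hv ha
      obtain ⟨c, hc⟩ := H26.exists_dotProduct_eq f
      refine ⟨tv v c (by rw [← hc, hf]), ⟨c, by rw [← hc, hf], rfl⟩,
        (hkey a v c _ rfl fun w hw => by rw [hf' w hw, hc]).symm⟩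
    · rintro _ ⟨t, ⟨c, h1, h2⟩, rfl⟩
      obtain ⟨a, ha, ha'⟩ := h.act_surj fr hc hv (dotProductBilin F F c) h1
      exact ⟨a, ha, hkey a v c t h2 ha'⟩
  have heq : σ.range = (⨆ x, A x).map ρ := by
    apply le_antisymm
    · have : ((⨆ x, A x).map ρ).comap σ = ⊤ := by
        refine H26.sl_eq_top_of_transvection_mem _ fun i j hij c => ?_
        have hv : (Pi.single i c : Fin n → F) ≠ 0 ∨ c = 0 := by by_cases hc : c = 0 <;> simp [hc]
        rcases hv with hv | rfl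
        · refine map_mono (le_iSup A (ψ (Pi.single i c))) (k1 _ hv ▸ mem_map_of_mem σ
            ⟨Pi.single j 1, by simp [hij.symm], ?_⟩)
          rw [H26.vecMulVec_single_single, Matrix.SpecialLinearGroup.transvection_coe]
        · rw [show Matrix.SpecialLinearGroup.transvection hij (0 : F) = 1 from
            Subtype.ext (by simp [Matrix.SpecialLinearGroup.transvection_coe])]
          exact one_mem _
      rintro _ ⟨t, rfl⟩
      exact this.ge (mem_top t)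
    · rw [Subgroup.map_iSup]
      refine iSup_le fun x => ?_
      obtain ⟨v, hv, rfl⟩ := fr.surj x
      rw [k1 v hv]
      exact map_le_range _ _
  have hr : ∀ t, σ t ∈ ρ.range := fun t => map_le_range _ _ (heq.le ⟨t, rfl⟩)
  let φ : SLn n F →* M := (MonoidHom.ofInjective hρ).symm.toMonoidHom.comp (σ.codRestrict _ hr)
  have hφ : ∀ t, ρ (φ t) = σ t := fun t => MonoidHom.apply_ofInjective_symm hρ _
  have hφ' : ρ.comp φ = σ := MonoidHom.ext hφ
  refine ⟨ψ, φ, fr.surj, ?_, ?_, fun v hv => ?_⟩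
  · rw [← Projectivization.SL_mulAction_ker]
    ext t
    rw [MonoidHom.mem_ker, MonoidHom.mem_ker, ← map_eq_one_iff ρ hρ, hφ]
  · have : φ.range = ⨆ x, A x := map_injective hρ (by rw [← heq, ← hφ', MonoidHom.range_comp ρ φ])
    rw [this]
    exact h.normal_iSup
  · exact map_injective hρ (by rw [k1 v hv, Subgroup.map_map, hφ'])

section Mat

variable {n : ℕ} {F : Type v} [Field F]

theorem center_scalar {t : SLn n F} (h : t ∈ center (SLn n F)) :
    ∃ r : F, (t : Matrix (Fin n) (Fin n) F) = r • 1 := by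
  obtain ⟨r, -, hr⟩ := Matrix.SpecialLinearGroup.mem_center_iff.1 h
  exact ⟨r, by rw [← hr, scalar_apply, ← smul_one_eq_diagonal]⟩

theorem tv_not_center {t : SLn n F} {v c : Fin n → F} (h : IsTv t v c) : t ∉ center (SLn n F) := by
  intro hc
  obtain ⟨r, hr⟩ := center_scalar hc
  obtain ⟨h1, h2, h3, h4⟩ := h
  have k : ∀ w, w + (c ⬝ᵥ w) • v = r • w := fun w => by
    rw [← H26.tv_mulVec, ← h4, hr, smul_mulVec, one_mulVec]
  have hr1 : r = 1 := by
    have := k v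
    rw [h3, zero_smul, add_zero] at this
    exact smul_left_injective F h1 (this.symm.trans (one_smul F v).symm)
  obtain ⟨w, hw⟩ := ex_one h2
  exact h1 (by simpa [hw, hr1] using k w)

/-- a product of two transvections with distinct centres is a scalar multiple of a transvection
only if the axes agree -/
theorem axis_eq (h4 : 4 ≤ n) {v c v' c' v'' c'' : Fin n → F} {r : F} (hv : v ≠ 0) (hc : c ≠ 0)
    (hn : ¬ Ln v v')
    (e : (1 + vecMulVec v c) * (1 + vecMulVec v' c') = r • (1 + vecMulVec v'' c'')) : Ln c c' := by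
  by_contra hcc
  have k : ∀ w, w + (c' ⬝ᵥ w) • v' + (c ⬝ᵥ w + (c' ⬝ᵥ w) * (c ⬝ᵥ v')) • v =
      r • (w + (c'' ⬝ᵥ w) • v'') := fun w => by
    have := congrArg (· *ᵥ w) e
    simp only [← mulVec_mulVec, smul_mulVec, H26.tv_mulVec, dotProduct_add, dotProduct_smul,
      smul_eq_mul] at this
    exact this
  obtain ⟨w, hw, hw0⟩ := ex_vec (k := 3) (l := 0) ![c, c', c''] ![] (by omega)
  have hr : r = 1 := by
    have := k w
    rw [show c ⬝ᵥ w = 0 from hw 0, show c' ⬝ᵥ w = 0 from hw 1, show c'' ⬝ᵥ w = 0 from hw 2] at this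
    simp only [zero_smul, add_zero, zero_mul] at this
    exact smul_left_injective F (fun e => hw0 (by rw [e]; exact zero_mem _))
      (this.symm.trans (one_smul F w).symm)
  obtain ⟨w₁, w₂, a1, a2, b1, b2⟩ := ex_pair hc hcc
  have k1 := k w₁
  have k2 := k w₂
  simp only [a1, a2, b1, b2, hr, one_smul, zero_smul, add_zero, zero_mul, zero_add, one_mul,
    add_right_inj, add_assoc] at k1 k2
  have h0 : c'' ⬝ᵥ w₁ ≠ 0 := fun e => hv (by rw [k1, e, zero_smul])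
  refine hn ⟨c'' ⬝ᵥ w₂ / c'' ⬝ᵥ w₁ - c ⬝ᵥ v', ?_⟩
  have : (c'' ⬝ᵥ w₂ / c'' ⬝ᵥ w₁) • v = (c'' ⬝ᵥ w₂) • v'' := by
    conv_lhs => rw [k1]
    rw [smul_smul, div_mul_cancel₀ _ h0]
  rw [sub_smul, this]
  exact eq_sub_iff_add_eq.2 k2

theorem ta_comm {c : Fin n → F} {a b : SLn n F} (ha : a ∈ Ta c) (hb : b ∈ Ta c) : a * b = b * a := by
  obtain ⟨v, h1, h2⟩ := ha
  obtain ⟨w, k1, k2⟩ := hb
  apply Subtype.ext
  rw [Matrix.SpecialLinearGroup.coe_mul, Matrix.SpecialLinearGroup.coe_mul, h2, k2, H26.tv_mul_tv,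
    H26.tv_mul_tv, h1, k1, zero_smul, zero_smul, add_right_comm 1]

end Mat

variable {G : Type u} [Group G]

theorem cj_of_comm {c x : G} (e : c * x = x * c) : c * x * c⁻¹ = x := by rw [e]; group

theorem card_mul_le [Finite G] {A H K : Subgroup G} (hH : H ≤ A) (hK : K ≤ A)
    (h : ∀ x ∈ H, x ∈ K → x = 1) : Nat.card H * Nat.card K ≤ Nat.card A := by
  rw [← Nat.card_prod]
  refine Nat.card_le_card_of_injective
    (fun p : H × K => (⟨p.1 * p.2, mul_mem (hH p.1.2) (hK p.2.2)⟩ : A)) fun p p' e => ?_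
  have e1 : (p.1 : G) * p.2 = p'.1 * p'.2 := congrArg Subtype.val e
  have e2 : (p'.1 : G)⁻¹ * p.1 = p'.2 * (p.2 : G)⁻¹ := by
    rw [inv_mul_eq_iff_eq_mul, ← mul_assoc, ← e1, mul_inv_cancel_right]
  have e3 := h _ (mul_mem (inv_mem p'.1.2) p.1.2) (e2 ▸ mul_mem p'.2.2 (inv_mem p.2.2))
  exact Prod.ext (Subtype.ext (inv_mul_eq_one.1 e3).symm)
    (Subtype.ext (mul_inv_eq_one.1 (e2 ▸ e3)).symm)

/-- same component -/
def R (I : Set G) (Y Y' : G → Subgroup G) (s r : G) : Prop :=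
  s ∈ I ∧ r ∈ I ∧ ∃ a ∈ Y' s, a ≠ 1 ∧ ∃ b ∈ Y' r, b ≠ 1 ∧ b ∈ Y a

/-- the hypotheses -/
structure Hy (q m : ℕ) (I : Set G) (Y Y' : G → Subgroup G) : Prop where
  st : STq q m I Y Y'
  hq : 2 ≤ q
  hm : 4 ≤ m

namespace Hy

variable {q m : ℕ} {I : Set G} {Y Y' : G → Subgroup G} (h : Hy q m I Y Y')
include h

theorem sw : Hy q m I Y' Y := ⟨h.st.symm, h.hq, h.hm⟩
theorem ne1 {s : G} (hs : s ∈ I) : s ≠ 1 := fun e => h.st.ne (e ▸ hs)
theorem mz {s : G} (hs : s ∈ I) : s ∈ Y s := h.st.h.mem s hs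
theorem memI {s y : G} (hs : s ∈ I) (hy : y ∈ Y s) (h1 : y ≠ 1) : y ∈ I := (h.st.h.sub s hs y hy h1).1
theorem eqY {s y : G} (hs : s ∈ I) (hy : y ∈ Y s) (h1 : y ≠ 1) : Y y = Y s :=
  (h.st.h.sub s hs y hy h1).2
theorem fam (s g : G) : Y (g * s * g⁻¹) = cj g (Y s) := h.st.h.fam s g

theorem ab {s a b : G} (hs : s ∈ I) (ha : a ∈ Y s) (hb : b ∈ Y s) : a * b = b * a := by
  have i : ∀ y ∈ Y s, y⁻¹ = y := fun y hy => inv_eq_of_mul_eq_one_right (h.st.h.sq s hs y hy)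
  rw [← i _ (mul_mem ha hb), _root_.mul_inv_rev, i a ha, i b hb]

theorem cj_eq {s c : G} (e : c * s = s * c) : cj c (Y s) = Y s := by rw [← h.fam, cj_of_comm e]

theorem rY {z y : G} (hz : z ∈ I) (hy : y ∈ Y z) (h1 : y ≠ 1) : R I Y Y' z y :=
  ⟨hz, h.memI hz hy h1, z, h.sw.mz hz, h.ne1 hz, y, h.sw.mz (h.memI hz hy h1), h1, hy⟩

theorem rY' {z y : G} (hz : z ∈ I) (hy : y ∈ Y' z) (h1 : y ≠ 1) : R I Y Y' z y :=
  have := h.sw.memI hz hy h1
  ⟨hz, this, y, hy, h1, y, h.sw.mz this, h1, h.mz this⟩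

theorem refl {z : G} (hz : z ∈ I) : R I Y Y' z z := h.rY hz (h.mz hz) (h.ne1 hz)

theorem symm {s r : G} (k : R I Y Y' s r) : R I Y Y' r s := by
  obtain ⟨hs, hr, a, ha, a1, b, hb, b1, hab⟩ := k
  have ka := h.sw.memI hs ha a1
  exact ⟨hr, hs, b, hb, b1, a, ha, a1, by rw [h.eqY ka hab b1]; exact h.mz ka⟩

theorem conj {s r : G} (k : R I Y Y' s r) (g : G) : R I Y Y' (g * s * g⁻¹) (g * r * g⁻¹) := by
  obtain ⟨hs, hr, a, ha, a1, b, hb, b1, hab⟩ := k
  exact ⟨h.st.conj s hs g, h.st.conj r hr g, g * a * g⁻¹, h.sw.fam s g ▸ conj_mem_cj ha,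
    fun e => a1 (by simpa using e), g * b * g⁻¹, h.sw.fam r g ▸ conj_mem_cj hb,
    fun e => b1 (by simpa using e), h.fam a g ▸ conj_mem_cj hab⟩

theorem hyp {z s : G} (k : R I Y Y' z s) : ∃ H ≤ Y' z, Nat.card (Y' z) ≤ q * Nat.card H ∧
    ∀ u ∈ H, u ≠ 1 → ∃ a ∈ Y' s, a ≠ 1 ∧ a ∈ Y u := by
  obtain ⟨hz, hs, a, ha, a1, b, hb, b1, hab⟩ := k
  have ka := h.sw.memI hz ha a1
  have e1 : Y' a = Y' z := h.sw.eqY hz ha a1
  have e2 : Y' b = Y' s := h.sw.eqY hs hb b1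
  by_cases e : b ∈ Y' a
  · refine ⟨Y' z, le_rfl, Nat.le_mul_of_pos_left _ (by have := h.hq; omega), fun u hu u1 => ?_⟩
    exact ⟨u, by rwa [← e2, h.sw.eqY ka e b1, e1], u1, h.mz (h.sw.memI hz hu u1)⟩
  · refine ⟨centralizer {b} ⊓ Y' a, e1 ▸ inf_le_right, e1 ▸ (h.st.h.idx a ka b hab e).le,
      fun u hu u1 => ?_⟩
    rw [← e2]
    exact h.st.h.t1 a ka b hab e u hu.2 u1 (mem_centralizer_singleton_iff.1 hu.1)

variable [Finite G]

theorem trans {s z r : G} (k : R I Y Y' s z) (k' : R I Y Y' z r) : R I Y Y' s r := by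
  obtain ⟨H1, l1, c1, p1⟩ := h.hyp (h.symm k)
  obtain ⟨H2, l2, c2, p2⟩ := h.hyp k'
  obtain ⟨u, u1, u2, u0⟩ : ∃ u ∈ H1, u ∈ H2 ∧ u ≠ 1 := by
    by_contra! hc
    have c3 := card_mul_le l1 l2 hc
    have c4 := h.st.h'.card z k'.1
    have c5 : q ^ 3 ≤ q ^ (m - 1) :=
      Nat.pow_le_pow_right (by have := h.hq; omega) (by have := h.hm; omega)
    have c6 : Nat.card (Y' z) * Nat.card (Y' z) ≤ q ^ 2 * Nat.card (Y' z) :=
      (Nat.mul_le_mul c1 c2).trans (by nlinarith)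
    have c7 := Nat.le_of_mul_le_mul_right c6 Nat.card_pos
    have c8 : q ^ 2 < q ^ 3 := Nat.pow_lt_pow_right h.hq (by omega)
    omega
  obtain ⟨a, ha, a1, hau⟩ := p1 u u1 u0
  obtain ⟨b, hb, b1, hbu⟩ := p2 u u2 u0
  exact ⟨k.1, k'.2.1, a, ha, a1, b, hb, b1, by rwa [h.eqY (h.sw.memI k'.1 (l1 u1) u0) hau a1]⟩

theorem exists_not {s : G} (hs : s ∈ I) : ∃ b ∈ Y s, b ∉ Y' s := by
  by_contra! hc
  have c1 := h.st.inf s hs
  rw [inf_eq_left.2 hc, h.st.h.card s hs] at c1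
  have : q ^ 1 < q ^ (m - 1) := Nat.pow_lt_pow_right h.hq (by have := h.hm; omega)
  rw [pow_one] at this
  omega

omit [Finite G] in
theorem stab {s b x : G} (hs : s ∈ I) (hb : b ∈ Y s) (hb' : b ∉ Y' s) (hx : x ∈ Y' s)
    (e : cj x (Y' b) = Y' b) : x * b = b * x := by
  have b1 : b ≠ 1 := fun e => hb' (e ▸ one_mem _)
  have bI := h.memI hs hb b1
  have m1 : x * b * x⁻¹ * b⁻¹ ∈ Y' b := mul_mem (e ▸ conj_mem_cj (h.sw.mz bI)) (inv_mem (h.sw.mz bI))
  have m2 : x * b * x⁻¹ * b⁻¹ ∈ Y' s := by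
    have := mul_mem hx (h.sw.cj_eq (h.ab hs hb (h.mz hs)) ▸ conj_mem_cj (g := b) (inv_mem hx))
    simpa [mul_assoc] using this
  by_contra hn
  have e1 : x * b * x⁻¹ * b⁻¹ ≠ 1 := fun e => hn (by
    rw [mul_inv_eq_one, mul_inv_eq_iff_eq_mul] at e; exact e)
  exact hb' ((h.sw.eqY bI m1 e1).symm.trans (h.sw.eqY hs m2 e1) ▸ h.sw.mz bI)

/-- the stabiliser of the component -/
def M {z : G} (hz : z ∈ I) : Subgroup G where
  carrier := {g | R I Y Y' z (g * z * g⁻¹)}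
  one_mem' := by simpa using h.refl hz
  mul_mem' := fun {a b} ha hb => by
    have := h.trans ha (h.conj hb a)
    simpa [mul_assoc] using this
  inv_mem' := fun {a} ha => by
    have := h.symm (h.conj ha a⁻¹)
    simpa [mul_assoc] using this

variable {z : G} (hz : z ∈ I)

theorem r_conj {g s : G} (hg : g ∈ h.M hz) (k : R I Y Y' z s) : R I Y Y' z (g * s * g⁻¹) :=
  h.trans hg (h.conj k g)

theorem mem_M {g s : G} (k : R I Y Y' z s) (k' : R I Y Y' z (g * s * g⁻¹)) : g ∈ h.M hz :=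
  h.trans k' (h.symm (h.conj k g))

theorem le_M {s : G} (k : R I Y Y' z s) : Y' s ≤ h.M hz := fun y hy =>
  h.mem_M hz k (by rwa [cj_of_comm (h.sw.ab k.2.1 hy (h.sw.mz k.2.1))])

/-- the points -/
def Pt (_ : Hy q m I Y Y') (_ : z ∈ I) : Type u := {p : Subgroup G // ∃ s, R I Y Y' z s ∧ Y' s = p}

instance act : MulAction (h.M hz) (h.Pt hz) where
  smul g p := ⟨cj (g : G) p.1, by
    obtain ⟨s, hs, e⟩ := p.2
    exact ⟨_, h.r_conj hz g.2 hs, by rw [h.sw.fam, e]⟩⟩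
  one_smul p := Subtype.ext (cj_one _)
  mul_smul g k p := Subtype.ext (cj_mul _ _ _)

theorem smul_eq {g : h.M hz} {p p' : h.Pt hz} : g • p = p' ↔ cj (g : G) p.1 = p'.1 :=
  Subtype.ext_iff

theorem pair {x y : h.Pt hz} (hne : x ≠ y) : ∃ a b, R I Y Y' z a ∧ b ∈ Y a ∧ b ∉ Y' a ∧
    x.1 = Y' a ∧ y.1 = Y' b := by
  obtain ⟨_, s, hs, rfl⟩ := x
  obtain ⟨_, r, hr, rfl⟩ := y
  obtain ⟨k, l, a, ha, a1, b, hb, b1, hab⟩ := h.trans (h.symm hs) hr
  have e1 := h.sw.eqY k ha a1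
  have e2 := h.sw.eqY l hb b1
  refine ⟨a, b, h.trans hs (h.rY' k ha a1), hab, fun e => hne (Subtype.ext ?_), e1.symm, e2.symm⟩
  exact e1.symm.trans ((h.sw.eqY (h.sw.memI k ha a1) e b1).symm.trans e2)

theorem on : ON 2 fun p : h.Pt hz => p.1.subgroupOf (h.M hz) := by
  refine ⟨fun g x => (cj_subgroupOf g x.1).symm, fun x a ha => Subtype.ext (cj_eq_of_mem ha),
    ?_, ?_, ?_, ?_⟩
  · rintro ⟨_, s, hs, rfl⟩ a ha b hb
    exact Subtype.ext (h.sw.ab hs.2.1 ha hb)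
  · rintro ⟨_, s, hs, rfl⟩ a ha
    rw [pow_two]; exact Subtype.ext (h.st.h'.sq s hs.2.1 a ha)
  · intro x y x' y' hne hne'
    obtain ⟨a, b, ra, b1, b2, ex, ey⟩ := h.pair hz hne
    obtain ⟨a', b', ra', b1', b2', ex', ey'⟩ := h.pair hz hne'
    obtain ⟨g, g1, g2⟩ := h.st.one a ra.2.1 a' ra'.2.1
    obtain ⟨c, c1, c2⟩ := h.st.h.trans a' ra'.2.1 (g * b * g⁻¹) (g1 ▸ conj_mem_cj b1)
      (by rwa [← g2, conj_mem_cj_iff]) b' b1' b2'
    have e1 : cj (c * g) (Y' a) = Y' a' := by rw [cj_mul, g2, c1]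
    refine ⟨⟨c * g, h.mem_M hz ra (h.trans ra' (h.rY' ra'.2.1 (e1 ▸ conj_mem_cj (h.sw.mz ra.2.1))
      fun e => h.ne1 ra.2.1 (conj_eq_one_iff.1 e)))⟩, (h.smul_eq hz).2 ?_, (h.smul_eq hz).2 ?_⟩
    · rw [ex, ex', e1]
    · rw [ey, ey', cj_mul, ← h.sw.fam b g, c2]
  · obtain ⟨b, b1, b2⟩ := h.exists_not hz
    have b0 : b ≠ 1 := fun e => b2 (e ▸ one_mem _)
    refine ⟨⟨Y' z, z, h.refl hz, rfl⟩, ⟨Y' b, b, h.rY hz b1 b0, rfl⟩, fun e => b2 ?_,
      ⟨z, h.le_M hz (h.refl hz) (h.sw.mz hz)⟩, h.sw.mz hz,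
      fun e => h.ne1 hz (congrArg Subtype.val e),
      (h.smul_eq hz).2 (h.sw.cj_eq (h.ab hz (h.mz hz) b1))⟩
    have e' : Y' z = Y' b := congrArg Subtype.val e
    exact e' ▸ h.sw.mz (h.memI hz b1 b0)

theorem faithful : FaithfulSMul (h.M hz) (h.Pt hz) := by
  have k1 : ∀ x : h.M hz, (x : G) ∈ Y' z → (∀ p : h.Pt hz, x • p = p) → x = 1 := by
    intro x hx hp
    have k : ∀ s, R I Y Y' z s → (x : G) ∈ Y' s → (x : G) ∈ Y s := fun s hs hxs => by
      refine h.st.h.cent s hs.2.1 x fun y hy => ?_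
      by_cases hy' : y ∈ Y' s
      · exact h.sw.ab hs.2.1 hxs hy'
      · exact h.stab hs.2.1 hy hy' hxs ((h.smul_eq hz).1 (hp ⟨Y' y, y, h.trans hs
          (h.rY hs.2.1 hy fun e => hy' (e ▸ one_mem _)), rfl⟩))
    obtain ⟨u, u1, u2⟩ := h.sw.exists_not hz
    have u0 : u ≠ 1 := fun e => u2 (e ▸ one_mem _)
    have ru := h.rY' hz u1 u0
    by_contra hn
    have x1 : (x : G) ≠ 1 := fun e => hn (Subtype.ext e)
    have e1 := h.eqY hz (k z (h.refl hz) hx) x1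
    have e2 := h.eqY ru.2.1 (k u ru (by rwa [h.sw.eqY hz u1 u0])) x1
    exact u2 (e2.symm.trans e1 ▸ h.mz ru.2.1)
  refine faithfulSMul_iff.2 fun g hg => k1 g (h.st.h'.cent z hz g fun y hy => ?_) hg
  have e : cj (g : G) (Y' z) = Y' z := (h.smul_eq hz).1 (hg ⟨Y' z, z, h.refl hz, rfl⟩)
  let y' : h.M hz := ⟨y, h.le_M hz (h.refl hz) hy⟩
  have := k1 (g * y' * g⁻¹ * y'⁻¹) (mul_mem (e ▸ conj_mem_cj hy) (inv_mem hy)) fun p => by
    rw [mul_smul, mul_smul, mul_smul, hg, inv_smul_eq_iff.2 (hg _).symm, smul_inv_smul]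
  rw [mul_inv_eq_one, mul_inv_eq_iff_eq_mul] at this
  exact congrArg Subtype.val this

theorem relIndex_eq {x y : h.Pt hz} (hne : x ≠ y) :
    (stabilizer (h.M hz) y).relIndex (x.1.subgroupOf (h.M hz)) = q := by
  obtain ⟨a, b, ra, b1, b2, ex, ey⟩ := h.pair hz hne
  have e : stabilizer (h.M hz) y ⊓ x.1.subgroupOf (h.M hz) =
      (centralizer {b} ⊓ Y' a).subgroupOf (h.M hz) := by
    ext g
    rw [mem_inf, mem_stabilizer_iff, h.smul_eq hz, mem_subgroupOf, mem_subgroupOf, ex, ey, mem_inf,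
      mem_centralizer_singleton_iff]
    exact ⟨fun k => ⟨h.stab ra.2.1 b1 b2 k.2 k.1, k.2⟩, fun k => ⟨h.sw.cj_eq k.1, k.2⟩⟩
  rw [← inf_relIndex_right, e, ex, relIndex_subgroupOf (h.le_M hz ra)]
  have c1 := h.st.h.idx a ra.2.1 b b1 b2
  have c2 := Subgroup.card_mul_index ((centralizer {b} ⊓ Y' a).subgroupOf (Y' a))
  rw [Nat.card_congr (subgroupOfEquivOfLe inf_le_right).toEquiv, c1, mul_comm q] at c2
  exact Nat.eq_of_mul_eq_mul_left Nat.card_pos c2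

end Hy

theorem geo : GeoStmt.{u, v} := by
  intro G _ _ F _ _ m I Y Y' h4 st z hz
  have h : Hy (Fintype.card F) m I Y Y' := ⟨st, Fintype.one_lt_card, h4⟩
  have := h.faithful hz
  obtain ⟨ψ, φ₀, p1, p2, p3, p4⟩ := onan_q (h.on hz) (F := F) (m := m) (by omega)
    (fun x y hne => h.relIndex_eq hz hne) (by
      rintro ⟨_, s, hs, rfl⟩
      rw [Nat.card_congr (subgroupOfEquivOfLe (h.le_M hz hs)).toEquiv]
      exact st.h'.card s hs.2.1)
  set φ := (h.M hz).subtype.comp φ₀ with hφ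
  have hk : φ.ker = center _ := by
    rw [← p2, hφ, ← MonoidHom.comap_ker, ker_subtype, MonoidHom.comap_bot]
  have p5 : ∀ v, v ≠ 0 → (ψ v).1 = (Tc v).map φ := fun v hv => by
    obtain ⟨s, hs, e⟩ := (ψ v).2
    rw [hφ, ← Subgroup.map_map, ← p4 v hv, map_subgroupOf_eq_of_le (e ▸ h.le_M hz hs)]
  have k1 : ∀ s, R I Y Y' z s → ∃ t v c, IsTv t v c ∧ φ t = s := fun s hs => by
    obtain ⟨v, hv, e⟩ := p1 ⟨Y' s, s, hs, rfl⟩
    have : s ∈ (Tc v).map φ := by rw [← p5 v hv, e]; exact h.sw.mz hs.2.1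
    obtain ⟨t, ⟨c, c1, c2⟩, rfl⟩ := this
    refine ⟨t, v, c, ⟨hv, fun e => h.ne1 hs.2.1 ?_, c1, c2⟩, rfl⟩
    rw [show t = 1 from Subtype.ext (by simp [c2, e]), map_one]
  have k2 : ∀ t v c, IsTv t v c → R I Y Y' z (φ t) ∧ Y' (φ t) = (Tc v).map φ := fun t v c ht => by
    obtain ⟨s, hs, e⟩ := (ψ v).2
    rw [p5 v ht.1] at e
    have m1 : φ t ∈ Y' s := e ▸ mem_map_of_mem φ ⟨c, ht.2.2.1, ht.2.2.2⟩
    have n1 : φ t ≠ 1 := fun e => tv_not_center ht (hk ▸ e)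
    exact ⟨h.trans hs (h.rY' hs.2.1 m1 n1), (h.sw.eqY hs.2.1 m1 n1).trans e⟩
  refine ⟨h.M hz, φ, hk, ?_, fun g hg => mem_normalizer_of_cj_le ?_, k1 z (h.refl hz),
    fun t v c ht => ?_, fun g t v c ht => ⟨fun hg => ?_, ?_⟩⟩
  · rintro _ ⟨t, rfl⟩
    exact (φ₀ t).2
  · rintro _ ⟨_, ⟨t, rfl⟩, rfl⟩
    obtain ⟨t', ht'⟩ := p3.conj_mem _ ⟨t, rfl⟩ ⟨g, hg⟩
    exact ⟨t', congrArg Subtype.val ht'⟩
  · obtain ⟨r1, r2⟩ := k2 t v c ht
    have hI := r1.2.1
    have k3 : ∀ y ∈ Y (φ t), y ∉ Y' (φ t) → y ∈ (Ta c).map φ := fun y hy hy' => by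
      obtain ⟨t', v', c', ht', rfl⟩ := k1 y (h.trans r1 (h.rY hI hy fun e => hy' (e ▸ one_mem _)))
      have m2 := mul_mem (h.mz hI) hy
      obtain ⟨t'', v'', c'', ht'', e⟩ := k1 _ (h.trans r1 (h.rY hI m2 fun e => hy' (by
        rw [eq_inv_of_mul_eq_one_right e]; exact inv_mem (h.sw.mz hI))))
      obtain ⟨r, hr⟩ := center_scalar (t := t * t' * t''⁻¹)
        (by rw [← hk, MonoidHom.mem_ker, map_mul, map_mul, map_inv, e, mul_inv_cancel])
      obtain ⟨a, ha⟩ := axis_eq h4 (c' := c') (v'' := v'') (c'' := c'') (r := r) ht.1 ht.2.1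
        (v' := v') (by
          rintro ⟨a, rfl⟩
          refine hy' (r2 ▸ mem_map_of_mem φ ⟨a • c', ?_, ?_⟩)
          · rw [smul_dotProduct, ← dotProduct_smul, ht'.2.2.1]
          · rw [ht'.2.2.2, smul_vecMulVec, vecMulVec_smul]) (by
          rw [← ht.2.2.2, ← ht'.2.2.2, ← ht''.2.2.2, ← Matrix.SpecialLinearGroup.coe_mul,
            ← inv_mul_cancel_right (t * t') t'', Matrix.SpecialLinearGroup.coe_mul, hr,
            smul_mul_assoc, one_mul])
      refine mem_map_of_mem φ ⟨a • v', ?_, ?_⟩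
      · rw [dotProduct_smul, ← smul_dotProduct, ← ha, ht'.2.2.1]
      · rw [ht'.2.2.2, ha, smul_vecMulVec, vecMulVec_smul]
    have k4 : Y (φ t) ≤ (Ta c).map φ := fun y hy => by
      by_cases hy' : y ∈ Y' (φ t)
      · obtain ⟨b, b1, b2⟩ := h.exists_not hI
        have := mul_mem (k3 _ (mul_mem hy b1) fun e => b2 (by
          simpa using mul_mem (inv_mem hy') e)) (inv_mem (k3 b b1 b2))
        simpa using this
      · exact k3 y hy hy'
    refine ⟨hI, r2, le_antisymm k4 ?_⟩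
    rintro _ ⟨a, ha, rfl⟩
    refine st.h.cent _ hI _ fun y hy => ?_
    obtain ⟨b, hb, rfl⟩ := k4 hy
    rw [← map_mul, ← map_mul, ta_comm ha hb]
  · obtain ⟨t', v', c', ht', e⟩ := k1 _ (h.r_conj hz hg (k2 t v c ht).1)
    exact ⟨t', v', c', ht', e.symm⟩
  · rintro ⟨t', v', c', ht', e⟩
    exact h.mem_M hz (k2 t v c ht).1 (e ▸ (k2 t' v' c' ht').1)

end Cfsg.Agent.H26.Geo
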