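import Cfsg.Agent.H44.K5Defs

/-! Project K5: piece NEI. -/

set_option autoImplicit false

namespace Cfsg.Agent.H26.K5Nei

open Cfsg.Agent.H44.K5 Matrix

theorem sq8 (w : ℤ) : (w % 2 = 1 ∧ w ^ 2 % 8 = 1) ∨ (w % 2 = 0 ∧ w ^ 2 % 4 = 0) := by
  have : w % 8 = 0 ∨ w % 8 = 1 ∨ w % 8 = 2 ∨ w % 8 = 3 ∨ w % 8 = 4 ∨ w % 8 = 5 ∨ w % 8 = 6 ∨ w % 8 = 7 := by
    omega
  have h : w ^ 2 % 8 = (w % 8 * (w % 8)) % 8 := by rw [sq, Int.mul_emod]
  rcases this with e | e | e | e | e | e | e | e <;> rw [e] at h <;> omega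

theorem fin (p : ℤ) (hp : Prime p) (p1 : 1 < p) (po : p % 2 = 1) (x y z t c k s u0 u1 u2 u3 u4 w0 w2 w3 w4 : ℤ)
    (hc : c * (x + p * s) = 1 + p * k)
    (e0 : w0 = u0 * p ^ 2 + u1 * (c + p * k * (x + p * s)) - p * (u2 * y + u3 * z + u4 * t))
    (e2 : w2 = u1 * c * y + p * u2) (e3 : w3 = u1 * c * z + p * u3) (e4 : w4 = u1 * c * t + p * u4)
    (hn : w0 ^ 2 + u1 ^ 2 + w2 ^ 2 + w3 ^ 2 + w4 ^ 2 = p ^ 2) (ho : w0 % 2 = 1) :
    ∃ a b c d e : ℤ, ¬ p ∣ a ∧ p ∣ b - a * x ∧ p ∣ c - a * y ∧ p ∣ d - a * z ∧ p ∣ e - a * t ∧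
      p * a = a ^ 2 + b ^ 2 + c ^ 2 + d ^ 2 + e ^ 2 := by
  have ev : u1 % 2 = 0 ∧ w2 % 2 = 0 ∧ w3 % 2 = 0 ∧ w4 % 2 = 0 := by
    have a0 := sq8 w0
    have a1 := sq8 u1
    have a2 := sq8 w2
    have a3 := sq8 w3
    have a4 := sq8 w4
    have a5 := sq8 p
    omega
  obtain ⟨a, ha⟩ : ∃ a, p + w0 = 2 * a := ⟨(p + w0) / 2, by omega⟩
  obtain ⟨b, hb⟩ : ∃ b, u1 = 2 * b := ⟨u1 / 2, by omega⟩
  obtain ⟨b2, hb2⟩ : ∃ b, w2 = 2 * b := ⟨w2 / 2, by omega⟩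
  obtain ⟨b3, hb3⟩ : ∃ b, w3 = 2 * b := ⟨w3 / 2, by omega⟩
  obtain ⟨b4, hb4⟩ : ∃ b, w4 = 2 * b := ⟨w4 / 2, by omega⟩
  have two : ∀ n : ℤ, p ∣ 2 * n → p ∣ n := fun n h => (hp.dvd_or_dvd h).resolve_left fun h2 => by
    have := Int.le_of_dvd (by norm_num) h2
    omega
  obtain ⟨r, hr⟩ : ∃ r, w0 = u1 * c + p * r :=
    ⟨u0 * p + u1 * k * (x + p * s) - (u2 * y + u3 * z + u4 * t), by rw [e0]; ring⟩
  refine ⟨a, b, b2, b3, b4, ?_, two _ ⟨-(u1 * k) + u1 * c * s - x - r * x, ?_⟩, two _ ⟨u2 - y - r * y, ?_⟩,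
    two _ ⟨u3 - z - r * z, ?_⟩, two _ ⟨u4 - t - r * t, ?_⟩, ?_⟩
  · rintro ⟨a', ha'⟩
    have h0 : w0 = p * (2 * a' - 1) := by linear_combination ha + 2 * ha'
    have h1 : 1 ≤ (2 * a' - 1) ^ 2 := by
      have : 2 * a' - 1 ≠ 0 := by omega
      have : 0 < (2 * a' - 1) ^ 2 := by positivity
      omega
    have h2 : p ^ 2 ≤ w0 ^ 2 := by
      rw [h0, mul_pow]; exact le_mul_of_one_le_right (sq_nonneg p) h1
    have n1 := sq_nonneg u1
    have n2 := sq_nonneg w2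
    have n3 := sq_nonneg w3
    have n4 := sq_nonneg w4
    have z1 : u1 = 0 := pow_eq_zero_iff (n := 2) (by norm_num) |>.1 (by linarith)
    have z2 : w2 = 0 := pow_eq_zero_iff (n := 2) (by norm_num) |>.1 (by linarith)
    have z3 : w3 = 0 := pow_eq_zero_iff (n := 2) (by norm_num) |>.1 (by linarith)
    have z4 : w4 = 0 := pow_eq_zero_iff (n := 2) (by norm_num) |>.1 (by linarith)
    have p0 : p ≠ 0 := by omega
    have y2 : u2 = 0 := by simpa [z1, z2, p0] using e2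
    have y3 : u3 = 0 := by simpa [z1, z3, p0] using e3
    have y4 : u4 = 0 := by simpa [z1, z4, p0] using e4
    rw [z1, y2, y3, y4] at e0
    have h3 : p * (2 * a' - 1) = p * (u0 * p) := by linear_combination e0 - h0
    have h4 := mul_left_cancel₀ p0 h3
    have h5 : p ^ 2 * (u0 * p) ^ 2 = p ^ 2 * 1 := by
      rw [z1, z2, z3, z4, h0, h4] at hn
      linear_combination hn
    have h6 := mul_left_cancel₀ (pow_ne_zero 2 p0) h5
    have := Int.le_of_dvd one_pos (⟨u0 * u0 * p, by linear_combination -h6⟩ : p ∣ 1)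
    omega
  · linear_combination -hb + x * ha - x * hr - u1 * hc
  · linear_combination -hb2 + y * ha - y * hr + e2
  · linear_combination -hb3 + z * ha - z * hr + e3
  · linear_combination -hb4 + t * ha - t * hr + e4
  · have : w0 = 2 * a - p := by omega
    rw [this, hb, hb2, hb3, hb4] at hn
    linarith

theorem nei (uni : UniStmt) : NeiStmt := by
  intro p hp h2 x y z t hx ⟨m, hm⟩
  have hP : Prime (p : ℤ) := Nat.prime_iff_prime_int.1 hp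
  have p1 : (1 : ℤ) < p := by exact_mod_cast hp.one_lt
  have po : (p : ℤ) % 2 = 1 := by have := hp.eq_two_or_odd; omega
  generalize (p : ℤ) = q at *
  have q0 : q ≠ 0 := by omega
  obtain ⟨α, β, hab⟩ : IsCoprime q (2 * x) := (hP.coprime_iff_not_dvd).2 fun h =>
    (hP.dvd_or_dvd h).elim (fun h2 => by have := Int.le_of_dvd (by norm_num) h2; omega) hx
  obtain ⟨s, hs⟩ : ∃ s, s = -m * β := ⟨_, rfl⟩
  obtain ⟨c, hc0⟩ : ∃ c, c = 2 * β := ⟨_, rfl⟩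
  obtain ⟨k, hc⟩ : ∃ k, c * (x + q * s) = 1 + q * k := ⟨c * s - α, by rw [hc0]; linear_combination hab⟩
  obtain ⟨N, hN⟩ : ∃ N, 1 + (x + q * s) ^ 2 + y ^ 2 + z ^ 2 + t ^ 2 = q ^ 2 * N :=
    ⟨m * α + s ^ 2, by rw [hs]; linear_combination hm - q * m * hab⟩
  obtain ⟨X, hX⟩ : ∃ X, X = x + q * s := ⟨_, rfl⟩
  rw [← hX] at hN
  have hc' := hc
  rw [← hX] at hc'
  let B : Matrix (Fin 5) (Fin 5) ℤ := !![q ^ 2, 0, 0, 0, 0; c + q * k * X, 1, c * y, c * z, c * t;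
    -(q * y), 0, q, 0, 0; -(q * z), 0, 0, q, 0; -(q * t), 0, 0, 0, q]
  let A : Matrix (Fin 5) (Fin 5) ℤ := !![q ^ 2, c + q * k * X, -(q * y), -(q * z), -(q * t);
    c + q * k * X, c ^ 2 * N + k ^ 2 * (1 + X ^ 2), -(k * X * y), -(k * X * z), -(k * X * t);
    -(q * y), -(k * X * y), 1 + y ^ 2, y * z, y * t; -(q * z), -(k * X * z), y * z, 1 + z ^ 2, z * t;
    -(q * t), -(k * X * t), y * t, z * t, 1 + t ^ 2]
  have hBB : B * Bᵀ = q ^ 2 • A := by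
    ext i j
    fin_cases i <;> fin_cases j <;> simp [A, B, Matrix.mul_apply, Fin.sum_univ_succ] <;>
      first | ring1 | linear_combination c ^ 2 * hN - (c * X + 1 - q * k) * hc'
  have dB : B.det = q ^ 5 := by
    simp [B, det_succ_row_zero, Fin.sum_univ_succ, Fin.succAbove]
    ring
  have dB0 : Bᵀ.det ≠ 0 := by rw [det_transpose, dB]; positivity
  have dA : A.det = 1 := by
    have := congrArg det hBB
    rw [det_mul, det_transpose, dB, det_smul, Fintype.card_fin] at this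
    exact mul_left_cancel₀ (pow_ne_zero 5 (pow_ne_zero 2 q0)) (by linear_combination -this)
  obtain ⟨U, hU⟩ := uni 5 le_rfl A (by
    ext i j
    fin_cases i <;> fin_cases j <;> rfl) (fun v hv => by
    have h1 : v ⬝ᵥ (B * Bᵀ) *ᵥ v = (Bᵀ *ᵥ v) ⬝ᵥ (Bᵀ *ᵥ v) := by
      rw [← mulVec_mulVec, dotProduct_mulVec, mulVec_transpose]
    have h3 : Bᵀ *ᵥ v ≠ 0 := fun e => hv (eq_zero_of_mulVec_eq_zero dB0 e)
    have h4 : 0 < (Bᵀ *ᵥ v) ⬝ᵥ (Bᵀ *ᵥ v) :=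
      lt_of_le_of_ne (Finset.sum_nonneg fun i _ => mul_self_nonneg _) (dotProduct_self_eq_zero.not.2 h3 ∘ Eq.symm)
    rw [← h1, hBB, smul_mulVec, dotProduct_smul, smul_eq_mul] at h4
    exact (pos_iff_pos_of_mul_pos h4).1 (by positivity)) dA
  obtain ⟨W, hW⟩ : ∃ W, W = Uᵀ * B := ⟨_, rfl⟩
  have hWW : W * Wᵀ = q ^ 2 • (1 : Matrix (Fin 5) (Fin 5) ℤ) := by
    rw [← hU, hW, transpose_mul, transpose_transpose, Matrix.mul_assoc, ← Matrix.mul_assoc B, hBB]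
    simp only [Matrix.smul_mul, Matrix.mul_smul, Matrix.mul_assoc]
  have dW : W.det ≠ 0 := fun e => by
    have := congrArg det hWW
    rw [det_mul, e, zero_mul, det_smul, det_one, mul_one] at this
    exact pow_ne_zero _ (pow_ne_zero 2 q0) this.symm
  have hW2 : Wᵀ * W = q ^ 2 • (1 : Matrix (Fin 5) (Fin 5) ℤ) :=
    (isRegular_of_isLeftRegular_det (A := W) (IsRegular.of_ne_zero dW).left).left (by
      simp only [← Matrix.mul_assoc, hWW, Matrix.smul_mul, Matrix.mul_smul, Matrix.one_mul, Matrix.mul_one])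
  obtain ⟨j, hj⟩ : ∃ j, W j 0 % 2 = 1 := by
    by_contra hh
    have h1 := congrFun (congrFun hW2 0) 0
    simp [Matrix.mul_apply, Fin.sum_univ_five, ← sq] at h1
    have a := fun j => (sq8 (W j 0)).resolve_left fun h => hh ⟨j, h.1⟩
    have a0 := a 0
    have a1 := a 1
    have a2 := a 2
    have a3 := a 3
    have a4 := a 4
    have a5 := sq8 q
    omega
  have hn := congrFun (congrFun hWW j) j
  simp [Matrix.mul_apply, Fin.sum_univ_five, ← sq] at hn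
  have e1 : W j 1 = U 1 j := by rw [hW]; simp [B, Matrix.mul_apply, Fin.sum_univ_five]
  rw [e1] at hn
  refine fin q hP p1 po x y z t c k s (U 0 j) (U 1 j) (U 2 j) (U 3 j) (U 4 j) (W j 0) (W j 2) (W j 3) (W j 4)
    hc ?_ ?_ ?_ ?_ hn hj <;> rw [hW] <;> simp [B, Matrix.mul_apply, Fin.sum_univ_five, hX] <;> ring

end Cfsg.Agent.H26.K5Nei
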