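import Mathlib
import Cfsg.Agent.H31.HermCount

/-!
# Divisors of the order of `GU₁₁(q)` congruent to a constant modulo the Singer cycle
-/

set_option autoImplicit false

namespace Cfsg.Agent.H26.N11

open Cfsg.Agent.H31

/-- the eleventh cyclotomic polynomial -/
def Ph (x : ℤ) : ℤ :=
  x ^ 10 + x ^ 9 + x ^ 8 + x ^ 7 + x ^ 6 + x ^ 5 + x ^ 4 + x ^ 3 + x ^ 2 + x + 1

/-- `R` is a multiple of `g` modulo `D` -/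
def Red (D g R : ℤ) : Prop := ∃ b : ℤ, D ∣ R - b * g

theorem Red.rot {D g R Z : ℤ} (h : Red D g R) (e : ℕ) (hZ : D ∣ g ^ e * Z) : D ∣ Z * R ^ e := by
  obtain ⟨b, hb⟩ := h
  have h1 : D ∣ R ^ e - (b * g) ^ e := hb.trans (sub_dvd_pow_sub_pow _ _ e)
  have h2 : Z * R ^ e = (R ^ e - (b * g) ^ e) * Z + b ^ e * (g ^ e * Z) := by ring
  rw [h2]
  exact dvd_add (h1.mul_right _) (hZ.mul_left _)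

def n3 (m s : ℤ) : ℤ := s ^ 2 - m * s + m ^ 2

theorem red3 {D x m s : ℤ} (h : D ∣ m * Ph x - s) : Red D (x ^ 2 + x + 1) (n3 m s) :=
  ⟨m ^ 2 + x ^ 2 * m * s + x ^ 3 * m ^ 2 + x ^ 5 * m * s + x ^ 6 * m ^ 2 + x ^ 8 * m * s + x ^ 9 * m ^ 2,
   (h.mul_left (-s - x * m)).trans
    (dvd_of_eq (by rw [n3, Ph]; ring))⟩

def n4 (m s : ℤ) : ℤ := s ^ 2 + m ^ 2

theorem red4 {D x m s : ℤ} (h : D ∣ m * Ph x - s) : Red D (x ^ 2 + 1) (n4 m s) :=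
  ⟨m * s + m ^ 2 + x * m ^ 2 + x ^ 3 * m * s + x ^ 4 * m * s + x ^ 4 * m ^ 2 + x ^ 5 * m ^ 2 + x ^ 7 * m * s + x ^ 8 * m * s + x ^ 8 * m ^ 2 + x ^ 9 * m ^ 2,
   (h.mul_left (-s - x * m)).trans
    (dvd_of_eq (by rw [n4, Ph]; ring))⟩

def n6 (m s : ℤ) : ℤ := s ^ 2 + m * s + m ^ 2

theorem red6 {D x m s : ℤ} (h : D ∣ m * Ph x - s) : Red D (x ^ 2 - x + 1) (n6 m s) :=
  ⟨2 * m * s + m ^ 2 + 2 * x * m * s + 2 * x * m ^ 2 + x ^ 2 * m * s + 2 * x ^ 2 * m ^ 2 + x ^ 3 * m ^ 2 + x ^ 5 * m * s + 2 * x ^ 6 * m * s + x ^ 6 * m ^ 2 + 2 * x ^ 7 * m * s + 2 * x ^ 7 * m ^ 2 + x ^ 8 * m * s + 2 * x ^ 8 * m ^ 2 + x ^ 9 * m ^ 2,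
   (h.mul_left (-s - x * m)).trans
    (dvd_of_eq (by rw [n6, Ph]; ring))⟩

def n7 (m s : ℤ) : ℤ := s ^ 6 - 3 * m * s ^ 5 + 9 * m ^ 2 * s ^ 4 - 13 * m ^ 3 * s ^ 3 + 11 * m ^ 4 * s ^ 2 - 5 * m ^ 5 * s + m ^ 6

theorem red7 {D x m s : ℤ} (h : D ∣ m * Ph x - s) : Red D (x ^ 6 + x ^ 5 + x ^ 4 + x ^ 3 + x ^ 2 + x + 1) (n7 m s) :=
  ⟨m ^ 2 * s ^ 4 + 2 * x * m ^ 3 * s ^ 3 - 4 * x * m ^ 4 * s ^ 2 + 3 * x * m ^ 5 * s - x * m ^ 6 + x ^ 2 * m ^ 3 * s ^ 3 - x ^ 2 * m ^ 4 * s ^ 2 + x ^ 4 * m * s ^ 5 - 2 * x ^ 4 * m ^ 2 * s ^ 4 + 6 * x ^ 4 * m ^ 3 * s ^ 3 - 7 * x ^ 4 * m ^ 4 * s ^ 2 + 4 * x ^ 4 * m ^ 5 * s - x ^ 4 * m ^ 6 + x ^ 5 * m ^ 2 * s ^ 4 - 2 * x ^ 5 * m ^ 3 * s ^ 3 + 2 * x ^ 5 * m ^ 4 * s ^ 2 - x ^ 5 * m ^ 5 * s + x ^ 6 * m ^ 2 * s ^ 4 - x ^ 6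 * m ^ 3 * s ^ 3 + x ^ 7 * m ^ 2 * s ^ 4 + 2 * x ^ 8 * m ^ 3 * s ^ 3 - 4 * x ^ 8 * m ^ 4 * s ^ 2 + 3 * x ^ 8 * m ^ 5 * s - x ^ 8 * m ^ 6 + x ^ 9 * m ^ 3 * s ^ 3 - x ^ 9 * m ^ 4 * s ^ 2,
   (h.mul_left (-s ^ 5 + 2 * m * s ^ 4 - 6 * m ^ 2 * s ^ 3 + 7 * m ^ 3 * s ^ 2 - 4 * m ^ 4 * s + m ^ 5 - x * m * s ^ 4 + 2 * x * m ^ 2 * s ^ 3 - 2 * x * m ^ 3 * s ^ 2 + x * m ^ 4 * s - x ^ 2 * m * s ^ 4 + x ^ 2 * m ^ 2 * s ^ 3 - x ^ 3 * m * s ^ 4 - 2 * x ^ 4 * m ^ 2 * s ^ 3 + 4 * x ^ 4 * m ^ 3 * s ^ 2 - 3 * x ^ 4 * m ^ 4 * s + x ^ 4 * m ^ 5 - x ^ 5 * m ^ 2 * s ^ 3 + x ^ 5 * m ^ 3 * s ^ 2)).trans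
    (dvd_of_eq (by rw [n7, Ph]; ring))⟩

def n8 (m s : ℤ) : ℤ := s ^ 4 - 4 * m * s ^ 3 + 8 * m ^ 2 * s ^ 2 - 4 * m ^ 3 * s + m ^ 4

theorem red8 {D x m s : ℤ} (h : D ∣ m * Ph x - s) : Red D (x ^ 4 + 1) (n8 m s) :=
  ⟨m ^ 2 * s ^ 2 + m ^ 3 * s + 2 * x * m ^ 3 * s - x * m ^ 4 + x ^ 3 * m * s ^ 3 - 3 * x ^ 3 * m ^ 2 * s ^ 2 + 4 * x ^ 3 * m ^ 3 * s - x ^ 3 * m ^ 4 + x ^ 4 * m * s ^ 3 - 2 * x ^ 4 * m ^ 2 * s ^ 2 + 2 * x ^ 4 * m ^ 3 * s - x ^ 4 * m ^ 4 + x ^ 5 * m * s ^ 3 - x ^ 5 * m ^ 2 * s ^ 2 + x ^ 5 * m ^ 3 * s + x ^ 6 * m * s ^ 3 - x ^ 6 * m ^ 2 * s ^ 2 + 3 * x ^ 6 * m ^ 3 * s - x ^ 6 * m ^ 4 + 2 * x ^ 7 * m ^ 2 * s ^ 2 - x ^ 7 * m ^ 3 * s + x ^ 8 * m ^ 2 * s ^ 2 + x ^ 8 * m ^ 3 * s + 2 * x ^ 9 * m ^ 3 * s - x ^ 9 * m ^ 4,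
   (h.mul_left (-s ^ 3 + 3 * m * s ^ 2 - 4 * m ^ 2 * s + m ^ 3 - x * m * s ^ 2 + 2 * x * m ^ 2 * s - x ^ 2 * m * s ^ 2 + x ^ 2 * m ^ 2 * s - x ^ 2 * m ^ 3 - 2 * x ^ 3 * m ^ 2 * s + x ^ 3 * m ^ 3)).trans
    (dvd_of_eq (by rw [n8, Ph]; ring))⟩

def n9 (m s : ℤ) : ℤ := s ^ 6 - 6 * m * s ^ 5 + 15 * m ^ 2 * s ^ 4 - 19 * m ^ 3 * s ^ 3 + 12 * m ^ 4 * s ^ 2 - 3 * m ^ 5 * s + m ^ 6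

theorem red9 {D x m s : ℤ} (h : D ∣ m * Ph x - s) : Red D (x ^ 6 + x ^ 3 + 1) (n9 m s) :=
  ⟨m ^ 6 + x ^ 2 * m * s ^ 5 - 5 * x ^ 2 * m ^ 2 * s ^ 4 + 10 * x ^ 2 * m ^ 3 * s ^ 3 - 9 * x ^ 2 * m ^ 4 * s ^ 2 + 3 * x ^ 2 * m ^ 5 * s + x ^ 3 * m * s ^ 5 - 4 * x ^ 3 * m ^ 2 * s ^ 4 + 6 * x ^ 3 * m ^ 3 * s ^ 3 - 3 * x ^ 3 * m ^ 4 * s ^ 2 + x ^ 4 * m * s ^ 5 - 4 * x ^ 4 * m ^ 2 * s ^ 4 + 7 * x ^ 4 * m ^ 3 * s ^ 3 - 6 * x ^ 4 * m ^ 4 * s ^ 2 + 3 * x ^ 4 * m ^ 5 * s + x ^ 5 * m ^ 2 * s ^ 4 - 3 * x ^ 5 * m ^ 3 * s ^ 3 + 4 * x ^ 5 * m ^ 4 * s ^ 2 - 2 * x ^ 5 * m ^ 5 * s + x ^ 5 * m ^ 6 + x ^ 6 * m ^ 3 * s ^ 3 - 2 * x ^ 6 * m ^ 4 * s ^ 2 + 2 * x ^ 6 * m ^ 5 * s + x ^ 7 * m ^ 4 * s ^ 2 - x ^ 7 * m ^ 5 * s + x ^ 7 * m ^ 6 + x ^ 8 * m ^ 5 * s + x ^ 9 * m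 ^ 6,
   (h.mul_left (-s ^ 5 + 5 * m * s ^ 4 - 10 * m ^ 2 * s ^ 3 + 9 * m ^ 3 * s ^ 2 - 3 * m ^ 4 * s - x * m * s ^ 4 + 4 * x * m ^ 2 * s ^ 3 - 6 * x * m ^ 3 * s ^ 2 + 3 * x * m ^ 4 * s - x ^ 2 * m ^ 2 * s ^ 3 + 3 * x ^ 2 * m ^ 3 * s ^ 2 - 3 * x ^ 2 * m ^ 4 * s - x ^ 3 * m ^ 3 * s ^ 2 + 2 * x ^ 3 * m ^ 4 * s - x ^ 3 * m ^ 5 - x ^ 4 * m ^ 4 * s + x ^ 4 * m ^ 5 - x ^ 5 * m ^ 5)).trans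
    (dvd_of_eq (by rw [n9, Ph]; ring))⟩

/-- the remaining cyclotomic factors -/
def rest (x : ℤ) : ℤ :=
  (x ^ 9 + x ^ 8 + x ^ 7 + x ^ 6 + x ^ 5 + x ^ 4 + x ^ 3 + x ^ 2 + x + 1) ^ 1 *
  (((x + 1) * (x ^ 4 + x ^ 3 + x ^ 2 + x + 1)) ^ 1 * ((x + 1) ^ 3 * ((x ^ 2 + x + 1) ^ 3 *
  ((x ^ 2 + 1) ^ 2 * ((x ^ 2 - x + 1) ^ 1 * ((x ^ 6 + x ^ 5 + x ^ 4 + x ^ 3 + x ^ 2 + x + 1) ^ 1 *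
  ((x ^ 4 + 1) ^ 1 * ((x ^ 6 + x ^ 3 + 1) ^ 1 * 1))))))))

/-- the constant -/
def cst (m s : ℤ) : ℤ :=
  (m - s) ^ 5 * n3 m s ^ 3 * n4 m s ^ 2 * n6 m s * n7 m s * n8 m s * n9 m s

theorem rest_red {D x m s Z : ℤ} (h : D ∣ m * Ph x - s) (hZ : D ∣ rest x * Z) :
    D ∣ cst m s * Z := by
  have r1 : Red D (x ^ 9 + x ^ 8 + x ^ 7 + x ^ 6 + x ^ 5 + x ^ 4 + x ^ 3 + x ^ 2 + x + 1) (m - s) :=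
    ⟨-(m * x), h.trans (dvd_of_eq (by rw [Ph]; ring))⟩
  have r2 : Red D ((x + 1) * (x ^ 4 + x ^ 3 + x ^ 2 + x + 1)) (m - s) :=
    ⟨-(m * x * (x ^ 4 - x ^ 3 + x ^ 2 - x + 1)), h.trans (dvd_of_eq (by rw [Ph]; ring))⟩
  have r3 : Red D (x + 1) (m - s) :=
    ⟨-(m * x * (x ^ 8 + x ^ 6 + x ^ 4 + x ^ 2 + 1)), h.trans (dvd_of_eq (by rw [Ph]; ring))⟩
  rw [rest, mul_assoc] at hZ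
  have h1 := r1.rot 1 hZ
  rw [mul_assoc, mul_assoc] at h1
  have h2 := r2.rot 1 h1
  rw [mul_assoc, mul_assoc] at h2
  have h3 := r3.rot 3 h2
  rw [mul_assoc, mul_assoc] at h3
  have h4 := (red3 h).rot 3 h3
  rw [mul_assoc, mul_assoc] at h4
  have h5 := (red4 h).rot 2 h4
  rw [mul_assoc, mul_assoc] at h5
  have h6 := (red6 h).rot 1 h5
  rw [mul_assoc, mul_assoc] at h6
  have h7 := (red7 h).rot 1 h6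
  rw [mul_assoc, mul_assoc] at h7
  have h8 := (red8 h).rot 1 h7
  rw [mul_assoc, mul_assoc] at h8
  have h9 := (red9 h).rot 1 h8
  refine h9.trans (dvd_of_eq ?_)
  rw [cst]
  generalize n3 m s = a3; generalize n4 m s = a4; generalize n6 m s = a6
  generalize n7 m s = a7; generalize n8 m s = a8; generalize n9 m s = a9
  generalize m - s = r
  ring

theorem qpart {q : ℕ} (hq : IsPrimePow q) {D r y Z : ℤ} (hr : r ≠ 0) (hrq : |r| < q)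
    (h : D ∣ r + q * y) (e : ℕ) (hZ : D ∣ (q : ℤ) ^ e * Z) : D ∣ r * Z := by
  obtain ⟨p, f, hp, -, rfl⟩ := (isPrimePow_nat_iff _).1 hq
  have hp' : Prime (p : ℤ) := Nat.prime_iff_prime_int.1 hp
  have h1 := dvd_gcd_mul_of_dvd_mul hZ
  refine h1.trans (mul_dvd_mul_right ?_ _)
  have h2 : gcd D (((p ^ f : ℕ) : ℤ) ^ e) ∣ (p : ℤ) ^ (f * e) := by
    have := gcd_dvd_right D (((p ^ f : ℕ) : ℤ) ^ e)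
    rwa [show ((p ^ f : ℕ) : ℤ) ^ e = (p : ℤ) ^ (f * e) by push_cast; ring] at this ⊢
  have h3 := (gcd_dvd_left D (((p ^ f : ℕ) : ℤ) ^ e)).trans h
  obtain ⟨j, -, hj⟩ := (dvd_prime_pow hp' _).1 h2
  rcases le_total j f with hjf | hjf
  · have h4 : gcd D (((p ^ f : ℕ) : ℤ) ^ e) ∣ ((p ^ f : ℕ) : ℤ) * y := by
      refine Dvd.dvd.mul_right (hj.dvd.trans ?_) _
      push_cast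
      exact pow_dvd_pow _ hjf
    exact (dvd_add_left h4).1 h3
  · exfalso
    have h4 : ((p ^ f : ℕ) : ℤ) ∣ gcd D (((p ^ f : ℕ) : ℤ) ^ e) := by
      refine Dvd.dvd.trans ?_ hj.symm.dvd
      push_cast
      exact pow_dvd_pow _ hjf
    have h5 : ((p ^ f : ℕ) : ℤ) ∣ r := (dvd_add_left (dvd_mul_right _ _)).1 (h4.trans h3)
    have h6 := Int.le_of_dvd (abs_pos.2 hr) ((dvd_abs _ _).2 h5)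
    omega

theorem ord_eq {q : ℕ} (hq : 1 ≤ q) : (ordGU q 11 : ℤ) =
    (q : ℤ) ^ 55 * (-((q : ℤ) + 1) ^ 11 * (Ph (-q) * rest (-q))) := by
  have h : ∀ i, 1 ≤ q ^ i := fun i => Nat.one_le_pow _ _ hq
  simp only [ordGU, Finset.prod_range_succ, Finset.prod_range_zero]
  norm_num [Nat.cast_sub (h _), Nat.even_add_one]
  rw [Ph, rest]
  ring

theorem ph_eq {q : ℕ} {R t : ℤ} (h : (q : ℤ) ^ 11 + 1 = R * (q + 1) * t) : Ph (-q) = R * t := by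
  have h0 : (q : ℤ) + 1 ≠ 0 := by positivity
  apply mul_left_cancel₀ h0
  rw [← mul_assoc, mul_comm _ R, ← h, Ph]
  ring

end Cfsg.Agent.H26.N11
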