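import Cfsg.Agent.H26.NdTool
import Cfsg.Agent.H24.ThreeDeg
import Cfsg.Agent.H1.Nilp

/-! Groups without divisibility among degrees and with a Frobenius quotient: first facts. -/

set_option autoImplicit false

namespace Cfsg.Agent.H26.ND

open Cfsg Subgroup H24 H11
open scoped commutatorElement Pointwise

variable {G : Type*} [Group G]

/-- The standing hypotheses. -/
structure Hyp (N K : Subgroup G) (p l : ℕ) (g : G) : Prop where
  nK : K.Normal
  hp : p.Prime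
  hl : l.Prime
  nd : ∀ a ∈ charDegrees G, ∀ b ∈ charDegrees G, a ≠ 1 → a ∣ b → a = b
  dv : ∀ d ∈ charDegrees N, d ≠ 1 → p ∣ d
  cop : ∀ d ∈ charDegrees G, p ∣ d → d.Coprime N.index
  gl : g ^ l ∈ N
  ld : l ∣ N.index
  cK : ⁅N, N⁆ ≤ K
  nle : ¬ N ≤ K
  pw : ∀ n ∈ N, n ^ p ∈ K
  fpf : ∀ n ∈ N, ⁅g, n⁆ ∈ K → n ∈ K
  pN : ¬ p ∣ N.index
  cG : commutator G ≤ N

/-- The elements of `N` central modulo `N'`. -/
def V0 (N : Subgroup G) [N.Normal] : Subgroup G :=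
  N ⊓ (center (G ⧸ ⁅N, N⁆)).comap (QuotientGroup.mk' _)

instance V0_normal (N : Subgroup G) [N.Normal] : (V0 N).Normal := by unfold V0; infer_instance

theorem mem_V0 {N : Subgroup G} [N.Normal] {x : G} :
    x ∈ V0 N ↔ x ∈ N ∧ ∀ h : G, ⁅h, x⁆ ∈ ⁅N, N⁆ := by
  rw [V0, mem_inf, mem_comap, mem_center_iff]
  refine and_congr_right fun _ => ⟨fun H h => ?_, fun H h => ?_⟩
  · rw [← QuotientGroup.eq_one_iff, ← QuotientGroup.mk'_apply, map_commutatorElement,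
      commutatorElement_eq_one_iff_mul_comm]
    exact H _
  · obtain ⟨h, rfl⟩ := QuotientGroup.mk'_surjective _ h
    rw [← commutatorElement_eq_one_iff_mul_comm, ← map_commutatorElement, QuotientGroup.mk'_apply,
      QuotientGroup.eq_one_iff]
    exact H h

theorem cc_le (N : Subgroup G) [N.Normal] : ⁅N, N⁆ ≤ N := commutator_le_left N N

theorem cc_le_V0 (N : Subgroup G) [N.Normal] : ⁅N, N⁆ ≤ V0 N := fun _ hx =>
  mem_V0.2 ⟨cc_le N hx, fun h => cm_mem _ h hx⟩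

theorem V0_le (N : Subgroup G) [N.Normal] : V0 N ≤ N := fun _ hx => (mem_V0.1 hx).1

theorem relIndex_eq_index [Finite G] {T N : Subgroup G} [N.Normal] (h : T ⊔ N = ⊤) :
    T.relIndex N = T.index := by
  have h1 := relIndex_mul_index (inf_le_left : T ⊓ N ≤ T)
  have h2 := relIndex_mul_index (inf_le_right : T ⊓ N ≤ N)
  rw [inf_relIndex_left, ← relIndex_sup_right, h, relIndex_top_right] at h1
  rw [inf_relIndex_right, ← h1, mul_comm] at h2
  exact Nat.eq_of_mul_eq_mul_left (Nat.pos_of_ne_zero index_ne_zero_of_finite) h2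

theorem relIndex_dvd_index [Finite G] (T N : Subgroup G) [N.Normal] :
    T.relIndex N ∣ T.index := by
  have h1 := relIndex_mul_relIndex (T ⊓ N) T (T ⊔ N) inf_le_left le_sup_left
  have h2 := relIndex_mul_relIndex (T ⊓ N) N (T ⊔ N) inf_le_right le_sup_right
  rw [inf_relIndex_left] at h1
  rw [inf_relIndex_right, relIndex_sup_right, ← h1, mul_comm] at h2
  rw [Nat.eq_of_mul_eq_mul_left (Nat.pos_of_ne_zero index_ne_zero_of_finite) h2]
  exact relIndex_dvd_index_of_le le_sup_left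

theorem sup_eq_top_of_coprime {T N : Subgroup G} (h : T.index.Coprime N.index) : T ⊔ N = ⊤ :=
  index_eq_one.1 (Nat.eq_one_of_dvd_coprimes h (index_dvd_of_le le_sup_left)
    (index_dvd_of_le le_sup_right))

theorem mem_of_pow_coprime {K : Subgroup G} {x : G} {a b : ℕ} (h : a.Coprime b) (ha : x ^ a ∈ K)
    (hb : x ^ b ∈ K) : x ∈ K := by
  have h1 : (a : ℤ) * a.gcdA b + b * a.gcdB b = 1 := by
    rw [← Nat.gcd_eq_gcd_ab, h.gcd_eq_one]; rfl
  rw [← zpow_one x, ← h1, zpow_add, zpow_mul, zpow_mul, zpow_natCast, zpow_natCast]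
  exact mul_mem (zpow_mem ha _) (zpow_mem hb _)

theorem conj_of_irr [Finite G] {N : Subgroup G} {x y : G} (hx : x ∈ N) (hy : y ∈ N)
    (h1 : x⁻¹ * y ∈ ⁅N, N⁆)
    (h2 : ∀ θ, IsIrrCharacter N θ → charDegree θ ≠ 1 → θ ⟨x, hx⟩ = θ ⟨y, hy⟩) :
    ∃ n ∈ N, n * x * n⁻¹ = y := by
  have : IsConj (⟨x, hx⟩ : N) ⟨y, hy⟩ := isConj_iff_forall_irr.2 fun θ hθ => by
    by_cases hd : charDegree θ = 1
    · obtain ⟨μ, rfl⟩ := exists_eq_lin (isCharacter_of_irr hθ) hd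
      have := lin_comm μ h1 (mul_mem (inv_mem hx) hy)
      rw [show (⟨x⁻¹ * y, mul_mem (inv_mem hx) hy⟩ : N) = ⟨x, hx⟩⁻¹ * ⟨y, hy⟩ from rfl, map_mul,
        map_inv, inv_mul_eq_one] at this
      rw [lin_apply, lin_apply, this]
    · exact h2 θ hθ hd
  obtain ⟨n, hn⟩ := isConj_iff.1 this
  exact ⟨n, n.2, congrArg Subtype.val hn⟩

/-- If all nonlinear characters vanish off `V`, cosets of `N'` off `V` are fused. -/
theorem camina [Finite G] {N V : Subgroup G} [N.Normal] (hV : ⁅N, N⁆ ≤ V)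
    (h : ∀ θ, IsIrrCharacter N θ → charDegree θ ≠ 1 → ∀ x : N, (x : G) ∉ V → θ x = 0)
    {x m : G} (hx : x ∈ N) (hx' : x ∉ V) (hm : m ∈ ⁅N, N⁆) : ∃ n ∈ N, n * x * n⁻¹ = x * m :=
  conj_of_irr hx (mul_mem hx (cc_le N hm)) (by rwa [inv_mul_cancel_left]) fun θ hθ hd => by
    rw [h θ hθ hd _ hx', h θ hθ hd _ fun e => hx' ((mul_mem_cancel_right (hV hm)).1 e)]

variable [Finite G] [Group.IsSolvable G] {N K : Subgroup G} [hN : N.Normal] {p l : ℕ} {g : G}

theorem Hyp.cd_sub (H : Hyp N K p l g) {d : ℕ} (hd : d ∈ charDegrees N) : d ∈ charDegrees G := by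
  by_cases h1 : d = 1
  · exact h1 ▸ one_mem_cd
  obtain ⟨e, he, h2⟩ := exists_cd_eq_mul N hd
  have := Nat.eq_one_of_dvd_coprimes (H.cop _ h2 ((H.dv d hd h1).mul_left e)) (Dvd.intro _ rfl) he
  rwa [this, one_mul] at h2

theorem Hyp.inv (H : Hyp N K p l g) {θ : N → ℂ} (hθ : IsIrrCharacter N θ) (h1 : charDegree θ ≠ 1)
    (h : G) (x : N) : θ ⟨h * x * h⁻¹, hN.conj_mem _ x.2 h⟩ = θ x := by
  obtain ⟨d, hd, h2⟩ := index_inertia_dvd_cd N hθ
  rw [← H.nd _ (H.cd_sub (deg_mem_cd hθ)) d hd h1 (Dvd.dvd.trans (Dvd.intro_left _ rfl) h2)] at h2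
  have h3 : (H14.inertia N θ).index = 1 := by
    nth_rewrite 2 [← one_mul (charDegree θ)] at h2
    exact Nat.dvd_one.1 (Nat.dvd_of_mul_dvd_mul_right (deg_pos hθ) h2)
  exact (H14.inertia_eq_top_iff N).1 (index_eq_one.1 h3) h x

omit [Finite G] [Group.IsSolvable G] in
theorem Hyp.V0_le_K (H : Hyp N K p l g) : V0 N ≤ K := fun _ hx =>
  H.fpf _ (mem_V0.1 hx).1 (H.cK ((mem_V0.1 hx).2 g))

theorem Hyp.vanish (H : Hyp N K p l g) {θ : N → ℂ} (hθ : IsIrrCharacter N θ)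
    (h1 : charDegree θ ≠ 1) (x : N) (hx : (x : G) ∉ V0 N) : θ x = 0 := by
  by_contra h0
  refine hx (mem_V0.2 ⟨x.2, fun h => lin_sep (cm_mem N h x.2) fun μ => ?_⟩)
  have h2 := H.inv (isIrr_lin_mul μ hθ) (by rwa [deg_lin_mul]) h x
  rw [Pi.mul_apply, Pi.mul_apply, H.inv hθ h1, mul_left_inj' h0, lin_apply, lin_apply,
    Units.val_inj] at h2
  rw [lin_cm N μ h x.2, Lin.mul_apply, Lin.inv_apply, conjHom_apply, mul_inv_eq_one]
  exact h2

theorem Hyp.fuse (H : Hyp N K p l g) {x m : G} (hx : x ∈ N) (hx' : x ∉ V0 N) (hm : m ∈ ⁅N, N⁆) :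
    ∃ n ∈ N, n * x * n⁻¹ = x * m :=
  camina (cc_le_V0 N) (fun _ hθ hd => H.vanish hθ hd) hx hx' hm

theorem Hyp.fuse0 (H : Hyp N K p l g) {z : G} (hz : z ∈ V0 N) (h : G) :
    ∃ n ∈ N, n * z * n⁻¹ = h * z * h⁻¹ :=
  conj_of_irr (V0_le N hz) (hN.conj_mem _ (V0_le N hz) h) (by
    have := (inferInstance : (⁅N, N⁆).Normal).conj_mem _ ((mem_V0.1 hz).2 h) z⁻¹
    convert this using 1
    simp only [commutatorElement_def]; group) fun θ hθ hd => (H.inv hθ hd h ⟨z, _⟩).symm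

omit [Group.IsSolvable G] in
theorem Hyp.le_ker (H : Hyp N K p l g) {χ : G → ℂ} (hχ : IsIrrCharacter G χ)
    (h : ¬ p ∣ charDegree χ) : ⁅N, N⁆ ≤ charKer χ := by
  have := Fintype.ofFinite N
  rw [← Subgroup.map_subtype_commutator]
  rintro _ ⟨x, hx, rfl⟩
  have h1 : x ∈ charKer (fun n : N => χ n) :=
    (mem_charKer_iff_forall_constituent (isCharacter_restrict (isCharacter_of_irr hχ) N)).2
      fun θ hθ e => (deg_eq_one_iff_commutator_le hθ).1 (by
        by_contra h2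
        exact h ((H.dv _ (deg_mem_cd hθ) h2).trans (deg_dvd_of_over N hχ hθ e))) hx
  rw [mem_charKer_irr_iff hχ]
  exact apply_eq_of_mem_charKer (χ := fun n : N => χ n) h1

omit [Group.IsSolvable G] in
theorem Hyp.dvd_of_over (H : Hyp N K p l g) (A : Subgroup G) [A.Normal] [Fintype A]
    (hA : A ≤ ⁅N, N⁆) {χ : G → ℂ} (hχ : IsIrrCharacter G χ) {μ : Lin A} (hμ : μ ≠ 1)
    (h : classInner (fun a : A => χ a) (lin μ) ≠ 0) : p ∣ charDegree χ := by
  by_contra h1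
  have h2 := charKer_le_of_constituent (isCharacter_restrict (isCharacter_of_irr hχ) A)
    (isIrr_lin μ) h
  refine hμ (Lin.ext fun x => ?_)
  rw [charKer_lin] at h2
  refine h2 ?_
  rw [mem_charKer_iff (isCharacter_restrict (isCharacter_of_irr hχ) A)]
  exact apply_eq_of_mem_charKer (H.le_ker hχ h1 (hA x.2))

omit [Group.IsSolvable G] in
theorem Hyp.cop_inertia (H : Hyp N K p l g) (A : Subgroup G) [A.Normal] (hA : A ≤ ⁅N, N⁆)
    {μ : Lin A} (hμ : μ ≠ 1) : (H14.inertia A (lin μ)).index.Coprime N.index := by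
  have := Fintype.ofFinite A
  have := Fintype.ofFinite G
  obtain ⟨χ, hχ, h⟩ := H14.exists_irr_over A (isIrr_lin μ)
  exact (H.cop _ (deg_mem_cd hχ) (H.dvd_of_over A hA hχ hμ h)).coprime_dvd_left
    ((Dvd.intro _ rfl).trans (index_inertia_mul_deg_dvd A hχ (isIrr_lin μ) h))

omit [Group.IsSolvable G] in
theorem Hyp.exists_fix (H : Hyp N K p l g) (A : Subgroup G) [A.Normal] (hA : A ≤ ⁅N, N⁆)
    {μ : Lin A} (hμ : μ ≠ 1) : ∃ n ∈ N, conjHom A (g * n) μ = μ := by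
  have h1 := sup_eq_top_of_coprime (H.cop_inertia A hA hμ)
  obtain ⟨t, ht, n, hn, e⟩ := (mem_sup_of_normal_right).1 (h1 ▸ mem_top g)
  refine ⟨n⁻¹, inv_mem hn, ?_⟩
  rw [← e, mul_inv_cancel_right]
  exact (mem_inertia_lin A).1 ht

omit [Group.IsSolvable G] in
theorem Hyp.relIndex_inertia (H : Hyp N K p l g) (A : Subgroup G) [A.Normal] (hA : A ≤ ⁅N, N⁆)
    {μ : Lin A} (hμ : μ ≠ 1) :
    (H14.inertia A (lin μ)).relIndex N = (H14.inertia A (lin μ)).index :=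
  relIndex_eq_index (sup_eq_top_of_coprime (H.cop_inertia A hA hμ))

omit [Group.IsSolvable G] in
/-- The normal `p`-complement of `N`. -/
theorem Hyp.exists_L (H : Hyp N K p l g) : ∃ L : Subgroup G, L.Normal ∧ L ≤ N ∧
    (Nat.card L).Coprime p ∧ ∃ k, L.relIndex N = p ^ k := by
  obtain ⟨L, hL, h1, k, h2⟩ := exists_normal_complement_of_cd H.hp H.dv
  have key : ∀ x, x ∈ L.map N.subtype ↔ x ∈ N ∧ (orderOf x).Coprime p := by
    intro x
    constructor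
    · rintro ⟨y, hy, rfl⟩
      refine ⟨y.2, h1.coprime_dvd_left ?_⟩
      have := orderOf_dvd_natCard (⟨y, hy⟩ : L)
      rwa [← Subgroup.orderOf_coe, ← Subgroup.orderOf_coe] at this
    · rintro ⟨h3, h4⟩
      refine ⟨⟨x, h3⟩, mem_of_pow_coprime (h4.pow_right k) ?_ (h2 ▸ L.pow_index_mem _), rfl⟩
      rw [show (⟨x, h3⟩ : N) ^ orderOf x = 1 from Subtype.ext (pow_orderOf_eq_one x)]
      exact one_mem _
  refine ⟨L.map N.subtype, ⟨fun x hx h => ?_⟩, map_subtype_le L, ?_, k, ?_⟩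
  · rw [key] at hx ⊢
    refine ⟨hN.conj_mem _ hx.1 h, ?_⟩
    rw [show h * x * h⁻¹ = MulAut.conj h x from rfl, MulEquiv.orderOf_eq]
    exact hx.2
  · rwa [card_map_of_injective N.subtype_injective]
  · rw [← h2, relIndex, subgroupOf, comap_map_eq_self_of_injective N.subtype_injective]

end Cfsg.Agent.H26.ND
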