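import Cfsg.Agent.H26.NdA

/-! The derived subgroup of `N` is a `p`-group or a `p'`-group. -/

set_option autoImplicit false

namespace Cfsg.Agent.H26.ND

open Cfsg Subgroup H24 H11
open scoped commutatorElement Pointwise

variable {G : Type*} [Group G]

theorem mk_comm_iff (K : Subgroup G) [K.Normal] (x y : G) :
    y ∈ (centralizer {QuotientGroup.mk' K x}).comap (QuotientGroup.mk' K) ↔ ⁅y, x⁆ ∈ K := by
  rw [mem_comap, mem_centralizer_singleton_iff, ← commutatorElement_eq_one_iff_mul_comm,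
    ← map_commutatorElement, QuotientGroup.mk'_apply, QuotientGroup.eq_one_iff]

theorem cm_swap {K : Subgroup G} {x y : G} (h : ⁅x, y⁆ ∈ K) : ⁅y, x⁆ ∈ K := by
  rw [← commutatorElement_inv]; exact inv_mem h

theorem cm_sup_zpowers {K T : Subgroup G} [K.Normal] {c : G} (hT : ⁅T, T⁆ ≤ K)
    (hc : ∀ t ∈ T, ⁅c, t⁆ ∈ K) : ⁅T ⊔ zpowers c, T ⊔ zpowers c⁆ ≤ K := by
  have key : ∀ x, (∀ t ∈ T, ⁅t, x⁆ ∈ K) → ⁅c, x⁆ ∈ K → ∀ y ∈ T ⊔ zpowers c, ⁅y, x⁆ ∈ K :=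
    fun x h1 h2 y hy => (mk_comm_iff K x y).1 ((sup_le (fun t ht => (mk_comm_iff K x t).2 (h1 t ht))
      (zpowers_le_of_mem ((mk_comm_iff K x c).2 h2))) hy)
  refine commutator_le.2 fun y hy x hx => key x (fun t ht => cm_swap (key t
    (fun s hs => hT (commutator_mem_commutator hs ht)) (hc t ht) x hx)) (cm_swap (key c
      (fun t ht => cm_swap (hc t ht)) (by rw [commutatorElement_self]; exact one_mem _) x hx)) y hy

theorem cm_cm {z : G} (hz : ∀ h : G, ⁅h, z⁆ ∈ center G) {c : G} (hc : c ∈ commutator G) :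
    ⁅c, z⁆ = 1 := by
  let φ : G →* center G := MonoidHom.mk' (fun h => ⟨⁅h, z⁆, hz h⟩) fun a b => Subtype.ext (by
    show ⁅a * b, z⁆ = ⁅a, z⁆ * ⁅b, z⁆
    have h1 : ⁅a * b, z⁆ = a * ⁅b, z⁆ * a⁻¹ * ⁅a, z⁆ := by
      simp only [commutatorElement_def]; group
    rw [h1, mem_center_iff.1 (hz b) a, mul_inv_cancel_right, mem_center_iff.1 (hz b)])
  have : commutator G ≤ φ.ker := commutator_le.2 fun a _ b _ => by
    rw [MonoidHom.mem_ker, map_commutatorElement, commutatorElement_eq_one_iff_mul_comm]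
    exact Subtype.ext (mem_center_iff.1 (φ b).2 _)
  exact congrArg Subtype.val (MonoidHom.mem_ker.1 (this hc))

theorem le_of_relIndex_le [Finite G] {T S N : Subgroup G} (h1 : T ≤ S) (h2 : S ≤ N)
    (h : T.relIndex N ≤ S.relIndex N) : S ≤ T := by
  have h3 := relIndex_mul_relIndex T S N h1 h2
  have h4 : 0 < S.relIndex N := Nat.pos_of_ne_zero index_ne_zero_of_finite
  have h5 : 0 < T.relIndex S := Nat.pos_of_ne_zero index_ne_zero_of_finite
  exact relIndex_eq_one.1 (by nlinarith)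

theorem exists_lin_ne [Finite G] [Group.IsSolvable G] {M : Subgroup G} (h : M ≠ ⊥) :
    ∃ μ : Lin M, μ ≠ 1 := by
  obtain ⟨a, ha, h1⟩ := SetLike.exists_of_lt (H1.commutator_self_lt_of_isSolvable h)
  obtain ⟨μ, -, h2⟩ := exists_lin' le_rfl ha h1
  exact ⟨μ, fun e => h2 (by rw [e]; rfl)⟩

theorem eq_one_of_coprime {L : Subgroup G} {p : ℕ} (hL : (Nat.card L).Coprime p) {m : G}
    (hm : m ∈ L) {j : ℕ} (h : m ^ p ^ j = 1) : m = 1 := by
  have h1 := orderOf_dvd_natCard (⟨m, hm⟩ : L)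
  rw [← Subgroup.orderOf_coe] at h1
  exact orderOf_eq_one_iff.1
    (Nat.eq_one_of_dvd_coprimes (hL.pow_right j) h1 (orderOf_dvd_of_pow_eq_one h))

theorem pow_of_mem {P : Subgroup G} {p : ℕ} (hP : IsPGroup p P) {x : G} (hx : x ∈ P) :
    ∃ j, x ^ p ^ j = 1 := (hP ⟨x, hx⟩).imp fun _ h => congrArg Subtype.val h

variable [Finite G] [Group.IsSolvable G] {N K : Subgroup G} [hN : N.Normal] {p l : ℕ} {g : G}
  {L : Subgroup G} [hL : L.Normal]

omit [Finite G] [Group.IsSolvable G] in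
theorem Hyp.P_le (H : Hyp N K p l g) {P : Subgroup G} (hP : IsPGroup p P) : P ≤ N := fun x hx => by
  obtain ⟨j, hj⟩ := pow_of_mem hP hx
  exact mem_of_pow_coprime ((H.hp.coprime_iff_not_dvd.2 H.pN).pow_left j)
    (by rw [hj]; exact one_mem _) (N.pow_index_mem x)

omit [Group.IsSolvable G] in
theorem Hyp.decomp [Fact p.Prime] (H : Hyp N K p l g) (hLN : L ≤ N) {k : ℕ}
    (hk : L.relIndex N = p ^ k) (P : Sylow p G) {n : G} (hn : n ∈ N) :
    ∃ a ∈ L, ∃ u ∈ (P : Subgroup G), a * u = n := by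
  have h1 : (L ⊔ P).relIndex N = 1 := Nat.eq_one_of_dvd_coprimes
    (((H.hp.coprime_iff_not_dvd.2 P.not_dvd_index)).pow_left k)
    (hk ▸ relIndex_dvd_of_le_left N le_sup_left)
    ((relIndex_dvd_of_le_left N le_sup_right).trans
      (relIndex_dvd_index_of_le (H.P_le P.isPGroup')))
  exact mem_sup_of_normal_left.1 (relIndex_eq_one.1 h1 hn)

omit [Finite G] [Group.IsSolvable G] hN hL in
theorem Hyp.L_le (H : Hyp N K p l g) (hLN : L ≤ N) (hc : (Nat.card L).Coprime p) : L ≤ K :=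
  fun x hx => mem_of_pow_coprime hc (by
    rw [show x ^ Nat.card L = 1 from congrArg Subtype.val (pow_card_eq_one' (x := (⟨x, hx⟩ : L)))]
    exact one_mem _) (H.pw x (hLN hx))

omit [Group.IsSolvable G] in
theorem Hyp.exists_y [Fact p.Prime] (H : Hyp N K p l g) (hLN : L ≤ N)
    (hc : (Nat.card L).Coprime p) {k : ℕ} (hk : L.relIndex N = p ^ k) (P : Sylow p G) :
    ∃ y ∈ (P : Subgroup G), y ∉ K := by
  by_contra! h
  refine H.nle fun n hn => ?_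
  obtain ⟨a, ha, u, hu, rfl⟩ := H.decomp hLN hk P hn
  exact mul_mem (H.L_le hLN hc ha) (h u hu)

omit hL in
theorem Hyp.pfpf (H : Hyp N K p l g) (hc : (Nat.card L).Coprime p) {x : G} (hx : x ∈ N)
    (hx' : x ∉ V0 N) {j : ℕ} (hj : x ^ p ^ j = 1) (m : G) (hm : m ∈ ⁅N, N⁆ ⊓ L)
    (h : Commute x m) : m = 1 := by
  obtain ⟨n, -, e⟩ := H.fuse hx hx' hm.1
  refine eq_one_of_coprime hc hm.2 (j := j) ?_
  have := congrArg (· ^ p ^ j) e
  simp only [conj_pow, h.mul_pow, hj, mul_one, mul_inv_cancel, one_mul] at this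
  exact this.symm

theorem Hyp.exists_compl (H : Hyp N K p l g) (hLN : L ≤ N)
    (hc : (Nat.card L).Coprime p) {k : ℕ} (hk : L.relIndex N = p ^ k) :
    ∃ Y : Subgroup G, (∀ x : G, ∃ a ∈ ⁅N, N⁆ ⊓ L, ∃ y ∈ Y, x = a * y) ∧ (⁅N, N⁆ ⊓ L) ⊓ Y = ⊥ := by
  have : Fact p.Prime := ⟨H.hp⟩
  obtain ⟨P⟩ : Nonempty (Sylow p G) := inferInstance
  have hPN := H.P_le P.isPGroup'
  obtain ⟨y, hy, hy'⟩ := H.exists_y hLN hc hk P
  have hM : (⁅N, N⁆ ⊓ L).Normal := inferInstance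
  have h1 : ((⁅N, N⁆ ⊓ L) ⊔ (P : Subgroup G)).Normal := by
    refine ⟨fun x hx h => ?_⟩
    obtain ⟨m, hm, u, hu, rfl⟩ := mem_sup_of_normal_left.1 hx
    obtain ⟨t, ht, n, hn, rfl⟩ := mem_sup_of_normal_right.1
      (P.normalizer_sup_eq_top' hPN ▸ mem_top h)
    obtain ⟨a, ha, v, hv, e⟩ := H.decomp hLN hk P (inv_mem hn)
    have e' : n = v⁻¹ * a⁻¹ := by rw [← mul_inv_rev, e, inv_inv]
    have h2 : t * n * (m * u) * (t * n)⁻¹ = t * n * m * (t * n)⁻¹ *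
        (t * v⁻¹ * ⁅a⁻¹, u⁆ * (t * v⁻¹)⁻¹) * (t * (v⁻¹ * u * v) * t⁻¹) := by
      rw [e']; simp only [commutatorElement_def]; group
    rw [h2]
    refine mul_mem (mem_sup_left (mul_mem (hM.conj_mem _ hm _) (hM.conj_mem _ ⟨?_, ?_⟩ _)))
      (mem_sup_right ((mem_normalizer_iff.1 ht _).1 (mul_mem (mul_mem (inv_mem hv) hu) hv)))
    · exact commutator_mem_commutator (inv_mem (hLN ha)) (hPN hu)
    · exact cm_mem' L u (inv_mem ha)
  refine ⟨normalizer (P : Set G), fun x => ?_, eq_bot_iff.2 fun m hm => ?_⟩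
  · obtain ⟨t, ht, n, hn, e⟩ := mem_sup_of_normal_right.1
      (P.normalizer_sup_eq_top' (N := (⁅N, N⁆ ⊓ L) ⊔ (P : Subgroup G)) le_sup_right ▸ mem_top x⁻¹)
    obtain ⟨m, hm, u, hu, rfl⟩ := mem_sup_of_normal_left.1 hn
    refine ⟨u⁻¹ * m⁻¹ * u⁻¹⁻¹, hM.conj_mem _ (inv_mem hm) _, u⁻¹ * t⁻¹,
      mul_mem (inv_mem (le_normalizer hu)) (inv_mem ht), ?_⟩
    rw [← inv_inv x, ← e]; group
  · obtain ⟨j, hj⟩ := pow_of_mem P.isPGroup' hy
    refine H.pfpf hc (hPN hy) (fun e => hy' (H.V0_le_K e)) hj m hm.1 ?_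
    have h2 : ⁅m, y⁆ ∈ (P : Subgroup G) := mul_mem ((mem_normalizer_iff.1 hm.2 _).1 hy) (inv_mem hy)
    obtain ⟨i, hi⟩ := pow_of_mem P.isPGroup' h2
    exact (commutatorElement_eq_one_iff_commute.1
      (eq_one_of_coprime hc (cm_mem' L y hm.1.2) hi)).symm

theorem Hyp.dvd_index (H : Hyp N K p l g) (hLN : L ≤ N)
    (hc : (Nat.card L).Coprime p) {k : ℕ} (hk : L.relIndex N = p ^ k) {M : Subgroup G} [M.Normal]
    (hM : M ≤ ⁅N, N⁆ ⊓ L) {μ : Lin M} (hμ : μ ≠ 1) : p ∣ (H14.inertia M (lin μ)).index := by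
  have : Fact p.Prime := ⟨H.hp⟩
  obtain ⟨P⟩ : Nonempty (Sylow p G) := inferInstance
  obtain ⟨y, hy, hy'⟩ := H.exists_y hLN hc hk P
  by_contra h
  obtain ⟨t, ht⟩ := H1.exists_conj_le_of_not_dvd_index P.isPGroup' h
  have h1 : t * y * t⁻¹ ∈ _ := ht (smul_mem_pointwise_smul _ (MulAut.conj t) _ hy)
  obtain ⟨j, hj⟩ := pow_of_mem P.isPGroup' hy
  refine hμ (lin_eq_one M (fun a ha => H.pfpf hc (j := j) (hN.conj_mem _ (H.P_le P.isPGroup' hy) t)
    (fun e => hy' ?_) (by rw [conj_pow, hj, mul_one, mul_inv_cancel]) a (hM ha))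
    ((mem_inertia_lin M).1 h1))
  simpa [mul_assoc] using H.nK.conj_mem _ (H.V0_le_K e) t⁻¹

theorem Hyp.inertia_cd (H : Hyp N K p l g) (hLN : L ≤ N)
    (hc : (Nat.card L).Coprime p) {k : ℕ} (hk : L.relIndex N = p ^ k) {M : Subgroup G} [M.Normal]
    (hM : M = ⁅N, N⁆ ⊓ L) {μ : Lin M} (hμ : μ ≠ 1) :
    (H14.inertia M (lin μ)).index ∈ charDegrees G ∧
      ⁅H14.inertia M (lin μ), H14.inertia M (lin μ)⁆ ≤ M := by
  obtain ⟨Y, h1, h2⟩ := H.exists_compl hLN hc hk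
  rw [← hM] at h1 h2
  refine ext_nd H.nd M Y h1 h2 μ fun e => ?_
  have := H.dvd_index hLN hc hk hM.le hμ
  rw [e, index_top] at this
  exact H.hp.one_lt.ne' (Nat.dvd_one.1 this)

theorem Hyp.cc_le_L (H : Hyp N K p l g) (hLN : L ≤ N)
    (hc : (Nat.card L).Coprime p) {k : ℕ} (hk : L.relIndex N = p ^ k) (hne : ⁅N, N⁆ ⊓ L ≠ ⊥) :
    ⁅N, N⁆ ≤ L := by
  have : Fact p.Prime := ⟨H.hp⟩
  obtain ⟨P⟩ : Nonempty (Sylow p G) := inferInstance
  by_contra hn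
  obtain ⟨μ, hμ⟩ := exists_lin_ne hne
  obtain ⟨c1, c2⟩ := H.inertia_cd hLN hc hk rfl hμ
  have c3 := H.relIndex_inertia _ inf_le_left hμ
  have hfix := fun x => mem_inertia_lin (⁅N, N⁆ ⊓ L) (μ := μ) (g := x)
  generalize H14.inertia (⁅N, N⁆ ⊓ L) (lin μ) = T at c1 c2 c3 hfix
  have h1 : ¬ ⁅N, N⁆ ≤ L ⊔ ⁅⁅N, N⁆, N⁆ := by
    intro h
    have a1 : IsPGroup p (N.map (QuotientGroup.mk' L)) := IsPGroup.of_card (n := k) (by
      rw [← relIndex_ker, QuotientGroup.ker_mk', hk])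
    have := a1.isNilpotent
    have a2 := H1.commutator_lt_of_isNilpotent (map_mono (f := QuotientGroup.mk' L) (cc_le N))
      (by rw [normalizer_eq_top_iff.2 (Normal.map inferInstance _ (QuotientGroup.mk'_surjective L))]
          exact le_top) (by rwa [Ne, Subgroup.map_eq_bot_iff, QuotientGroup.ker_mk'])
    have a3 := map_mono (f := QuotientGroup.mk' L) h
    rw [Subgroup.map_sup, QuotientGroup.map_mk'_self, bot_sup_eq, map_commutator ⁅N, N⁆] at a3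
    exact a2.not_ge a3
  obtain ⟨θ, hθ, h2, h3⟩ := exists_irr_le_charKer_deg_ne_one ((L ⊔ ⁅⁅N, N⁆, N⁆).subgroupOf N)
    (fun h => h1 (commutator_le_subgroupOf_iff.1 h))
  have h4 : ∀ S : Subgroup G, ⁅S, S⁆ ≤ L ⊔ ⁅⁅N, N⁆, N⁆ → charDegree θ ≤ S.relIndex N := fun S hS =>
    deg_le_index_of_commutator_le hθ (S.subgroupOf N) (le_trans (commutator_le.2 fun a ha b hb =>
      hS (commutator_mem_commutator ha hb)) h2)
  obtain ⟨a, -, ha⟩ : ∃ a ≤ k, charDegree θ = p ^ a := (Nat.dvd_prime_pow H.hp).1 (hk ▸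
    dvd_card_of_mem_cd (deg_mem_cd_quotient hθ (L.subgroupOf N)
      ((subgroupOf_mono N le_sup_left).trans h2)))
  have hT0 : ⁅T ⊓ N, T ⊓ N⁆ ≤ L := (commutator_mono inf_le_left inf_le_left).trans
    (c2.trans inf_le_right)
  have h5 := h4 (T ⊓ N ⊔ L) ((commutator_sup_le_of_central hT0
    fun z hz x => cm_mem' L x hz).trans le_sup_left)
  have h6 : charDegree θ = (T ⊓ N).relIndex N := by
    obtain ⟨c, -, hc'⟩ := (Nat.dvd_prime_pow H.hp).1
      (hk ▸ relIndex_dvd_of_le_left N (le_sup_right : L ≤ T ⊓ N ⊔ L))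
    rw [inf_relIndex_right, c3]
    refine H.nd _ (H.cd_sub (deg_mem_cd hθ)) _ c1 h3 ?_
    rw [← c3, ← inf_relIndex_right]
    refine Dvd.dvd.trans ?_ (relIndex_dvd_of_le_left N (le_sup_left : _ ≤ T ⊓ N ⊔ L))
    rw [ha, hc'] at h5 ⊢
    exact pow_dvd_pow _ ((Nat.pow_le_pow_iff_right H.hp.one_lt).1 h5)
  have h7 : L ≤ T ⊓ N := le_sup_right.trans
    (le_of_relIndex_le le_sup_left (sup_le inf_le_right hLN) (h6 ▸ h5))
  have h8 : L ≤ V0 N := fun x hx => by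
    by_contra h
    refine hn fun m hm => ?_
    obtain ⟨n, -, e⟩ := H.fuse (hLN hx) h hm
    exact (mul_mem_cancel_left hx).1 (e ▸ hL.conj_mem _ hx n)
  have h9 : T ⊓ N ≤ V0 N := fun x hx => by
    obtain ⟨b, hb, u, hu, rfl⟩ := H.decomp hLN hk P hx.2
    refine mul_mem (h8 hb) (by_contra fun h => hμ ?_)
    obtain ⟨j, hj⟩ := pow_of_mem P.isPGroup' hu
    exact lin_eq_one _ (H.pfpf hc (H.P_le P.isPGroup' hu) h hj)
      ((hfix u).1 ((T.mul_mem_cancel_left (h7 hb).1).1 hx.1))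
  refine H.nle fun n hn => H.fpf n hn (H.V0_le_K (h9 ?_))
  refine le_of_relIndex_le (S := T ⊓ N ⊔ zpowers ⁅g, n⁆) le_sup_left
    (sup_le inf_le_right (zpowers_le_of_mem (cm_mem N g hn))) (h6 ▸ h4 _ (cm_sup_zpowers
      (hT0.trans le_sup_left) fun z hz => ?_)) (mem_sup_right (mem_zpowers _))
  rw [← QuotientGroup.eq_one_iff, ← QuotientGroup.mk'_apply, map_commutatorElement,
    map_commutatorElement]
  refine cm_cm (fun h => mem_center_iff.2 fun h' => ?_) (commutatorElement_mem_commutator' _ _)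
  obtain ⟨h, rfl⟩ := QuotientGroup.mk'_surjective _ h
  obtain ⟨h', rfl⟩ := QuotientGroup.mk'_surjective _ h'
  have b1 := (mem_V0.1 (h9 hz)).2 h
  obtain ⟨n', hn', e⟩ := H.fuse0 (cc_le_V0 N b1) h'
  rw [← commutatorElement_eq_one_iff_mul_comm, ← map_commutatorElement, ← map_commutatorElement,
    QuotientGroup.mk'_apply, QuotientGroup.eq_one_iff, commutatorElement_def h', ← e]
  exact mem_sup_right (cm_swap (commutator_mem_commutator b1 hn'))

end Cfsg.Agent.H26.ND
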