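import Cfsg.Agent.H24.TwoDeg

/-! Tools on linear characters of normal subgroups. -/

set_option autoImplicit false

universe u

namespace Cfsg.Agent.H26.ND

open Cfsg Subgroup H24 H11
open scoped commutatorElement Pointwise

variable {G : Type*} [Group G]

theorem exists_lin {H : Type*} [Group H] [Finite H] (I : Subgroup H) (hI : commutator H ≤ I) {a : H}
    (ha : a ∉ I) : ∃ μ : Lin H, (∀ x ∈ I, μ.hom x = 1) ∧ μ.hom a ≠ 1 := by
  have : I.Normal := Subgroup.Normal.of_commutator_le _ hI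
  obtain ⟨χ, hχ, h1, h2⟩ := exists_irr_le_charKer_not_mem I ha
  obtain ⟨μ, rfl⟩ := exists_eq_lin (isCharacter_of_irr hχ)
    ((deg_eq_one_iff_commutator_le hχ).2 (hI.trans h1))
  rw [charKer_lin] at h1 h2
  exact ⟨μ, h1, h2⟩

theorem lin_comm {A : Subgroup G} (μ : Lin A) {a : G} (ha : a ∈ ⁅A, A⁆) (h : a ∈ A) :
    μ.hom ⟨a, h⟩ = 1 := by
  have h1 : (⟨a, h⟩ : A) ∈ commutator A := by
    rw [← Subgroup.map_subtype_commutator] at ha
    obtain ⟨b, hb, rfl⟩ := ha
    exact hb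
  exact Abelianization.commutator_subset_ker μ.hom h1

theorem exists_lin' [Finite G] {A I : Subgroup G} (hI : ⁅A, A⁆ ≤ I) {a : G} (h : a ∈ A)
    (ha : a ∉ I) : ∃ μ : Lin A, (∀ x : A, (x : G) ∈ I → μ.hom x = 1) ∧ μ.hom ⟨a, h⟩ ≠ 1 :=
  exists_lin (I.subgroupOf A) (commutator_le_subgroupOf_iff.2 hI) ha

theorem lin_sep [Finite G] {A : Subgroup G} {a : G} (h : a ∈ A)
    (ha : ∀ μ : Lin A, μ.hom ⟨a, h⟩ = 1) : a ∈ ⁅A, A⁆ := by
  by_contra hn
  obtain ⟨μ, -, h1⟩ := exists_lin' le_rfl h hn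
  exact h1 (ha μ)

theorem cm_mem (A : Subgroup G) [hA : A.Normal] (x : G) {a : G} (ha : a ∈ A) : ⁅x, a⁆ ∈ A :=
  mul_mem (hA.conj_mem a ha x) (inv_mem ha)

theorem cm_mem' (A : Subgroup G) [hA : A.Normal] (x : G) {a : G} (ha : a ∈ A) : ⁅a, x⁆ ∈ A := by
  rw [← commutatorElement_inv]; exact inv_mem (cm_mem A x ha)

theorem surj_iff [Finite G] (A : Subgroup G) [hA : A.Normal] (x : G) :
    (∀ a ∈ A, Commute x a → a = 1) ↔ ∀ w ∈ A, ∃ a ∈ A, w = ⁅x, a⁆ := by
  let f : A → A := fun a => ⟨⁅x, (a : G)⁆, cm_mem A x a.2⟩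
  have h1 : (∀ a ∈ A, Commute x a → a = 1) ↔ Function.Injective f := by
    constructor
    · intro h a b e
      have e' : ⁅x, (a : G)⁆ = ⁅x, (b : G)⁆ := congrArg Subtype.val e
      have := h ((b : G)⁻¹ * a) (mul_mem (inv_mem b.2) a.2) (by
        generalize (a : G) = a' at e'
        generalize (b : G) = b' at e'
        have h3 : a' * x⁻¹ * a'⁻¹ = b' * x⁻¹ * b'⁻¹ := by
          have : x * (a' * x⁻¹ * a'⁻¹) = x * (b' * x⁻¹ * b'⁻¹) := by
            simpa only [commutatorElement_def, mul_assoc] using e'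
          exact mul_left_cancel this
        show x * (b'⁻¹ * a') = b'⁻¹ * a' * x
        calc x * (b'⁻¹ * a') = x * b'⁻¹ * (a' * x⁻¹ * a'⁻¹) * a' * x := by group
          _ = x * b'⁻¹ * (b' * x⁻¹ * b'⁻¹) * a' * x := by rw [h3]
          _ = _ := by group)
      exact Subtype.ext (inv_mul_eq_one.1 this).symm
    · intro h a ha hc
      have : f ⟨a, ha⟩ = f 1 := Subtype.ext (by
        show ⁅x, a⁆ = ⁅x, (1 : G)⁆
        rw [commutatorElement_one_right, commutatorElement_eq_one_iff_commute]; exact hc)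
      exact congrArg Subtype.val (h this)
  rw [h1, Finite.injective_iff_surjective]
  constructor
  · intro h w hw
    obtain ⟨a, ha⟩ := h ⟨w, hw⟩
    exact ⟨a, a.2, (congrArg Subtype.val ha).symm⟩
  · intro h w
    obtain ⟨a, ha, e⟩ := h w w.2
    exact ⟨⟨a, ha⟩, Subtype.ext e.symm⟩

theorem lin_cm (A : Subgroup G) [hA : A.Normal] (μ : Lin A) (x : G) {a : G} (ha : a ∈ A) :
    μ.hom ⟨⁅x, a⁆, cm_mem A x ha⟩ = (conjHom A x μ * μ⁻¹).hom ⟨a, ha⟩ := by
  rw [Lin.mul_apply, Lin.inv_apply, conjHom_apply, ← map_inv, ← map_mul]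
  rfl

theorem lin_eq_one [Finite G] (A : Subgroup G) [hA : A.Normal] {x : G}
    (h : ∀ a ∈ A, Commute x a → a = 1) {μ : Lin A} (hμ : conjHom A x μ = μ) : μ = 1 := by
  refine Lin.ext fun w => ?_
  obtain ⟨a, ha, e⟩ := (surj_iff A x).1 h w w.2
  have : w = ⟨⁅x, a⁆, cm_mem A x ha⟩ := Subtype.ext e
  rw [this, lin_cm A μ x ha, hμ, mul_inv_cancel]
  rfl

/-- no fixed linear character means no fixed point on the abelianization -/
theorem fpf_of_lin [Finite G] (A : Subgroup G) [hA : A.Normal] {x : G}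
    (h : ∀ μ : Lin A, conjHom A x μ = μ → μ = 1) {a : G} (ha : a ∈ A) (hc : ⁅x, a⁆ ∈ ⁅A, A⁆) :
    a ∈ ⁅A, A⁆ := by
  let δ : Lin A →* Lin A := conjHom A x / MonoidHom.id _
  have h1 : Function.Injective δ := (injective_iff_map_eq_one δ).2 fun μ e => h μ (div_eq_one.1 e)
  refine lin_sep ha fun ν => ?_
  obtain ⟨μ, rfl⟩ := Finite.injective_iff_surjective.1 h1 ν
  have : δ μ = conjHom A x μ * μ⁻¹ := div_eq_mul_inv _ _
  rw [this, ← lin_cm A μ x ha]
  exact lin_comm μ hc _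

theorem conjHom_eq_one_iff (A : Subgroup G) [A.Normal] (x : G) {μ : Lin A} :
    conjHom A x μ = 1 ↔ μ = 1 := by
  refine ⟨fun h => ?_, fun h => by rw [h, map_one]⟩
  rw [← conjHom_one A μ, ← mul_inv_cancel x, ← conjHom_conjHom, h, map_one]

/-- A linear character extends to its inertia group over a complement. -/
theorem exists_ext (A Y : Subgroup G) [hA : A.Normal] (h1 : ∀ g : G, ∃ a ∈ A, ∃ y ∈ Y, g = a * y)
    (h2 : A ⊓ Y = ⊥) (μ : Lin A) :
    ∃ ψ : Lin (H14.inertia A (lin μ)), ∀ (a : A) (h), ψ.hom ⟨a, h⟩ = μ.hom a := by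
  choose α hα β hβ e using h1
  have uniq : ∀ g a y, a ∈ A → y ∈ Y → g = a * y → α g = a := by
    intro g a y ha hy h
    have : a⁻¹ * α g ∈ A ⊓ Y := mem_inf.2 ⟨mul_mem (inv_mem ha) (hα g), by
      have : a⁻¹ * α g = y * (β g)⁻¹ := by
        rw [inv_mul_eq_iff_eq_mul, ← mul_assoc, ← h, eq_mul_inv_iff_mul_eq, ← e]
      rw [this]; exact mul_mem hy (inv_mem (hβ g))⟩
    rw [h2, mem_bot, inv_mul_eq_one] at this
    exact this.symm
  have hle := H14.le_inertia A (isClassFunction_of_irr (isIrr_lin μ))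
  refine ⟨Lin.mk (MonoidHom.mk' (fun t => μ.hom ⟨α t, hα t⟩) fun t t' => ?_), fun a h => ?_⟩
  · have hy : β t ∈ H14.inertia A (lin μ) := by
      have : β t = (α t)⁻¹ * t := by rw [eq_inv_mul_iff_mul_eq, ← e]
      rw [this]; exact mul_mem (inv_mem (hle (hα t))) t.2
    have h3 : α ((t * t' : H14.inertia A (lin μ)) : G) = α t * (β t * α t' * (β t)⁻¹) :=
      uniq _ _ (β t * β t') (mul_mem (hα t) (hA.conj_mem _ (hα t') _)) (mul_mem (hβ t) (hβ t')) (by
        rw [Subgroup.coe_mul]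
        conv_lhs => rw [e t, e t']
        group)
    have h4 := congrArg (fun ν : Lin A => ν.hom ⟨α t', hα t'⟩) ((mem_inertia_lin A).1 hy)
    simp only [conjHom_apply] at h4
    show μ.hom ⟨α _, _⟩ = μ.hom ⟨α t, hα t⟩ * μ.hom ⟨α t', hα t'⟩
    rw [← h4, ← map_mul]
    exact congrArg μ.hom (Subtype.ext h3)
  · exact congrArg μ.hom (Subtype.ext (uniq _ a 1 a.2 (one_mem _) (mul_one _).symm))

/-- In a group without divisibility among nonlinear degrees. -/
theorem ext_nd [Finite G] (nd : ∀ a ∈ charDegrees G, ∀ b ∈ charDegrees G, a ≠ 1 → a ∣ b → a = b)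
    (A Y : Subgroup G) [hA : A.Normal] (h1 : ∀ g : G, ∃ a ∈ A, ∃ y ∈ Y, g = a * y)
    (h2 : A ⊓ Y = ⊥) (μ : Lin A) (hT : H14.inertia A (lin μ) ≠ ⊤) :
    (H14.inertia A (lin μ)).index ∈ charDegrees G ∧
      ⁅H14.inertia A (lin μ), H14.inertia A (lin μ)⁆ ≤ A := by
  obtain ⟨ψ, hψ⟩ := exists_ext A Y h1 h2 μ
  have hle := H14.le_inertia A (isClassFunction_of_irr (isIrr_lin μ))
  have e : (fun n : A => lin ψ ⟨n, hle n.2⟩) = lin μ := funext fun n => by
    rw [lin_apply, lin_apply, hψ]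
  have key : ∀ β, IsIrrCharacter _ β → A.subgroupOf (H14.inertia A (lin μ)) ≤ charKer β →
      (H14.inertia A (lin μ)).index * charDegree β ∈ charDegrees G := fun β hβ hk => by
    have := index_mul_mem_cd_of_extension A _ hle (isCharacter_of_irr (isIrr_lin ψ))
      (by rw [e]; exact isIrr_lin μ) (by rw [e]) hβ hk
    rwa [deg_lin, one_mul] at this
  have k1 := key _ isIrrCharacter_one (by rw [charKer_one]; exact le_top)
  rw [deg_one, mul_one] at k1
  refine ⟨k1, commutator_le_subgroupOf_iff.1 (commutator_le_of_forall_deg _ fun β hβ hk => ?_)⟩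
  have := nd _ k1 _ (key β hβ hk) (fun h => hT (index_eq_one.1 h)) (Dvd.intro _ rfl)
  exact ((mul_eq_left₀ index_ne_zero_of_finite).1 this.symm)

theorem lift_eq {H X : Type*} [Group H] [Finite H] [Group X] {l : ℕ} (hl : l.Prime) {φ : H →* X}
    (hk : (Nat.card φ.ker).Coprime l) {y y' : H} (h3 : y ^ l = 1)
    (h3' : y' ^ l = 1) (e : φ y = φ y') : ∃ k, φ k = 1 ∧ k * y * k⁻¹ = y' := by
  have : Fact (Nat.Prime l) := ⟨hl⟩
  set M := (zpowers (φ y)).comap φ
  have hy : y ∈ M := mem_zpowers _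
  have hy' : y' ∈ M := by show φ y' ∈ zpowers (φ y); rw [← e]; exact mem_zpowers _
  have pg : ∀ {t : M}, t ^ l = 1 → IsPGroup l (zpowers t) := by
    rintro t ht ⟨_, k, rfl⟩
    refine ⟨1, Subtype.ext ?_⟩
    show (t ^ k) ^ l ^ 1 = 1
    rw [pow_one, ← zpow_natCast, ← zpow_mul, mul_comm, zpow_mul, zpow_natCast, ht, one_zpow]
  obtain ⟨P, hP⟩ := (pg (t := ⟨y, hy⟩) (Subtype.ext h3)).exists_le_sylow
  obtain ⟨P', hP'⟩ := (pg (t := ⟨y', hy'⟩) (Subtype.ext h3')).exists_le_sylow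
  obtain ⟨m, rfl⟩ := MulAction.exists_smul_eq M P P'
  have a1 : m * ⟨y, hy⟩ * m⁻¹ ∈ (m • P : Sylow l M) :=
    Subgroup.smul_mem_pointwise_smul _ (MulAut.conj m) _ (hP (mem_zpowers _))
  have a2 := hP' (mem_zpowers _)
  obtain ⟨j, hj⟩ := m.2
  have hc : φ m * φ y * (φ m)⁻¹ = φ y := by
    rw [← hj]; group
  have a3 := mul_mem (inv_mem a1) a2
  obtain ⟨n, hn⟩ := (m • P : Sylow l M).isPGroup' ⟨_, a3⟩
  have hn' : (((m : H) * y * (m : H)⁻¹)⁻¹ * y') ^ l ^ n = 1 :=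
    congrArg (fun t : (m • P : Sylow l M) => ((t : M) : H)) hn
  have hφ : φ (((m : H) * y * (m : H)⁻¹)⁻¹ * y') = 1 := by
    rw [map_mul, map_inv, map_mul, map_mul, map_inv, hc, e, inv_mul_cancel]
  have h1 : orderOf (((m : H) * y * (m : H)⁻¹)⁻¹ * y') ∣ Nat.card φ.ker := by
    have := orderOf_dvd_natCard (⟨_, hφ⟩ : φ.ker)
    rwa [← Subgroup.orderOf_coe] at this
  have h2 := orderOf_eq_one_iff.1
    (Nat.eq_one_of_dvd_coprimes (hk.pow_right n) h1 (orderOf_dvd_of_pow_eq_one hn'))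
  refine ⟨m * (y ^ j)⁻¹, ?_, ?_⟩
  · rw [map_mul, map_inv, map_zpow]
    exact mul_inv_eq_one.2 hj.symm
  · rw [← inv_mul_eq_one.1 h2]; group

/-- Counting the linear characters by their stabilizers. -/
theorem count [Finite G] (A N N₀ : Subgroup G) [A.Normal] [hN : N.Normal] [hN₀ : N₀.Normal] {g : G}
    {l : ℕ} (hl : l.Prime) (hg : g ^ l ∈ N) (h0 : N₀ ≤ N) (hc : ⁅N, N⁆ ≤ N₀)
    (hs : ∀ μ : Lin A, μ ≠ 1 → ∀ x ∈ N, conjHom A x μ = μ ↔ x ∈ N₀)
    (ht : ∀ μ : Lin A, μ ≠ 1 → ∃ n ∈ N, conjHom A (g * n) μ = μ)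
    (hco : (N₀.relIndex N).Coprime l) {μ₀ : Lin A} (hμ₀ : μ₀ ≠ 1) (V : Subgroup G)
    (hV : ∀ n, n ∈ V ↔ n ∈ N ∧ ⁅g, n⁆ ∈ N₀) :
    ∃ C : Subgroup (Lin A), Nat.card (Lin A) - 1 = V.relIndex N * (Nat.card C - 1) := by
  classical
  have := Fintype.ofFinite G
  have := Fintype.ofFinite (Lin A)
  obtain ⟨n₀, hn₀, e₀⟩ := ht μ₀ hμ₀
  let π := QuotientGroup.mk' N₀
  have hπ : ∀ x, π x = 1 ↔ x ∈ N₀ := fun x => QuotientGroup.eq_one_iff x
  have hab : ∀ a ∈ N, ∀ b ∈ N, π a * π b = π b * π a := fun a ha b hb => by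
    rw [← commutatorElement_eq_one_iff_mul_comm, ← map_commutatorElement, hπ]
    exact hc (commutator_mem_commutator ha hb)
  have hfix : ∀ μ : Lin A, μ ≠ 1 → ∀ x y, π x = π y → conjHom A x μ = μ → conjHom A y μ = μ := by
    intro μ hμ x y e h
    have h1 : y * x⁻¹ ∈ N₀ := (hπ _).1 (by rw [map_mul, map_inv, e, mul_inv_cancel])
    have h2 := (hs μ hμ _ (h0 h1)).2 h1
    calc conjHom A y μ = conjHom A x (conjHom A (y * x⁻¹) μ) := by
          rw [conjHom_conjHom, inv_mul_cancel_right]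
      _ = μ := by rw [h2, h]
  have hpow : ∀ μ : Lin A, μ ≠ 1 → ∀ n ∈ N, conjHom A (g * n) μ = μ → π (g * n) ^ l = 1 := by
    intro μ hμ n hn e
    rw [← map_pow, hπ, ← hs μ hμ]
    · exact (mem_inertia_lin A).1 (pow_mem ((mem_inertia_lin A).2 e) l)
    · rw [← QuotientGroup.eq_one_iff, QuotientGroup.mk_pow, QuotientGroup.mk_mul,
        (QuotientGroup.eq_one_iff n).2 hn, mul_one, ← QuotientGroup.mk_pow,
        QuotientGroup.eq_one_iff]
      exact hg
  let φ : G ⧸ N₀ →* G ⧸ N := QuotientGroup.map N₀ N (MonoidHom.id G) h0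
  have hφ : ∀ x, φ (π x) = 1 ↔ x ∈ N := fun x => QuotientGroup.eq_one_iff x
  have hker : (Nat.card φ.ker).Coprime l := by
    have : φ.ker = N.map π := by
      ext x
      obtain ⟨x, rfl⟩ := QuotientGroup.mk'_surjective N₀ x
      rw [MonoidHom.mem_ker, hφ]
      refine ⟨mem_map_of_mem _, ?_⟩
      rintro ⟨y, hy, e⟩
      have : y⁻¹ * x ∈ N₀ := (hπ _).1 (by rw [map_mul, map_inv, e, inv_mul_cancel])
      simpa using mul_mem hy (h0 this)
    rw [this, ← relIndex_ker, QuotientGroup.ker_mk']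
    exact hco
  have hex : ∀ μ : Lin A, μ ≠ 1 → ∃ k ∈ N, conjHom A (k * (g * n₀) * k⁻¹) μ = μ := by
    intro μ hμ
    obtain ⟨n, hn, e⟩ := ht μ hμ
    obtain ⟨k, h1, h2⟩ := lift_eq hl hker (hpow _ hμ₀ _ hn₀ e₀) (hpow _ hμ _ hn e) (by
      rw [map_mul π, map_mul π, map_mul, map_mul, (hφ _).2 hn, (hφ _).2 hn₀])
    obtain ⟨k, rfl⟩ := QuotientGroup.mk'_surjective N₀ k
    exact ⟨k, (hφ k).1 h1, hfix μ hμ _ _ (by rw [map_mul π _ k⁻¹, map_mul π k, map_inv]; exact h2.symm) e⟩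
  let C : Subgroup (Lin A) := (conjHom A (g * n₀)).eqLocus (MonoidHom.id _)
  have hVN : V ≤ N := fun n hn => ((hV n).1 hn).1
  have key := Finset.card_mul_eq_card_mul (s := Finset.univ.filter (· ∈ N))
    (t := Finset.univ.filter fun μ : Lin A => μ ≠ 1)
    (fun k μ => conjHom A (k * (g * n₀) * k⁻¹) μ = μ) (m := Nat.card C - 1) (n := Nat.card V) ?_ ?_
  · refine ⟨C, ?_⟩
    have a1 : (Finset.univ.filter (· ∈ N)).card = Nat.card N := by
      rw [Nat.card_eq_fintype_card, Fintype.card_subtype]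
    have a2 : (Finset.univ.filter fun μ : Lin A => μ ≠ 1).card = Nat.card (Lin A) - 1 := by
      rw [Finset.filter_ne', Finset.card_erase_of_mem (Finset.mem_univ _), Nat.card_eq_fintype_card,
        Finset.card_univ]
    have a3 : Nat.card V * V.relIndex N = Nat.card N := by
      rw [← (V.subgroupOf N).card_mul_index, Nat.card_congr (subgroupOfEquivOfLe hVN).toEquiv]
      rfl
    rw [a1, a2, ← a3, mul_assoc, mul_comm (Nat.card V)] at key
    exact (Nat.eq_of_mul_eq_mul_right Nat.card_pos key).symm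
  · intro k _
    have a2 : (Finset.univ.filter fun μ : C => μ ≠ 1).card = Nat.card C - 1 := by
      rw [Finset.filter_ne', Finset.card_erase_of_mem (Finset.mem_univ _), Nat.card_eq_fintype_card,
        Finset.card_univ]
    rw [← a2]
    symm
    refine Finset.card_bij (fun ν _ => conjHom A k⁻¹ ν) ?_ ?_ ?_
    · intro ν hν
      simp only [Finset.mem_bipartiteAbove, Finset.mem_filter, Finset.mem_univ, true_and] at hν ⊢
      refine ⟨fun e => hν (Subtype.ext ((conjHom_eq_one_iff A _).1 e)), ?_⟩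
      have : conjHom A (g * n₀) ν = ν := ν.2
      rw [conjHom_conjHom, show k⁻¹ * (k * (g * n₀) * k⁻¹) = g * n₀ * k⁻¹ by group,
        ← conjHom_conjHom, this]
    · intro ν _ ν' _ e
      have := congrArg (conjHom A k) e
      simp only [conjHom_conjHom, inv_mul_cancel, conjHom_one] at this
      exact Subtype.ext this
    · intro μ hμ
      simp only [Finset.mem_bipartiteAbove, Finset.mem_filter, Finset.mem_univ, true_and] at hμ
      refine ⟨⟨conjHom A k μ, ?_⟩, ?_, ?_⟩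
      · show conjHom A (g * n₀) (conjHom A k μ) = conjHom A k μ
        conv_rhs => rw [← hμ.2]
        rw [conjHom_conjHom, conjHom_conjHom, inv_mul_cancel_right]
      · simp only [Finset.mem_filter, Finset.mem_univ, true_and]
        exact fun e => hμ.1 ((conjHom_eq_one_iff A _).1 (congrArg Subtype.val e))
      · simp only [conjHom_conjHom, mul_inv_cancel, conjHom_one]
  · intro μ hμ
    simp only [Finset.mem_filter, Finset.mem_univ, true_and] at hμ
    obtain ⟨k₁, hk₁, e₁⟩ := hex μ hμ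
    have a1 : (Finset.univ.filter (· ∈ V)).card = Nat.card V := by
      rw [Nat.card_eq_fintype_card, Fintype.card_subtype]
    rw [← a1]
    have main : ∀ v ∈ N, (π (k₁ * v * (g * n₀) * (k₁ * v)⁻¹) = π (k₁ * (g * n₀) * k₁⁻¹) ↔
        ⁅g, v⁆ ∈ N₀) := by
      intro v hv
      rw [← hπ, map_commutatorElement, commutatorElement_eq_one_iff_mul_comm]
      simp only [map_mul, map_inv, mul_inv_rev]
      have b1 : π k₁ * π v * (π g * π n₀) * ((π v)⁻¹ * (π k₁)⁻¹) =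
          π k₁ * (π v * π g * (π v)⁻¹ * π n₀) * (π k₁)⁻¹ := by
        have := hab _ hn₀ _ (inv_mem hv)
        rw [map_inv] at this
        calc _ = π k₁ * (π v * π g * (π n₀ * (π v)⁻¹)) * (π k₁)⁻¹ := by group
          _ = _ := by rw [this]; group
      rw [b1, mul_left_inj, mul_right_inj, mul_left_inj, mul_inv_eq_iff_eq_mul, eq_comm]
    symm
    refine Finset.card_bij (fun v _ => k₁ * v) ?_ ?_ ?_
    · intro v hv
      simp only [Finset.mem_bipartiteBelow, Finset.mem_filter, Finset.mem_univ, true_and] at hv ⊢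
      obtain ⟨b1, b2⟩ := (hV v).1 hv
      exact ⟨mul_mem hk₁ b1, hfix μ hμ _ _ ((main v b1).2 b2).symm e₁⟩
    · intro v _ v' _ e
      exact mul_left_cancel e
    · intro k hk
      simp only [Finset.mem_bipartiteBelow, Finset.mem_filter, Finset.mem_univ, true_and] at hk
      refine ⟨k₁⁻¹ * k, ?_, by group⟩
      simp only [Finset.mem_filter, Finset.mem_univ, true_and]
      have b1 := mul_mem (inv_mem hk₁) hk.1
      refine (hV _).2 ⟨b1, (main _ b1).1 ?_⟩
      rw [mul_inv_cancel_left, ← mul_inv_eq_one, ← map_inv, ← map_mul, hπ, ← hs μ hμ]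
      · exact (mem_inertia_lin A).1 (mul_mem ((mem_inertia_lin A).2 hk.2)
          (inv_mem ((mem_inertia_lin A).2 e₁)))
      · have : k * (g * n₀) * k⁻¹ * (k₁ * (g * n₀) * k₁⁻¹)⁻¹ =
            k * (g * (n₀ * k⁻¹ * k₁ * n₀⁻¹) * g⁻¹) * k₁⁻¹ := by group
        rw [this]
        exact mul_mem (mul_mem hk.1 (hN.conj_mem _ (mul_mem (mul_mem (mul_mem hn₀ (inv_mem hk.1)) hk₁)
          (inv_mem hn₀)) g)) (inv_mem hk₁)

theorem arith {s a b c d v : ℕ} (hs : s.Prime) (hb : 0 < b) (hab : b < a) (hv : 1 < v)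
    (h1 : s ^ a - 1 = v * (s ^ c - 1)) (h2 : s ^ b - 1 = v * (s ^ d - 1)) : False := by
  have p1 : ∀ n, 1 ≤ s ^ n := fun n => Nat.one_le_pow _ _ hs.pos
  have q1 := Nat.one_lt_pow hb.ne' hs.one_lt
  have hd : d < b := by
    rw [← Nat.pow_lt_pow_iff_right hs.one_lt]
    have := p1 d
    nlinarith [Nat.sub_add_cancel (p1 b), Nat.sub_add_cancel (p1 d)]
  have hc : d < c := by
    rw [← Nat.pow_lt_pow_iff_right hs.one_lt]
    have h3 := Nat.pow_lt_pow_right hs.one_lt hab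
    have h4 : v * (s ^ d - 1) < v * (s ^ c - 1) := by rw [← h1, ← h2]; have := p1 b; omega
    have := Nat.lt_of_mul_lt_mul_left h4
    omega
  zify [p1] at h1 h2
  have e : (v : ℤ) * s ^ d = s ^ b - s ^ a + v * s ^ c := by linear_combination h1 - h2
  have h3 : (s : ℤ) ^ (d + 1) ∣ v * s ^ d := e ▸ dvd_add (dvd_sub (pow_dvd_pow _ hd)
    (pow_dvd_pow _ (by omega))) ((pow_dvd_pow _ hc).mul_left _)
  rw [pow_succ', mul_dvd_mul_iff_right (pow_ne_zero _ (by exact_mod_cast hs.ne_zero))] at h3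
  have h4 : (s : ℤ) ∣ 1 := by
    have : (1 : ℤ) = s ^ b - v * (s ^ d - 1) := by linear_combination -h2
    rw [this]
    exact dvd_sub (dvd_pow_self _ hb.ne') (h3.mul_right _)
  exact hs.one_lt.ne' (by exact_mod_cast Int.eq_one_of_dvd_one (by positivity) h4)

end Cfsg.Agent.H26.ND
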