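import Cfsg.Agent.Lead.PcDefs

/-! Project PL: piece Al. -/

set_option autoImplicit false

namespace Cfsg.Agent.H26.PlAl

open Subgroup Cfsg.Agent.Lead.Pc

universe u

variable {G : Type u} [Group G] {S T : Subgroup G}

theorem tw (h : St S T) {y : G} (l : Li S T y) : Tw y := by
  obtain ⟨k, hk⟩ := h.two ⟨y * y, l.2.2⟩
  refine ⟨k + 1, ?_⟩
  have := congrArg Subtype.val hk
  rw [SubgroupClass.coe_pow] at this
  rw [pow_succ', pow_mul, sq]
  exact this

theorem par (h : St S T) {y : G} (l : Li S T y) (n : ℕ) : y ^ n ∈ S ↔ Even n := by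
  have h2 : ∀ k : ℕ, y ^ (2 * k) ∈ S := fun k => by
    rw [pow_mul, sq]
    exact pow_mem (h.le l.2.2) k
  rcases Nat.even_or_odd' n with ⟨k, rfl | rfl⟩
  · exact iff_of_true (h2 k) (even_two_mul k)
  · refine iff_of_false (fun e => l.2.1 ?_) (by simp)
    rw [pow_succ] at e
    exact (mul_mem_cancel_left (h2 k)).1 e

theorem al : AlStmt.{u} := by
  intro ord G _ _ S T h nc W hW y y' l l' hy
  have e := ord G S h.nm h.cp y' y (tw h l') (tw h l) l'.2.1 fun n => by rw [par h l, par h l']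
  obtain ⟨n, hn, k, hk⟩ := nc y' y (tw h l') (tw h l) l'.2.1 l'.1 l.1 e
  refine (mem_normalizer_iff.1 (hW hn) _).2 ?_
  have : n * (y' * y') * n⁻¹ = (y * y) ^ k := by
    rw [← conj_mul, ← hk, (Commute.refl y).mul_zpow]
  rw [this]
  exact zpow_mem hy k

end Cfsg.Agent.H26.PlAl
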