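import Mathlib

/-! The centraliser of a non-identity element of odd order of `PSL₂(F)` is abelian. -/

set_option autoImplicit false

namespace Cfsg.Agent.H26.Psl2Odd

open Matrix
open scoped MatrixGroups

variable {F : Type*} [Field F]

theorem par {u v e x y d x' y' d' : F} (h : ¬ (u = 0 ∧ v = 0 ∧ e = 0)) (a1 : x * v = u * y)
    (a2 : x * e = u * d) (a3 : y * e = v * d) (b1 : x' * v = u * y') (b2 : x' * e = u * d')
    (b3 : y' * e = v * d') : x * y' = x' * y ∧ x * d' = x' * d ∧ y * d' = y' * d := by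
  by_cases h1 : u = 0
  · by_cases h2 : v = 0
    · have h3 : e ≠ 0 := fun e => h ⟨h1, h2, e⟩
      subst h1 h2
      have e1 : x = 0 := mul_right_cancel₀ h3 (by linear_combination a2)
      have e2 : y = 0 := mul_right_cancel₀ h3 (by linear_combination a3)
      have e3 : x' = 0 := mul_right_cancel₀ h3 (by linear_combination b2)
      have e4 : y' = 0 := mul_right_cancel₀ h3 (by linear_combination b3)
      simp [e1, e2, e3, e4]
    · subst h1
      have e1 : x = 0 := mul_right_cancel₀ h2 (by linear_combination a1)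
      have e3 : x' = 0 := mul_right_cancel₀ h2 (by linear_combination b1)
      refine ⟨by simp [e1, e3], by simp [e1, e3], mul_right_cancel₀ h2 ?_⟩
      linear_combination y' * a3 - y * b3
  · have k2 : x * d' = x' * d := mul_right_cancel₀ h1 (by linear_combination x' * a2 - x * b2)
    refine ⟨mul_right_cancel₀ h1 ?_, k2, mul_right_cancel₀ h1 ?_⟩
    · linear_combination x' * a1 - x * b1
    · linear_combination -d' * a1 + d * b1 + v * k2

/-- matrices commuting with a non-scalar `2 × 2` matrix commute -/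
theorem mat (g a b : Matrix (Fin 2) (Fin 2) F) (hg : ¬ (g 0 1 = 0 ∧ g 1 0 = 0 ∧ g 0 0 = g 1 1))
    (ha : a * g = g * a) (hb : b * g = g * b) : a * b = b * a := by
  have a00 := congrFun (congrFun ha 0) 0
  have a01 := congrFun (congrFun ha 0) 1
  have a10 := congrFun (congrFun ha 1) 0
  have b00 := congrFun (congrFun hb 0) 0
  have b01 := congrFun (congrFun hb 0) 1
  have b10 := congrFun (congrFun hb 1) 0
  simp only [Matrix.mul_apply, Fin.sum_univ_two] at a00 a01 a10 b00 b01 b10
  have key : a 0 1 * b 1 0 = b 0 1 * a 1 0 ∧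
      a 0 1 * (b 1 1 - b 0 0) = b 0 1 * (a 1 1 - a 0 0) ∧
      a 1 0 * (b 1 1 - b 0 0) = b 1 0 * (a 1 1 - a 0 0) := by
    refine par (u := g 0 1) (v := g 1 0) (e := g 1 1 - g 0 0)
      (fun e => hg ⟨e.1, e.2.1, (sub_eq_zero.1 e.2.2).symm⟩) ?_ ?_ ?_ ?_ ?_ ?_
    · linear_combination a00
    · linear_combination a01
    · linear_combination -a10
    · linear_combination b00
    · linear_combination b01
    · linear_combination -b10
  obtain ⟨k1, k2, k3⟩ := key
  ext i j
  fin_cases i <;> fin_cases j <;> simp [Matrix.mul_apply, Fin.sum_univ_two]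
  · linear_combination k1
  · linear_combination k2
  · linear_combination -k3
  · linear_combination -k1

/-- an element commuting with `g` modulo the centre commutes with a lift of odd order -/
theorem lift (G A : SL(2, F)) (ho : Odd (orderOf G))
    (h : Commute (A : PSL(2, F)) (G : PSL(2, F))) : A * G = G * A := by
  have hc : (G * A)⁻¹ * (A * G) ∈ Subgroup.center SL(2, F) := by
    rw [← QuotientGroup.eq, QuotientGroup.mk_mul, QuotientGroup.mk_mul]
    exact h.eq.symm
  obtain ⟨c, hcd⟩ : ∃ c, c = (G * A)⁻¹ * (A * G) := ⟨_, rfl⟩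
  rw [← hcd] at hc
  have cc : c ^ 2 = 1 := by
    obtain ⟨r, hr, e⟩ := Matrix.SpecialLinearGroup.mem_center_iff.1 hc
    apply Subtype.ext
    change ((_ : SL(2, F)) ^ 2).1 = _
    rw [Matrix.SpecialLinearGroup.coe_pow, ← e, ← map_pow]
    simp only [Fintype.card_fin] at hr
    rw [hr, map_one]
    rfl
  have e1 : A * G * A⁻¹ = G * c := by
    have := Subgroup.mem_center_iff.1 hc A
    calc A * G * A⁻¹ = G * (A * c) * A⁻¹ := by rw [hcd]; group
      _ = G * c := by rw [this]; group
  have e2 : c ^ orderOf G = 1 := by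
    have h1 : (G * c) ^ orderOf G = 1 := by
      rw [← e1, conj_pow, pow_orderOf_eq_one]; group
    have h2 : Commute G c := Subgroup.mem_center_iff.1 hc G
    rwa [h2.mul_pow, pow_orderOf_eq_one, one_mul] at h1
  obtain ⟨k, hk⟩ := ho
  rw [hk, pow_succ, pow_mul, cc, one_pow, one_mul] at e2
  rw [e2, mul_one] at e1
  exact mul_inv_eq_iff_eq_mul.1 e1

theorem cen (g a b : PSL(2, F)) (g1 : g ≠ 1) (ho : Odd (orderOf g))
    (ha : Commute a g) (hb : Commute b g) : Commute a b := by
  obtain ⟨G0, rfl⟩ := QuotientGroup.mk_surjective g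
  obtain ⟨A, rfl⟩ := QuotientGroup.mk_surjective a
  obtain ⟨B, rfl⟩ := QuotientGroup.mk_surjective b
  obtain ⟨k, hk⟩ := ho
  -- the lift `G0 ^ (2 k + 2)` has odd order
  have hc : G0 ^ (2 * k + 1) ∈ Subgroup.center SL(2, F) := by
    rw [← QuotientGroup.eq_one_iff, QuotientGroup.mk_pow, ← hk]
    exact pow_orderOf_eq_one _
  have cc : (G0 ^ (2 * k + 1)) ^ 2 = 1 := by
    obtain ⟨r, hr, e⟩ := Matrix.SpecialLinearGroup.mem_center_iff.1 hc
    apply Subtype.ext
    change ((_ : SL(2, F)) ^ 2).1 = _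
    rw [Matrix.SpecialLinearGroup.coe_pow, ← e, ← map_pow]
    simp only [Fintype.card_fin] at hr
    rw [hr, map_one]
    rfl
  have eG : ((G0 ^ (2 * k + 2) : SL(2, F)) : PSL(2, F)) = G0 := by
    rw [QuotientGroup.mk_pow, pow_succ, ← hk, pow_orderOf_eq_one, one_mul]
  have oG : Odd (orderOf (G0 ^ (2 * k + 2))) := by
    refine Odd.of_dvd_nat ⟨k, rfl⟩ (orderOf_dvd_of_pow_eq_one ?_)
    rw [← pow_mul, show (2 * k + 2) * (2 * k + 1) = (2 * k + 1) * 2 * (k + 1) by ring, pow_mul,
      pow_mul, cc, one_pow]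
  have h1 := lift _ A oG (eG.symm ▸ ha)
  have h2 := lift _ B oG (eG.symm ▸ hb)
  have : A * B = B * A := by
    apply Subtype.ext
    refine mat (G0 ^ (2 * k + 2) : SL(2, F)).1 A.1 B.1 ?_ (congrArg Subtype.val h1)
      (congrArg Subtype.val h2)
    rintro ⟨e1, e2, e3⟩
    apply g1
    rw [← eG, QuotientGroup.eq_one_iff, Subgroup.mem_center_iff]
    intro X
    apply Subtype.ext
    change X.1 * (G0 ^ (2 * k + 2) : SL(2, F)).1 = (G0 ^ (2 * k + 2) : SL(2, F)).1 * X.1
    ext i j
    fin_cases i <;> fin_cases j <;>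
      simp only [Matrix.mul_apply, Fin.sum_univ_two, Fin.zero_eta, Fin.mk_one, e1, e2, e3] <;> ring
  change ((A * B : SL(2, F)) : PSL(2, F)) = (B * A : SL(2, F))
  rw [this]

end Cfsg.Agent.H26.Psl2Odd
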