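import Cfsg.Agent.H26.NdB
import Cfsg.Agent.H1.Card
import Cfsg.Agent.S4729

/-! The common-divisor graph on relative character degrees over a solvable normal subgroup. -/

set_option autoImplicit false

namespace Cfsg.Agent.H26.RD

open Cfsg Subgroup H24 H11 ND
open scoped commutatorElement Pointwise

variable {G : Type*} [Group G] [Finite G]

theorem mem_of_ann {H : Type*} [Group H] [Finite H] (B : Subgroup (Lin H)) {μ : Lin H}
    (h : ∀ x, (∀ β ∈ B, β.hom x = 1) → μ.hom x = 1) : μ ∈ B := by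
  by_contra hn
  have hc : commutator (Lin H) = ⊥ := commutator_eq_bot _
  obtain ⟨Φ, h1, h2⟩ := exists_lin B (hc ▸ bot_le) hn
  let ev : H →* Lin (Lin H) := MonoidHom.mk' (fun x => Lin.mk (MonoidHom.mk' (fun β => β.hom x)
    fun _ _ => rfl)) fun x y => Lin.ext fun β => map_mul β.hom x y
  have h3 : ev.ker ≤ commutator H := fun x hx => by
    by_contra h4
    obtain ⟨ν, -, h5⟩ := exists_lin _ le_rfl h4
    exact h5 (congrArg (fun Ψ : Lin (Lin H) => Ψ.hom ν) hx)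
  have h4 : ev.range = ⊤ := by
    refine eq_top_of_le_card _ ?_
    rw [← index_ker, card_Lin, hc, index_bot, card_Lin]
    exact Nat.le_of_dvd (Nat.pos_of_ne_zero index_ne_zero_of_finite) (index_dvd_of_le h3)
  obtain ⟨x, rfl⟩ : Φ ∈ ev.range := h4 ▸ mem_top Φ
  exact h2 (h x h1)

variable {N : Subgroup G} [hN : N.Normal]

omit hN in
theorem det_res (hNG : N ≤ commutator G) {χ : G → ℂ} (hχ : IsCharacter G χ) (n : N) :
    detChar (fun n : N => χ n) n = 1 := by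
  obtain ⟨μ, hμ⟩ := H72.exists_monoidHom_detChar hχ
  rw [← H72.detChar_of_res N hχ (fun _ => rfl) n, hμ]
  exact Units.val_eq_one.2 (Abelianization.commutator_subset_ker μ (hNG n.2))

omit hN in
theorem pow_eq_one_of_res (hNG : N ≤ commutator G) {χ ξ : G → ℂ} (hχ : IsCharacter G χ)
    (hξ : IsCharacter G ξ) {μ : Lin N} {a b : ℕ}
    (h : (a : ℂ) • (fun n : N => ξ n) = (b : ℂ) • (lin μ * fun n : N => χ n)) :
    μ ^ (charDegree χ * b) = 1 := by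
  refine Lin.ext fun n => Units.val_injective ?_
  have h1 := congrArg (fun f => detChar f n) h
  have h2 := isCharacter_restrict hχ N
  have h3 := H72.detChar_linear_mul h2 (d := charDegree χ) (deg_cast hχ).symm μ.hom n
  rw [S4729.detChar_nsmul (isCharacter_restrict hξ N), S4729.detChar_nsmul
    (isCharacter_mul (isCharacter_of_irr (isIrr_lin μ)) h2), det_res hNG hξ, one_pow] at h1
  rw [det_res hNG hχ, mul_one] at h3
  rw [Lin.pow_apply, Units.val_pow_eq_pow_val, pow_mul, ← h3]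
  exact h1.symm

theorem res_mul [Fintype N] {χ ξ : G → ℂ} (hχ : IsIrrCharacter G χ) (hξ : IsIrrCharacter G ξ)
    {θ : N → ℂ} (hθ : IsIrrCharacter N θ) {μ : Lin N}
    (h1 : classInner (fun n : N => χ n) θ ≠ 0) (h2 : classInner (fun n : N => ξ n) (lin μ * θ) ≠ 0)
    (c1 : (H14.inertia N θ).index.Coprime (H14.inertia N (lin μ)).index)
    (c2 : (H14.inertia N (lin μ * θ)).index.Coprime (H14.inertia N (lin μ)).index) :
    (charDegree χ : ℂ) • (fun n : N => ξ n) = (charDegree ξ : ℂ) • (lin μ * fun n : N => χ n) := by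
  classical
  have := Fintype.ofFinite G
  have e1 := H14.clifford N hχ hθ h1
  have e2 := H14.clifford N hξ (isIrr_lin_mul μ hθ) h2
  have e3 : Finset.univ.image (H14.conjChar N (lin μ * θ)) =
      (Finset.univ.image (H14.conjChar N θ)).image (lin μ * ·) := by
    ext φ
    simp only [Finset.mem_image, Finset.mem_univ, true_and, exists_exists_eq_and]
    constructor
    · rintro ⟨g, rfl⟩
      obtain ⟨t, ht, u, hu, rfl⟩ := H1.factorization_of_coprime_index c2 g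
      exact ⟨u, by rw [H14.conjChar_mul_of_mem N ht, H14.conjChar_mul, H14.mem_inertia N |>.1 hu]⟩
    · rintro ⟨g, rfl⟩
      obtain ⟨t, ht, u, hu, rfl⟩ := H1.factorization_of_coprime_index c1 g
      exact ⟨u, by rw [H14.conjChar_mul_of_mem N ht, H14.conjChar_mul, H14.mem_inertia N |>.1 hu]⟩
  rw [e3, Finset.sum_image (fun a _ b _ h => lin_mul_left_cancel μ h), ← Finset.mul_sum] at e2
  generalize ∑ ψ ∈ Finset.univ.image (H14.conjChar N θ), ψ = S at e1 e2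
  have d1 := congrFun e1 1
  have d2 := congrFun e2 1
  simp only [OneMemClass.coe_one, Pi.smul_apply, Pi.mul_apply, lin_apply_one, one_mul,
    smul_eq_mul] at d1 d2
  rw [← irr_deg hχ, ← irr_deg hξ, d1, d2]
  generalize classInner (fun n : N => χ n) θ = a at e1
  generalize classInner (fun n : N => ξ n) (lin μ * θ) = b at e2
  rw [e1, e2]
  ext n
  simp only [Pi.smul_apply, Pi.mul_apply, smul_eq_mul]
  ring

theorem conj_mul_res {χ ξ : G → ℂ} (hχ : IsIrrCharacter G χ) (hξ : IsIrrCharacter G ξ) {μ : Lin N}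
    (h : (charDegree χ : ℂ) • (fun n : N => ξ n) =
      (charDegree ξ : ℂ) • (lin μ * fun n : N => χ n)) (g : G) :
    lin (μ⁻¹ * conjHom N g μ) * (fun n : N => χ n) = fun n : N => χ n := by
  have h1 := congrArg (fun f => H14.conjChar N f g) h
  simp only [H14.conjChar_smul, H14.conjChar_mul, conjChar_lin,
    H14.conjChar_res N (isClassFunction_of_irr hχ),
    H14.conjChar_res N (isClassFunction_of_irr hξ)] at h1
  rw [h] at h1
  have h2 := smul_right_injective _ (Nat.cast_ne_zero.2 (deg_ne_zero hξ) : (_ : ℂ) ≠ 0) h1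
  rw [map_mul, mul_assoc, ← h2, ← mul_assoc, ← map_mul, inv_mul_cancel, map_one, one_mul]

theorem pow_deg_of_inv [Fintype N] (hNG : N ≤ commutator G) {χ : G → ℂ} (hχ : IsIrrCharacter G χ)
    {μ : Lin N} (h1 : classInner (fun n : N => χ n) (lin μ) ≠ 0) (h2 : ∀ g, conjHom N g μ = μ) :
    μ ^ charDegree χ = 1 := by
  have := Fintype.ofFinite G
  have e1 := H14.clifford_invariant N hχ (isIrr_lin μ) h1 fun g n => by
    rw [lin_apply, lin_apply, ← conjHom_apply, h2]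
  have d1 := congrFun e1 1
  simp only [OneMemClass.coe_one, Pi.smul_apply, lin_apply_one, smul_eq_mul, mul_one] at d1
  have := pow_eq_one_of_res hNG (isCharacter_of_irr isIrrCharacter_one) (isCharacter_of_irr hχ)
    (μ := μ) (a := 1) (b := charDegree χ) (by
      rw [← irr_deg hχ, d1, Nat.cast_one, one_smul]
      exact e1.trans (congrArg _ (mul_one (lin μ)).symm))
  rwa [deg_one, one_mul] at this

omit hN in
theorem eq_one_of_le_ker [Fintype N] {χ : G → ℂ} (hχ : IsIrrCharacter G χ) (h : N ≤ charKer χ)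
    {θ : N → ℂ} (hθ : IsIrrCharacter N θ) (h1 : classInner (fun n : N => χ n) θ ≠ 0) : θ = 1 := by
  have h2 := isCharacter_restrict (isCharacter_of_irr hχ) N
  refine irr_eq_one_of_charKer_eq_top hθ (eq_top_iff.2 fun x _ =>
    charKer_le_of_constituent h2 hθ h1 ?_)
  rw [mem_charKer_iff h2]
  exact apply_eq_of_mem_charKer (h x.2)

theorem le_ker_of_one [Fintype N] {χ : G → ℂ} (hχ : IsIrrCharacter G χ)
    (h1 : classInner (fun n : N => χ n) (lin 1) ≠ 0) : N ≤ charKer χ := fun x hx => by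
  have := Fintype.ofFinite G
  have e1 := H14.clifford_invariant N hχ (isIrr_lin 1) h1 fun g n => rfl
  rw [mem_charKer_irr_iff hχ]
  exact (congrFun e1 ⟨x, hx⟩).trans (congrFun e1 1).symm

theorem key [Fintype N] (hNG : N ≤ commutator G) {B : Subgroup (Lin N)} {p : ℕ} (hp : p.Prime)
    (hB : ∀ g, ∀ β ∈ B, conjHom N g β ∈ B) (hBp : ∀ β ∈ B, β ^ p = 1)
    (hmin : ∀ C ≤ B, (∀ g, ∀ β ∈ C, conjHom N g β ∈ C) → C ≠ ⊥ → C = B)
    {χ ψ : G → ℂ} (hχ : IsIrrCharacter G χ) (hψ : IsIrrCharacter G ψ) (hχN : ¬ N ≤ charKer χ)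
    (hχp : ¬ p ∣ charDegree χ) {μ : Lin N} (hμ : μ ∈ B) (hμ1 : μ ≠ 1)
    (h1 : classInner (fun n : N => ψ n) (lin μ) ≠ 0) :
    ∃ ξ, IsIrrCharacter G ξ ∧ ¬ N ≤ charKer ξ ∧ ¬ (charDegree ξ).Coprime (charDegree χ) ∧
      ¬ (charDegree ξ).Coprime (charDegree ψ) := by
  have := Fintype.ofFinite G
  by_cases hc : (charDegree χ).Coprime (charDegree ψ)
  swap
  · refine ⟨χ, hχ, hχN, fun h => hχN (hNG.trans ?_), hc⟩
    exact (deg_eq_one_iff_commutator_le hχ).1 ((Nat.coprime_self _).1 h)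
  have pd : ∀ β ∈ B, ∀ k, β ^ k = 1 → β ≠ 1 → p ∣ k := fun β hβ k h h' => by
    have : Fact p.Prime := ⟨hp⟩
    rw [← orderOf_eq_prime (hBp β hβ) h']
    exact orderOf_dvd_of_pow_eq_one h
  obtain ⟨θ, hθ, h2⟩ := H14.exists_irr_under N hχ
  obtain ⟨ξ, hξ, h3⟩ := H14.exists_irr_over N (isIrr_lin_mul μ hθ)
  have d1 := index_inertia_mul_deg_dvd N hχ hθ h2
  have d2 := index_inertia_mul_deg_dvd N hψ (isIrr_lin μ) h1
  have d3 := index_inertia_mul_deg_dvd N hξ (isIrr_lin_mul μ hθ) h3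
  have cp : ∀ {a b c d e f : ℕ}, a * b ∣ c → d * e ∣ f → c.Coprime f → a.Coprime d :=
    fun h h' hh => (hh.coprime_dvd_left ((Dvd.intro _ rfl).trans h)).coprime_dvd_right
      ((Dvd.intro _ rfl).trans h')
  have main : (H14.inertia N (lin μ * θ)).index.Coprime (H14.inertia N (lin μ)).index →
      p ∣ charDegree ξ ∧ p ∣ charDegree ψ := fun h => by
    have a1 := res_mul hχ hξ hθ h2 h3 (cp d1 d2 hc) h
    have a2 := pow_eq_one_of_res hNG (isCharacter_of_irr hχ) (isCharacter_of_irr hξ) a1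
    refine ⟨(hp.dvd_mul.1 (pd μ hμ _ a2 hμ1)).resolve_left hχp, pd μ hμ _
      (pow_deg_of_inv hNG hψ h1 fun g => ?_) hμ1⟩
    have a3 := pow_eq_one_of_res hNG (isCharacter_of_irr hχ) (isCharacter_of_irr hχ) (a := 1)
      (b := 1) (congrArg _ (conj_mul_res hχ hξ a1 g).symm)
    rw [mul_one] at a3
    by_contra a4
    exact hχp (pd _ (mul_mem (inv_mem hμ) (hB g μ hμ)) _ a3 fun e => a4 (inv_mul_eq_one.1 e).symm)
  refine ⟨ξ, hξ, fun h => ?_, fun h => ?_, fun h => ?_⟩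
  · have a1 := eq_one_of_le_ker hξ h (isIrr_lin_mul μ hθ) h3
    have a2 := (main (by
      rw [a1, (H14.inertia_eq_top_iff N).2 fun _ _ => rfl, index_top]
      exact Nat.coprime_one_left _)).2
    have a3 : θ = lin μ⁻¹ := lin_mul_left_cancel μ (by rw [a1, ← map_mul, mul_inv_cancel, map_one])
    have a4 : H14.inertia N θ = H14.inertia N (lin μ) := by
      ext x
      rw [a3, mem_inertia_lin, mem_inertia_lin, map_inv, inv_inj]
    have a5 := cp d1 d2 hc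
    rw [a4, Nat.coprime_self, index_eq_one] at a5
    refine hχp (pd _ (inv_mem hμ) _ (pow_deg_of_inv hNG hχ (a3 ▸ h2) fun g => ?_)
      (inv_ne_one.2 hμ1))
    rw [map_inv, (mem_inertia_lin N).1 (a5 ▸ mem_top g)]
  · obtain ⟨ν, rfl⟩ := exists_eq_lin (isCharacter_of_irr hθ) (Nat.eq_one_of_dvd_coprimes h
      (deg_lin_mul μ θ ▸ (Dvd.intro_left _ rfl).trans d3) ((Dvd.intro_left _ rfl).trans d1))
    rw [mul_comm (lin μ)] at h3 d3
    have a1 := res_mul hψ hξ (isIrr_lin μ) h1 h3 (cp d2 d1 hc.symm) (cp d3 d1 h)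
    have a2 := pow_eq_one_of_res hNG (isCharacter_of_irr hψ) (isCharacter_of_irr hξ) a1
    by_cases a3 : ∀ g, conjHom N g ν = ν
    · have a4 := orderOf_eq_one_iff.1 (Nat.eq_one_of_dvd_coprimes (Nat.Coprime.mul_left hc.symm h)
        (orderOf_dvd_of_pow_eq_one a2) (orderOf_dvd_of_pow_eq_one (pow_deg_of_inv hNG hχ h2 a3)))
      exact hχN (le_ker_of_one hχ (a4 ▸ h2))
    push Not at a3
    obtain ⟨g, hg⟩ := a3
    have a4 : ∀ γ ∈ linStab (fun n : N => ψ n), ∃ h, conjHom N h μ = γ * μ := fun γ hγ => by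
      obtain ⟨h, e⟩ := H14.clifford_conj N hψ (isIrr_lin μ) (isIrr_lin (γ * μ)) h1 (by
        rwa [← mem_linStab.1 hγ, inner_lin_mul, ← map_mul, inv_mul_cancel_left])
      exact ⟨h, lin_injective e⟩
    have a5 := hmin (B ⊓ linStab fun n : N => ψ n) inf_le_left (fun h β hβ => mem_inf.2
      ⟨hB h β hβ.1, conjHom_mem_linStab (l := 1) (by
        rw [H14.conjChar_res N (isClassFunction_of_irr hψ), map_one, one_mul]) hβ.2⟩) (by
      have b1 := conj_mul_res hψ hξ a1 g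
      obtain ⟨h, e⟩ := a4 _ b1
      refine fun e' => hg (inv_mul_eq_one.1 (mem_bot.1 (e' ▸ mem_inf.2 ⟨?_, b1⟩))).symm
      exact (B.mul_mem_cancel_right hμ).1 (e ▸ hB h μ hμ))
    obtain ⟨h, e⟩ := a4 _ (a5.ge (inv_mem hμ)).2
    rw [inv_mul_cancel, conjHom_eq_one_iff] at e
    exact hμ1 e
  · obtain ⟨a1, a2⟩ := main (cp d3 d2 h)
    exact hp.one_lt.ne' (Nat.eq_one_of_dvd_coprimes h a1 a2)

theorem exists_chief [Group.IsSolvable N] (hNG : N ≤ commutator G) (hne : N ≠ ⊥) :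
    ∃ (N₀ : Subgroup G) (p : ℕ), N₀.Normal ∧ N₀ < N ∧ p.Prime ∧
      (∃ ψ, IsIrrCharacter G ψ ∧ ¬ N ≤ charKer ψ ∧ N₀ ≤ charKer ψ) ∧
      ∀ χ ψ, IsIrrCharacter G χ → IsIrrCharacter G ψ → ¬ N ≤ charKer χ → ¬ N ≤ charKer ψ →
        N₀ ≤ charKer ψ → ¬ p ∣ charDegree χ → ∃ ξ, IsIrrCharacter G ξ ∧ ¬ N ≤ charKer ξ ∧
          ¬ (charDegree ξ).Coprime (charDegree χ) ∧ ¬ (charDegree ξ).Coprime (charDegree ψ) := by
  have := Fintype.ofFinite N
  obtain ⟨a, ha, h1⟩ := SetLike.exists_of_lt (H1.commutator_self_lt_of_isSolvable hne)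
  obtain ⟨μ, -, h2⟩ := exists_lin' le_rfl ha h1
  obtain ⟨B, ⟨h3, h4⟩, h5⟩ := exists_minimal_of_wellFoundedLT
    (fun B : Subgroup (Lin N) => (∀ g, ∀ β ∈ B, conjHom N g β ∈ B) ∧ B ≠ ⊥)
    ⟨⊤, fun _ _ _ => mem_top _, fun e => h2 (by rw [mem_bot.1 (e.le (mem_top μ))]; rfl)⟩
  have hmin : ∀ C ≤ B, (∀ g, ∀ β ∈ C, conjHom N g β ∈ C) → C ≠ ⊥ → C = B :=
    fun C h h' h'' => le_antisymm h (h5 ⟨h', h''⟩ h)
  obtain ⟨p, hp, h6⟩ := Nat.exists_prime_and_dvd (fun e => h4 (card_eq_one.1 e))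
  have : Fact p.Prime := ⟨hp⟩
  obtain ⟨β, hβ⟩ := exists_prime_orderOf_dvd_card' p h6
  rw [← Subgroup.orderOf_coe] at hβ
  have hβ1 : (β : Lin N) ≠ 1 := fun e => hp.one_lt.ne' (by rw [← hβ, e, orderOf_one])
  have h7 := hmin (B ⊓ (powMonoidHom p).ker) inf_le_left (fun g γ hγ => mem_inf.2 ⟨h3 g γ hγ.1, by
    have : γ ^ p = 1 := hγ.2
    rw [MonoidHom.mem_ker, powMonoidHom_apply, ← map_pow, this, map_one]⟩)
    fun e => hβ1 (mem_bot.1 (e ▸ mem_inf.2 ⟨β.2, by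
      rw [MonoidHom.mem_ker, powMonoidHom_apply, ← hβ, pow_orderOf_eq_one]⟩))
  let N₀ := (⨅ γ ∈ B, γ.hom.ker).map N.subtype
  have hm : ∀ x : N, (x : G) ∈ N₀ ↔ ∀ γ ∈ B, γ.hom x = 1 := fun x => by
    rw [show (x : G) = N.subtype x from rfl, mem_map_iff_mem N.subtype_injective]
    simp only [mem_iInf, MonoidHom.mem_ker]
  have hle : N₀ ≤ N := map_subtype_le _
  have hn : N₀.Normal := ⟨fun x hx g => (hm ⟨_, hN.conj_mem _ (hle hx) g⟩).2 fun γ hγ =>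
    (hm ⟨x, hle hx⟩).1 hx _ (h3 g γ hγ)⟩
  have hlt : ¬ N ≤ N₀ := fun e => hβ1 (Lin.ext fun x => (hm x).1 (e x.2) _ β.2)
  refine ⟨N₀, p, hn, lt_of_le_not_ge hle hlt, hp, ?_, fun χ ψ hχ hψ a1 a2 a3 a4 => ?_⟩
  · obtain ⟨x, hx, hx'⟩ := SetLike.not_le_iff_exists.1 hlt
    obtain ⟨ψ, hψ, a1, a2⟩ := exists_irr_le_charKer_not_mem N₀ hx'
    exact ⟨ψ, hψ, fun e => a2 (e hx), a1⟩
  obtain ⟨θ, hθ, a5⟩ := H14.exists_irr_under N hψ
  have a6 := isCharacter_restrict (isCharacter_of_irr hψ) N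
  have a7 : ∀ x : N, (∀ γ ∈ B, γ.hom x = 1) → x ∈ charKer θ := fun x hx =>
    charKer_le_of_constituent a6 hθ a5 (by
      rw [mem_charKer_iff a6]; exact apply_eq_of_mem_charKer (a3 ((hm x).2 hx)))
  obtain ⟨ν, rfl⟩ := exists_eq_lin (isCharacter_of_irr hθ) ((deg_eq_one_iff_commutator_le hθ).2
    fun x hx => a7 x fun γ _ => Abelianization.commutator_subset_ker γ.hom hx)
  rw [charKer_lin] at a7
  exact key hNG hp h3 (fun γ hγ => (h7.ge hγ).2) hmin hχ hψ a1 a4 (mem_of_ann B a7)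
    (fun e => a2 (le_ker_of_one hψ (e ▸ a5))) a5

omit hN in
theorem mem_rel {d : ℕ} :
    d ∈ relCharDegrees N ↔ ∃ χ, IsIrrCharacter G χ ∧ ¬ N ≤ charKer χ ∧ charDegree χ = d := by
  constructor
  · rintro ⟨χ, ⟨x, hx, h⟩, rfl⟩
    exact ⟨χ, χ.2, fun e => h (apply_eq_of_mem_charKer (e hx)), rfl⟩
  · rintro ⟨χ, hχ, h, rfl⟩
    obtain ⟨x, hx, hx'⟩ := SetLike.not_le_iff_exists.1 h
    exact ⟨⟨χ, hχ⟩, ⟨x, hx, fun e => hx' ((mem_charKer_irr_iff hχ).2 e)⟩, rfl⟩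

theorem adj_iff {S : Set ℕ} {a b : S} (h : 0 < a.1) :
    (commonDivisorGraph.induce S).Adj a b ↔ a ≠ b ∧ ¬ a.1.Coprime b.1 := by
  have := Nat.gcd_pos_of_pos_left b.1 h
  refine and_congr Subtype.coe_ne_coe ?_
  show 1 < Nat.gcd a.1 b.1 ↔ _
  rw [Nat.Coprime]
  omega

theorem reach {S : Set ℕ} {a b : S} (h : 0 < a.1) (h1 : ¬ a.1.Coprime b.1) :
    (commonDivisorGraph.induce S).Reachable a b := by
  by_cases e : a = b
  · rw [e]
  · exact ((adj_iff h).2 ⟨e, h1⟩).reachable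

theorem ncop {p a b : ℕ} (hp : p.Prime) (ha : p ∣ a) (hb : p ∣ b) : ¬ a.Coprime b := fun h =>
  hp.one_lt.ne' (Nat.eq_one_of_dvd_coprimes h ha hb)

omit hN in
theorem near (n : ℕ) : ∀ (N : Subgroup G) [N.Normal] [Group.IsSolvable N], Nat.card N = n →
    N ≤ commutator G → ∀ χ₁ χ₂ η, IsIrrCharacter G χ₁ → IsIrrCharacter G χ₂ → IsIrrCharacter G η →
    ¬ N ≤ charKer χ₁ → ¬ N ≤ charKer χ₂ → ¬ N ≤ charKer η →
    (∀ χ ξ, χ = χ₁ ∨ χ = χ₂ → IsIrrCharacter G ξ → ¬ N ≤ charKer ξ →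
      (charDegree ξ).Coprime (charDegree χ) ∨ (charDegree ξ).Coprime (charDegree η)) →
    ∃ ξ, IsIrrCharacter G ξ ∧ ¬ N ≤ charKer ξ ∧ ¬ (charDegree ξ).Coprime (charDegree χ₁) ∧
      ¬ (charDegree ξ).Coprime (charDegree χ₂) := by
  induction n using Nat.strong_induction_on with
  | _ n ih =>
  intro N _ _ hn hNG χ₁ χ₂ η h1 h2 h3 k1 k2 k3 H
  obtain ⟨N₀, p, a1, a2, hp, -, a3⟩ := exists_chief hNG (fun e => k1 (e ▸ bot_le))
  have self : ∀ χ, IsIrrCharacter G χ → ¬ N ≤ charKer χ →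
      ¬ (charDegree χ).Coprime (charDegree χ) := fun χ hχ k h =>
    k (hNG.trans ((deg_eq_one_iff_commutator_le hχ).1 ((Nat.coprime_self _).1 h)))
  have side : ∀ χ χ', χ = χ₁ ∨ χ = χ₂ → χ' = χ₁ ∨ χ' = χ₂ → IsIrrCharacter G χ →
      IsIrrCharacter G χ' → ¬ N ≤ charKer χ → ¬ N ≤ charKer χ' → N₀ ≤ charKer χ →
      ∃ ξ, IsIrrCharacter G ξ ∧ ¬ N ≤ charKer ξ ∧ ¬ (charDegree ξ).Coprime (charDegree χ') ∧
        ¬ (charDegree ξ).Coprime (charDegree χ) := fun χ χ' e e' hχ hχ' k k' h => by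
    refine a3 χ' χ hχ' hχ k' k h fun b1 => ?_
    have b2 : p ∣ charDegree η := by
      by_contra b2
      obtain ⟨ξ, c1, c2, c3, c4⟩ := a3 η χ h3 hχ k3 k h b2
      exact (H χ ξ e c1 c2).elim c4 c3
    exact (H χ' η e' h3 k3).elim (ncop hp b2 b1) (self η h3 k3)
  by_cases b1 : N₀ ≤ charKer χ₁
  · obtain ⟨ξ, c1, c2, c3, c4⟩ := side χ₁ χ₂ (.inl rfl) (.inr rfl) h1 h2 k1 k2 b1
    exact ⟨ξ, c1, c2, c4, c3⟩
  by_cases b2 : N₀ ≤ charKer χ₂
  · exact side χ₂ χ₁ (.inr rfl) (.inl rfl) h2 h1 k2 k1 b2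
  by_cases b3 : N₀ ≤ charKer η
  · have : ∀ χ, χ = χ₁ ∨ χ = χ₂ → IsIrrCharacter G χ → ¬ N ≤ charKer χ → p ∣ charDegree χ :=
      fun χ e hχ k => by
        by_contra c0
        obtain ⟨ξ, c1, c2, c3, c4⟩ := a3 χ η hχ h3 k k3 b3 c0
        exact (H χ ξ e c1 c2).elim c3 c4
    exact ⟨χ₁, h1, k1, self χ₁ h1 k1, ncop hp (this _ (.inl rfl) h1 k1) (this _ (.inr rfl) h2 k2)⟩
  have := H1.isSolvable_of_le a2.le
  obtain ⟨ξ, c1, c2, c3⟩ := ih _ (hn ▸ lt_of_le_of_ne (card_le_of_le a2.le) fun e =>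
    a2.ne (eq_of_le_of_card_ge a2.le e.ge)) N₀ rfl (a2.le.trans hNG) χ₁ χ₂ η h1 h2 h3
    b1 b2 b3 fun χ ξ e hξ k => H χ ξ e hξ fun k' => k (a2.le.trans k')
  exact ⟨ξ, c1, fun k => c2 (a2.le.trans k), c3⟩

theorem main [Group.IsSolvable N] (hNG : N ≤ commutator G)
    (hdisc : ¬ (commonDivisorGraph.induce (relCharDegrees N)).Preconnected) :
    ∃ a₀ : ↥(relCharDegrees N), (∀ b c : ↥(relCharDegrees N),
      (commonDivisorGraph.induce (relCharDegrees N)).Reachable a₀ b →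
      (commonDivisorGraph.induce (relCharDegrees N)).Reachable a₀ c → b ≠ c →
      (commonDivisorGraph.induce (relCharDegrees N)).Adj b c) ∧ (∀ b c : ↥(relCharDegrees N),
      ¬ (commonDivisorGraph.induce (relCharDegrees N)).Reachable a₀ b →
      ¬ (commonDivisorGraph.induce (relCharDegrees N)).Reachable a₀ c → b ≠ c →
      (commonDivisorGraph.induce (relCharDegrees N)).Adj b c ∨ ∃ d : ↥(relCharDegrees N),
        (commonDivisorGraph.induce (relCharDegrees N)).Adj b d ∧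
        (commonDivisorGraph.induce (relCharDegrees N)).Adj d c) := by
  have pos : ∀ a : relCharDegrees N, 0 < a.1 := fun a => by
    obtain ⟨χ, hχ, -, e⟩ := mem_rel.1 a.2
    exact e ▸ deg_pos hχ
  obtain ⟨u, v, huv⟩ : ∃ u v, ¬ (commonDivisorGraph.induce (relCharDegrees N)).Reachable u v := by
    by_contra! h
    exact hdisc h
  have hne : N ≠ ⊥ := fun e => by
    obtain ⟨χ, -, h, -⟩ := mem_rel.1 u.2
    exact h (e ▸ bot_le)
  obtain ⟨N₀, p, -, -, hp, ⟨ψ, hψ, a1, a2⟩, a3⟩ := exists_chief hNG hne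
  let s : relCharDegrees N := ⟨_, mem_rel.2 ⟨ψ, hψ, a1, rfl⟩⟩
  obtain ⟨a₀, ha⟩ : ∃ a₀, ¬ (commonDivisorGraph.induce (relCharDegrees N)).Reachable a₀ s := by
    by_contra! h
    exact huv ((h u).trans (h v).symm)
  have a4 : ∀ b, (commonDivisorGraph.induce (relCharDegrees N)).Reachable a₀ b → p ∣ b.1 := by
    rintro ⟨b, hb'⟩ hb
    obtain ⟨χ, hχ, k, rfl⟩ := mem_rel.1 hb'
    by_contra h
    obtain ⟨ξ, c1, c2, c3, c4⟩ := a3 χ ψ hχ hψ k a1 a2 h
    let t : relCharDegrees N := ⟨_, mem_rel.2 ⟨ξ, c1, c2, rfl⟩⟩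
    exact ha ((hb.trans (reach (a := t) (pos t) c3).symm).trans (reach (a := t) (pos t) c4))
  refine ⟨a₀, fun b c hb hc h => (adj_iff (pos b)).2 ⟨h, ncop hp (a4 b hb) (a4 c hc)⟩, ?_⟩
  obtain ⟨a₀, ha'⟩ := a₀
  obtain ⟨η, hη, k3, rfl⟩ := mem_rel.1 ha'
  rintro ⟨b, hb'⟩ ⟨c, hc'⟩ hb hc h
  obtain ⟨χ₁, h1, k1, rfl⟩ := mem_rel.1 hb'
  obtain ⟨χ₂, h2, k2, rfl⟩ := mem_rel.1 hc'
  obtain ⟨ξ, c1, c2, c3, c4⟩ := near _ N rfl hNG χ₁ χ₂ η h1 h2 hη k1 k2 k3 fun χ ξ e hξ k => by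
    by_contra! h'
    let t : relCharDegrees N := ⟨_, mem_rel.2 ⟨ξ, hξ, k, rfl⟩⟩
    have := (reach (a := t) (b := ⟨_, ha'⟩) (pos t) h'.2).symm
    rcases e with rfl | rfl
    · exact hb (this.trans (reach (a := t) (pos t) h'.1))
    · exact hc (this.trans (reach (a := t) (pos t) h'.1))
  let t : relCharDegrees N := ⟨_, mem_rel.2 ⟨ξ, c1, c2, rfl⟩⟩
  by_cases e1 : t = ⟨_, hb'⟩
  · exact Or.inl ((adj_iff (pos _)).2 ⟨h, by rw [← e1]; exact c4⟩)
  by_cases e2 : t = ⟨_, hc'⟩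
  · exact Or.inl ((adj_iff (pos _)).2 ⟨h.symm, by rw [← e2]; exact c3⟩).symm
  exact Or.inr ⟨t, ((adj_iff (pos t)).2 ⟨e1, c3⟩).symm, (adj_iff (pos t)).2 ⟨e2, c4⟩⟩

end Cfsg.Agent.H26.RD
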