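import Cfsg.Agent.H56.SpDefs

/-! Project CY, chapter SP: piece A1. -/

set_option autoImplicit false

namespace Cfsg.Agent.H26.SpA1

open Subgroup MulAction Cfsg.Agent.H11.Cy Cfsg.Agent.H56.Sp
open Cfsg.Agent.H45.Iv (Fx Sub Ms)

variable {G : Type} [Group G] {Ω : Type} [MulAction G Ω] {p : ℕ} {A : Ω → Subgroup G}

theorem par [Finite Ω] {Q : Subgroup G} (hQ : IsPGroup 2 Q) (O : Set Ω)
    (hO : ∀ q ∈ Q, ∀ w ∈ O, q • w ∈ O) (O' : Set Ω)
    (h' : ∀ w, w ∈ O' ↔ w ∈ O ∧ ∀ q ∈ Q, q • w = w) : O.ncard ≡ O'.ncard [MOD 2] := by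
  haveI : Fact (Nat.Prime 2) := ⟨Nat.prime_two⟩
  let M : SubMulAction Q Ω := ⟨O, fun c x hx => hO c c.2 x hx⟩
  have h := hQ.card_modEq_card_fixedPoints M
  have e1 : Nat.card M = O.ncard := Nat.card_coe_set_eq O
  have e2 : Nat.card (fixedPoints Q M) = O'.ncard := by
    rw [← Nat.card_coe_set_eq]
    refine Nat.card_congr ⟨fun w => ⟨w.1.1, (h' _).2 ⟨w.1.2, fun q hq =>
      congrArg Subtype.val (w.2 ⟨q, hq⟩)⟩⟩, fun w => ⟨⟨w.1, ((h' _).1 w.2).1⟩, fun q =>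
      Subtype.ext (((h' _).1 w.2).2 q q.2)⟩, fun _ => rfl, fun _ => rfl⟩
  rwa [e1, e2] at h

theorem syl [Finite G] {K T S : Subgroup G} (hT : IsPGroup 2 T) (TK : T ≤ K)
    (mx : ∀ Q : Subgroup G, IsPGroup 2 Q → T ≤ Q → Q ≤ K → Q ≤ T) (hS : IsPGroup 2 S)
    (SK : S ≤ K) : ∃ k ∈ K, ∀ s ∈ S, k * s * k⁻¹ ∈ T := by
  haveI : Fact (Nat.Prime 2) := ⟨Nat.prime_two⟩
  obtain ⟨R, hR⟩ := (hS.comap_subtype (K := K)).exists_le_sylow
  obtain ⟨R', hR'⟩ := (hT.comap_subtype (K := K)).exists_le_sylow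
  obtain ⟨k, hk⟩ := exists_smul_eq K R R'
  have le := mx ((R' : Subgroup K).map K.subtype) (R'.isPGroup'.map _)
    (fun t ht => ⟨⟨t, TK ht⟩, hR' ht, rfl⟩) (map_subtype_le _)
  refine ⟨k, k.2, fun s hs => le ⟨k * ⟨s, SK hs⟩ * k⁻¹, ?_, rfl⟩⟩
  rw [← hk]
  exact ⟨⟨s, SK hs⟩, hR hs, rfl⟩

theorem grow [Finite G] {S Q : Subgroup G} (hQ : IsPGroup 2 Q) (le : S ≤ Q) (h : ¬ Q ≤ S) :
    ∃ q ∈ Q, q ∈ normalizer (S : Set G) ∧ q ∉ S := by
  haveI : Fact (Nat.Prime 2) := ⟨Nat.prime_two⟩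
  haveI := hQ.isNilpotent
  have lt : S.subgroupOf Q < ⊤ := lt_top_iff_ne_top.2 fun e => h (subgroupOf_eq_top.1 e)
  obtain ⟨q, q1, q2⟩ := SetLike.exists_of_lt (normalizerCondition_of_isNilpotent _ lt)
  refine ⟨q, q.2, mem_normalizer_fintype fun s hs => ?_, q2⟩
  exact (mem_normalizer_iff.1 q1 ⟨s, le hs⟩).1 hs

theorem cjF (h : St p A) (g : G) (x y : Ω) {f : G} (hf : f ∈ Fl A x y) :
    g * f * g⁻¹ ∈ Fl A (g • x) (g • y) := by
  have : Fl A x y ≤ (Fl A (g • x) (g • y)).comap (MulAut.conj g).toMonoidHom :=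
    sup_le (fun a ha => mem_sup_left (h.eqv g x a ha)) fun a ha => mem_sup_right (h.eqv g y a ha)
  exact this hf

theorem zp2 {z : G} (hz : z * z = 1) : IsPGroup 2 (zpowers z) := by
  rintro ⟨_, n, rfl⟩
  refine ⟨1, Subtype.ext ?_⟩
  change (z ^ n) ^ (2 ^ 1) = 1
  rw [pow_one, ← zpow_natCast, ← zpow_mul, mul_comm, zpow_mul, zpow_natCast, sq, hz, one_zpow]

/-- the pairs among which a maximal one is chosen -/
def PP (A : Ω → Subgroup G) (S : Subgroup G) : Prop := ∃ x y, x ≠ y ∧ IsPGroup 2 S ∧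
  (∃ z, IsZ A x y z ∧ z ∈ S) ∧ S ≤ Kl A x y ∧ ∃ w, w ∉ Ln A x y ∧ ∀ s ∈ S, s • w = w

theorem a1 : A1Stmt := by
  intro G _ _ Ω _ _ p A h p2 ep lf hf
  haveI : Fact (Nat.Prime 2) := ⟨Nat.prime_two⟩
  have ne : {S | PP A S}.Nonempty := by
    unfold Fz at hf
    push Not at hf
    obtain ⟨x, y, hxy, z, hz, e⟩ := hf
    have zK := (lf x y hxy).cen z hz
    refine ⟨zpowers z, x, y, hxy, zp2 hz.2.2, ⟨z, hz, mem_zpowers z⟩, zpowers_le.2 zK, ?_⟩
    by_contra hn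
    push Not at hn
    refine e (Set.Subset.antisymm (fun w hw => ?_) fun w hw => (ep.kfix x y hxy z).1 zK w hw)
    by_contra hw'
    obtain ⟨s, hs, e'⟩ := hn w hw'
    exact e' ((zpowers_le (H := stabilizer G w)).2 hw hs)
  obtain ⟨S, ⟨x, y, hxy, s2, ⟨z0, hz0, z0S⟩, SK, w0, w0l, w0f⟩, mx⟩ :=
    Set.exists_max_image _ (fun S : Subgroup G => Nat.card S) (Set.toFinite _) ne
  obtain ⟨Φ, hΦ⟩ : ∃ Φ : Set Ω, ∀ w, w ∈ Φ ↔ ∀ s ∈ S, s • w = w := ⟨{w | _}, fun _ => Iff.rfl⟩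
  have lΦ : Ln A x y ⊆ Φ := fun w hw => (hΦ w).2 fun s hs => (ep.kfix x y hxy s).1 (SK hs) w hw
  have xΦ := lΦ (lf x y hxy).mem.1
  have yΦ := lΦ (lf x y hxy).mem.2
  have cA : ∀ w ∈ Φ, ∀ s ∈ S, s ∈ centralizer (A w : Set G) := by
    intro w hw s hs
    have cx : s ∈ centralizer (A x : Set G) := fun a ha => SK hs a (mem_sup_left ha)
    by_cases e : x = w
    · exact e ▸ cx
    · exact fun a ha => ep.eps x w e s ⟨(hΦ x).1 xΦ s hs, (hΦ w).1 hw s hs⟩ cx a (mem_sup_right ha)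
  have SK' : ∀ a ∈ Φ, ∀ b ∈ Φ, a ≠ b → S ≤ Kl A a b := fun a ha b hb e s hs =>
    ep.eps a b e s ⟨(hΦ a).1 ha s hs, (hΦ b).1 hb s hs⟩ (cA a ha s hs)
  have sub : Sub A Φ := fun a ha b hb e w hw => (hΦ w).2 fun s hs =>
    (ep.kfix a b e s).1 (SK' a ha b hb e hs) w hw
  have FN : ∀ a ∈ Φ, ∀ b ∈ Φ, a ≠ b → Fl A a b ≤ normalizer (S : Set G) := fun a ha b hb e f hf =>
    centralizer_le_normalizer _ fun s hs => (SK' a ha b hb e hs f hf).symm
  have NΦ : ∀ n ∈ normalizer (S : Set G), ∀ w ∈ Φ, n • w ∈ Φ := fun n hn w hw => (hΦ _).2 fun s hs => by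
    have := (hΦ w).1 hw _ ((mem_normalizer_iff.1 (inv_mem hn) s).1 hs)
    rw [inv_inv, mul_smul, mul_smul, inv_smul_eq_iff] at this
    exact this
  have tr : Tr2 (normalizer (S : Set G)) Φ := by
    by_cases c : ∀ a ∈ Φ, ∀ b ∈ Φ, a ≠ b → ∃ Q : Subgroup G, IsPGroup 2 Q ∧ S ≤ Q ∧ Q ≤ Kl A a b ∧
        ¬ Q ≤ S
    · have c1 : ∀ a ∈ Φ, ∀ b ∈ Φ, a ≠ b → ∃ Q : Subgroup G, IsPGroup 2 Q ∧
          Q ≤ normalizer (S : Set G) ∧ ∀ w, w ∈ Ln A a b ↔ ∀ q ∈ Q, q • w = w := by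
        intro a ha b hb e
        obtain ⟨Q, q2, q1, qK, qn⟩ := c a ha b hb e
        obtain ⟨q, qQ, qN, qS⟩ := grow q2 q1 qn
        obtain ⟨z, hz⟩ := (lf a b e).ex
        have zK := (lf a b e).cen z hz
        have r2 : IsPGroup 2 (zpowers z ⊔ (Q ⊓ normalizer (S : Set G)) : Subgroup G) :=
          IsPGroup.to_sup_of_normal_left' (zp2 hz.2.2) q2.to_inf_left fun g hg =>
            centralizer_le_normalizer _ fun s hs => by
              obtain ⟨n, rfl⟩ := hs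
              exact (Commute.zpow_left (qK hg.1 z hz.1) n).eq
        have rK : zpowers z ⊔ (Q ⊓ normalizer (S : Set G)) ≤ Kl A a b :=
          sup_le (zpowers_le.2 zK) (inf_le_left.trans qK)
        refine ⟨_, r2, sup_le (zpowers_le.2 (FN a ha b hb e hz.1)) inf_le_right, fun w =>
          ⟨fun hw g hg => (ep.kfix a b e g).1 (rK hg) w hw, fun hw => ?_⟩⟩
        by_contra hw'
        have le := mx _ ⟨a, b, e, r2, ⟨z, hz, mem_sup_left (mem_zpowers z)⟩, rK, w, hw', hw⟩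
        have le' : S ≤ zpowers z ⊔ (Q ⊓ normalizer (S : Set G)) :=
          le_sup_of_le_right (le_inf q1 le_normalizer)
        have := eq_of_le_of_card_ge le' le
        exact qS (this ▸ mem_sup_right ⟨qQ, qN⟩)
      have c2 : ∀ a ∈ Φ, ∀ b ∈ Φ, ∀ b' ∈ Φ, a ≠ b → a ≠ b' →
          ∃ n ∈ normalizer (S : Set G), n • a = a ∧ n • b = b' := by
        intro a ha b hb b' hb' e e'
        by_contra hn
        obtain ⟨O, hO⟩ : ∃ O : Set Ω, ∀ w, w ∈ O ↔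
            ∃ n ∈ normalizer (S : Set G), n • a = a ∧ n • b = w := ⟨{w | _}, fun _ => Iff.rfl⟩
        have Oa : ∀ w ∈ O, a ≠ w := by
          intro w hw e1
          obtain ⟨n, -, n1, n2⟩ := (hO w).1 hw
          exact e (smul_left_cancel n (n1.trans (e1.trans n2.symm)))
        have inv : ∀ q ∈ normalizer (S : Set G), q • a = a → ∀ w ∈ O, q • w ∈ O := by
          intro q hq qa w hw
          obtain ⟨n, n0, n1, n2⟩ := (hO w).1 hw
          exact (hO _).2 ⟨q * n, mul_mem hq n0, by rw [mul_smul, n1, qa], by rw [mul_smul, n2]⟩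
        obtain ⟨Q, q2, qN, qf⟩ := c1 a ha b hb e
        obtain ⟨Q', q2', qN', qf'⟩ := c1 a ha b' hb' e'
        have m1 := par q2 O (fun q hq => inv q (qN hq) ((qf a).1 (lf a b e).mem.1 q hq))
          (Ln A a b \ {a}) fun w => ⟨fun hw => ⟨by
            obtain ⟨f, f0, f1, f2⟩ := (lf a b e).tr a (lf a b e).mem.1 b (lf a b e).mem.2 a
              (lf a b e).mem.1 w hw.1 e (fun e1 => hw.2 e1.symm)
            exact (hO w).2 ⟨f, FN a ha b hb e f0, f1, f2⟩, (qf w).1 hw.1⟩,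
            fun hw => ⟨(qf w).2 hw.2, fun e1 => Oa w hw.1 (Eq.symm e1)⟩⟩
        have m2 := par q2' O (fun q hq => inv q (qN' hq) ((qf' a).1 (lf a b' e').mem.1 q hq))
          ∅ fun w => ⟨fun hw => hw.elim, fun hw => by
            obtain ⟨f, f0, f1, f2⟩ := (lf a b' e').tr a (lf a b' e').mem.1 w ((qf' w).2 hw.2) a
              (lf a b' e').mem.1 b' (lf a b' e').mem.2 (Oa w hw.1) e'
            exact hn ((hO b').1 (f2 ▸ inv f (FN a ha b' hb' e' f0) f1 w hw.1))⟩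
        rw [Set.ncard_diff_singleton_of_mem (lf a b e).mem.1, (lf a b e).ln] at m1
        rw [Set.ncard_empty] at m2
        have := h.pp.eq_two_or_odd
        unfold Nat.ModEq at m1 m2
        omega
      intro a ha b hb a' ha' b' hb' e e'
      obtain ⟨f, f0, f1⟩ : ∃ f ∈ normalizer (S : Set G), f • a = a' := by
        by_cases e1 : a = a'
        · exact ⟨1, one_mem _, by rw [one_smul, e1]⟩
        · obtain ⟨f, f0, f1, -⟩ := (lf a a' e1).tr a (lf a a' e1).mem.1 a' (lf a a' e1).mem.2 a'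
            (lf a a' e1).mem.2 a (lf a a' e1).mem.1 e1 (Ne.symm e1)
          exact ⟨f, FN a ha a' ha' e1 f0, f1⟩
      obtain ⟨n, n0, n1, n2⟩ := c2 a' ha' (f • b) (NΦ f f0 b hb) b' hb'
        (fun e1 => e (smul_left_cancel f (f1.trans e1))) e'
      exact ⟨n * f, mul_mem n0 f0, by rw [mul_smul, f1, n1], by rw [mul_smul, n2]⟩
    · push Not at c
      obtain ⟨a, ha, b, hb, e, c⟩ := c
      have c1 : ∀ a' ∈ Φ, ∀ b' ∈ Φ, a' ≠ b' →
          ∃ n ∈ normalizer (S : Set G), n • a' = a ∧ n • b' = b := by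
        intro a' ha' b' hb' e'
        obtain ⟨g, -, g1, g2⟩ := h.two a' trivial b' trivial a trivial b trivial e' e
        obtain ⟨k, hk, k1⟩ := syl s2 (SK' a ha b hb e) c (s2.map (MulAut.conj g).toMonoidHom) (by
          rintro _ ⟨s, hs, rfl⟩ f hf
          have h1 := cjF h g⁻¹ a b hf
          rw [← g1, ← g2, inv_smul_smul, inv_smul_smul] at h1
          have h2 := SK' a' ha' b' hb' e' hs _ h1
          change f * (g * s * g⁻¹) = g * s * g⁻¹ * f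
          calc f * (g * s * g⁻¹) = g * (g⁻¹ * f * g⁻¹⁻¹ * s) * g⁻¹ := by group
            _ = _ := by rw [h2]; group)
        have kf := (ep.kfix a b e k).1 hk
        refine ⟨k * g, mem_normalizer_fintype fun s hs => ?_,
          by rw [mul_smul, g1, kf a (lf a b e).mem.1], by rw [mul_smul, g2, kf b (lf a b e).mem.2]⟩
        have := k1 _ ⟨s, hs, rfl⟩
        simpa [mul_assoc] using this
      intro u hu v hv u' hu' v' hv' e1 e2
      obtain ⟨n, n0, n1, n2⟩ := c1 u hu v hv e1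
      obtain ⟨m, m0, m1, m2⟩ := c1 u' hu' v' hv' e2
      exact ⟨m⁻¹ * n, mul_mem (inv_mem m0) n0, by rw [mul_smul, n1, ← m1, inv_smul_smul],
        by rw [mul_smul, n2, ← m2, inv_smul_smul]⟩
  refine ⟨S, Φ, s2, fun e => hz0.2.1 (mem_bot.1 (e ▸ z0S)), hΦ, sub, ⟨x, xΦ, y, yΦ, hxy⟩,
    fun a ha b hb e e1 => ?_, fun w hw a ha s hs => (cA w hw s hs a ha).symm, tr,
    fun a ha b hb e z hz => ?_⟩
  · have := Set.eq_of_subset_of_ncard_le lΦ (by rw [← e1, (lf a b e).ln, (lf x y hxy).ln])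
    exact w0l (this ▸ (hΦ w0).2 w0f)
  · obtain ⟨n, n0, n1, n2⟩ := tr x xΦ y yΦ a ha b hb hxy e
    have f1 := cjF h n x y hz0.1
    rw [n1, n2] at f1
    rw [(lf a b e).uq z (n * z0 * n⁻¹) hz ⟨f1, fun e1 => hz0.2.1 (conj_eq_one_iff.1 e1), by
      rw [conj_mul, hz0.2.2, mul_one, mul_inv_cancel]⟩]
    exact (mem_normalizer_iff.1 n0 z0).1 z0S

end Cfsg.Agent.H26.SpA1
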