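import Cfsg.Agent.H26.SpA1
import Cfsg.Agent.H16.IvSk

/-! Project CY, chapter SP: piece L2T. -/

set_option autoImplicit false

namespace Cfsg.Agent.H26.SpL2t

open Subgroup MulAction Cfsg.Agent.H11.Cy Cfsg.Agent.H56.Sp Cfsg.Agent.H26.SpA1
open Cfsg.Agent.H45.Iv (Fx Sub Ms)

theorem l2t : L2tStmt := by
  intro G _ _ Ω _ _ p A h hy Φ sub
  have lf := hy.lf
  have p2 := hy.mc.p2
  have k := H16.IvSk.sk G Ω p A h hy.mc.ep
  have FN : ∀ a ∈ Φ, ∀ b ∈ Φ, Fl A a b ≤ Ms A Φ := fun a ha b hb => (k.fle Φ a ha b hb).1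
  have c1 : ∀ a ∈ Φ, ∀ b ∈ Φ, a ≠ b → ∃ Q : Subgroup G, IsPGroup 2 Q ∧
      Q ≤ Ms A Φ ∧ ∀ w, w ∈ Ln A a b ↔ ∀ q ∈ Q, q • w = w := by
    intro a ha b hb e
    obtain ⟨z, hz⟩ := (lf a b e).ex
    refine ⟨zpowers z, zp2 hz.2.2, zpowers_le.2 (FN a ha b hb hz.1), fun w => ?_⟩
    rw [← hy.fz a b e z hz]
    exact ⟨fun hw q hq => (zpowers_le (H := stabilizer G w)).2 hw hq, fun hw => hw z (mem_zpowers z)⟩
  have c2 : ∀ a ∈ Φ, ∀ b ∈ Φ, ∀ b' ∈ Φ, a ≠ b → a ≠ b' →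
      ∃ n ∈ Ms A Φ, n • a = a ∧ n • b = b' := by
    intro a ha b hb b' hb' e e'
    by_contra hn
    obtain ⟨O, hO⟩ : ∃ O : Set Ω, ∀ w, w ∈ O ↔
        ∃ n ∈ Ms A Φ, n • a = a ∧ n • b = w := ⟨{w | _}, fun _ => Iff.rfl⟩
    have Oa : ∀ w ∈ O, a ≠ w := by
      intro w hw e1
      obtain ⟨n, -, n1, n2⟩ := (hO w).1 hw
      exact e (smul_left_cancel n (n1.trans (e1.trans n2.symm)))
    have inv : ∀ q ∈ Ms A Φ, q • a = a → ∀ w ∈ O, q • w ∈ O := by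
      intro q hq qa w hw
      obtain ⟨n, n0, n1, n2⟩ := (hO w).1 hw
      exact (hO _).2 ⟨q * n, mul_mem hq n0, by rw [mul_smul, n1, qa], by rw [mul_smul, n2]⟩
    obtain ⟨Q, q2, qN, qf⟩ := c1 a ha b hb e
    obtain ⟨Q', q2', qN', qf'⟩ := c1 a ha b' hb' e'
    have m1 := par q2 O (fun q hq => inv q (qN hq) ((qf a).1 (lf a b e).mem.1 q hq))
      (Ln A a b \ {a}) fun w => ⟨fun hw => ⟨by
        obtain ⟨f, f0, f1, f2⟩ := (lf a b e).tr a (lf a b e).mem.1 b (lf a b e).mem.2 a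
          (lf a b e).mem.1 w hw.1 e (fun e1 => hw.2 e1.symm)
        exact (hO w).2 ⟨f, FN a ha b hb f0, f1, f2⟩, (qf w).1 hw.1⟩,
        fun hw => ⟨(qf w).2 hw.2, fun e1 => Oa w hw.1 (Eq.symm e1)⟩⟩
    have m2 := par q2' O (fun q hq => inv q (qN' hq) ((qf' a).1 (lf a b' e').mem.1 q hq))
      ∅ fun w => ⟨fun hw => hw.elim, fun hw => by
        obtain ⟨f, f0, f1, f2⟩ := (lf a b' e').tr a (lf a b' e').mem.1 w ((qf' w).2 hw.2) a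
          (lf a b' e').mem.1 b' (lf a b' e').mem.2 (Oa w hw.1) e'
        exact hn ((hO b').1 (f2 ▸ inv f (FN a ha b' hb' f0) f1 w hw.1))⟩
    rw [Set.ncard_sdiff_singleton_of_mem (lf a b e).mem.1, (lf a b e).ln] at m1
    rw [Set.ncard_empty] at m2
    have := h.pp.eq_two_or_odd
    unfold Nat.ModEq at m1 m2
    omega
  intro a ha b hb a' ha' b' hb' e e'
  obtain ⟨f, f0, f1⟩ : ∃ f ∈ Ms A Φ, f • a = a' := by
    by_cases e1 : a = a'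
    · exact ⟨1, one_mem _, by rw [one_smul, e1]⟩
    · obtain ⟨f, f0, f1, -⟩ := (lf a a' e1).tr a (lf a a' e1).mem.1 a' (lf a a' e1).mem.2 a'
        (lf a a' e1).mem.2 a (lf a a' e1).mem.1 e1 (Ne.symm e1)
      exact ⟨f, FN a ha a' ha' f0, f1⟩
  obtain ⟨n, n0, n1, n2⟩ := c2 a' ha' (f • b) (k.inv Φ sub f f0 b hb) b' hb'
    (fun e1 => e (smul_left_cancel f (f1.trans e1))) e'
  exact ⟨n * f, mul_mem n0 f0, by rw [mul_smul, f1, n1], by rw [mul_smul, n2]⟩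

end Cfsg.Agent.H26.SpL2t
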