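import Cfsg.Agent.H27.AltWitt

/-!
# Subgroups of `Sp(V)` in characteristic two containing a complement to the transvections in the
unipotent radical of a point stabiliser, I
-/

set_option autoImplicit false

namespace Cfsg.Agent.H26

open H27 Module

variable {F V : Type*} [Field F] [AddCommGroup V] [Module F V]

/-- The standing assumptions. -/
structure SpX (B : LinearMap.BilinForm F V) (L : Subgroup (V ≃ₗ[F] V)) : Prop where
  two : (2 : F) = 0
  alt : B.IsAlt
  nd : B.Nondegenerate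
  le : L ≤ isomGroup B

/-- `L` contains the element with parameters `u`, `κ` of the unipotent radical at `a`. -/
def SHas (B : LinearMap.BilinForm F V) (L : Subgroup (V ≃ₗ[F] V)) (a u : V) (κ : F) : Prop :=
  ∃ g ∈ L, ∀ x, g x = x + B x a • u + (B x u + κ * B x a) • a

/-- `L` covers the unipotent radical at `a` modulo the transvections. -/
def SFull (B : LinearMap.BilinForm F V) (L : Subgroup (V ≃ₗ[F] V)) (a : V) : Prop :=
  ∀ u, B u a = 0 → ∃ κ, SHas B L a u κ

/-- `v` spans a point in the orbit of the point spanned by `a`. -/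
def SOrb (L : Subgroup (V ≃ₗ[F] V)) (a v : V) : Prop :=
  ∃ g ∈ L, ∃ t : F, t ≠ 0 ∧ v = t • g a

variable {B : LinearMap.BilinForm F V} {L : Subgroup (V ≃ₗ[F] V)}

theorem SOrb.refl (a : V) : SOrb L a a := ⟨1, L.one_mem, 1, one_ne_zero, by simp⟩

theorem SOrb.map {a v : V} (h : SOrb L a v) {g : V ≃ₗ[F] V} (hg : g ∈ L) : SOrb L a (g v) := by
  obtain ⟨k, hk, t, ht, rfl⟩ := h
  exact ⟨g * k, L.mul_mem hg hk, t, ht, by simp⟩

theorem SOrb.smul {a v : V} (h : SOrb L a v) {t : F} (ht : t ≠ 0) : SOrb L a (t • v) := by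
  obtain ⟨k, hk, s, hs, rfl⟩ := h
  exact ⟨k, hk, t * s, mul_ne_zero ht hs, by rw [smul_smul]⟩

theorem SOrb.of_smul {a v : V} {t : F} (ht : t ≠ 0) (h : SOrb L a (t • v)) : SOrb L a v := by
  simpa [smul_smul, ht] using h.smul (inv_ne_zero ht)

theorem SOrb.ne_zero {a v : V} (h : SOrb L a v) (ha : a ≠ 0) : v ≠ 0 := by
  obtain ⟨k, -, s, hs, rfl⟩ := h
  simp [hs, ha]

theorem SOrb.symm {a v : V} (h : SOrb L a v) : SOrb L v a := by
  obtain ⟨k, hk, s, hs, rfl⟩ := h
  exact ⟨k⁻¹, L.inv_mem hk, s⁻¹, inv_ne_zero hs, by simp [smul_smul, hs]⟩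

theorem SOrb.trans {a v w : V} (h : SOrb L a v) (h' : SOrb L v w) : SOrb L a w := by
  obtain ⟨k, hk, s, hs, rfl⟩ := h'
  exact (h.map hk).smul hs

theorem SHas.zero (a : V) : SHas B L a 0 0 := ⟨1, L.one_mem, fun x => by simp⟩

theorem SHas.of_eq {a u u' : V} {κ κ' : F} (h : SHas B L a u κ) (hu : u = u') (hκ : κ = κ') :
    SHas B L a u' κ' := hu ▸ hκ ▸ h

theorem SHas.smul_iff {a u : V} {κ t : F} :
    SHas B L (t • a) u κ ↔ SHas B L a (t • u) (t ^ 2 * κ) := by
  refine exists_congr fun g => and_congr_right fun _ => forall_congr' fun x => Eq.congr_right ?_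
  simp only [map_smul, smul_eq_mul]
  module

theorem SHas.swap {a u : V} (h : SHas B L a u 0) : SHas B L u a 0 := by
  obtain ⟨g, hg, e⟩ := h
  refine ⟨g, hg, fun x => ?_⟩
  rw [e]
  module

namespace SpX

variable (h : SpX B L)
include h

theorem sym (x y : V) : B x y = B y x := by
  have := h.alt.neg_eq x y
  linear_combination -this - B y x * h.two

theorem self (x : V) : B x x = 0 := h.alt x

theorem add_self (x : V) : x + x = 0 := by rw [← two_smul F x, h.two, zero_smul]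

theorem mul {a u u' : V} {κ κ' : F} (ha : B u a = 0) (ha' : B u' a = 0) (k : SHas B L a u κ)
    (k' : SHas B L a u' κ') : SHas B L a (u + u') (κ + κ' + B u u') := by
  obtain ⟨g, hg, e⟩ := k
  obtain ⟨g', hg', e'⟩ := k'
  refine ⟨g * g', L.mul_mem hg hg', fun x => ?_⟩
  have := h.two
  rw [LinearEquiv.mul_apply, e, e']
  simp only [map_add, map_smul, LinearMap.add_apply, LinearMap.smul_apply, smul_eq_mul, h.self,
    ha', h.sym a u, ha, h.sym u' u]
  match_scalars <;> grind

theorem diff {a u : V} {κ κ' : F} (ha : B u a = 0) (k : SHas B L a u κ) (k' : SHas B L a u κ') :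
    SHas B L a 0 (κ + κ') :=
  (h.mul ha ha k k').of_eq (h.add_self u) (by rw [h.self, add_zero])

theorem conj {a u : V} {κ : F} (k : SHas B L a u κ) {g : V ≃ₗ[F] V} (hg : g ∈ L) :
    SHas B L (g a) (g u) κ := by
  obtain ⟨g', hg', e⟩ := k
  refine ⟨g * g' * g⁻¹, L.mul_mem (L.mul_mem hg hg') (L.inv_mem hg), fun x => ?_⟩
  obtain ⟨y, rfl⟩ := g.surjective x
  have : g⁻¹ (g y) = y := g.symm_apply_apply y
  rw [LinearEquiv.mul_apply, LinearEquiv.mul_apply, this, e, h.le hg, h.le hg]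
  simp

theorem shift {a u : V} {κ : F} (k : SHas B L a u κ) (μ : F) : SHas B L a (u + μ • a) κ := by
  obtain ⟨g, hg, e⟩ := k
  refine ⟨g, hg, fun x => ?_⟩
  have := h.two
  rw [e]
  simp only [map_add, map_smul, smul_eq_mul]
  match_scalars <;> grind

theorem full {a v : V} (ha : SFull B L a) (hv : SOrb L a v) : SFull B L v := by
  obtain ⟨g, hg, t, ht, rfl⟩ := hv
  intro u hu
  obtain ⟨u, rfl⟩ := g.surjective u
  rw [map_smul, h.le hg, smul_eq_mul, mul_eq_zero, or_iff_right ht] at hu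
  obtain ⟨κ, hκ⟩ := ha (t • u) (by simp [hu])
  refine ⟨(t ^ 2)⁻¹ * κ, SHas.smul_iff.2 ((h.conj hκ hg).of_eq (map_smul _ _ _) ?_)⟩
  rw [mul_inv_cancel_left₀ (pow_ne_zero 2 ht)]

theorem tf {a v : V} (ha : ∀ τ, SHas B L a 0 τ) (hv : SOrb L a v) (τ : F) : SHas B L v 0 τ := by
  obtain ⟨g, hg, t, ht, rfl⟩ := hv
  exact SHas.smul_iff.2 ((h.conj (ha _) hg).of_eq (by simp) rfl)

variable [FiniteDimensional F V]

theorem exists_val {a u : V} (hu : u ∉ F ∙ a) (ε : F) : ∃ v, B v a = 0 ∧ B u v = ε := by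
  obtain ⟨w, hw, hne⟩ := exists_orth_ne_zero h.nd h.alt.isRefl (F ∙ a) hu
  refine ⟨(ε / B u w) • w, ?_, ?_⟩
  · have : B a w = 0 := hw a (Submodule.mem_span_singleton_self a)
    simp [h.sym w a, this]
  · simp [hne]

omit [FiniteDimensional F V] in
theorem exists_one {a : V} (ha : a ≠ 0) : ∃ b, B b a = 1 := by
  obtain ⟨w, hw⟩ : ∃ w, B w a ≠ 0 := by
    by_contra hc
    push Not at hc
    exact ha (h.nd.2 a hc)
  exact ⟨(B w a)⁻¹ • w, by simp [hw]⟩

/-- The commutator lemma. -/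
theorem key {a u : V} {ν κ : F} (ha : SFull B L a) (hua : B u a = 0) (hu : u ∉ F ∙ a)
    (k : SHas B L u (ν • a) κ) (ε : F) : SHas B L a ((ε * κ) • u) (ε ^ 2 * κ) := by
  obtain ⟨v, hv, hε⟩ := h.exists_val hu ε
  obtain ⟨c, g, hg, e⟩ := ha v hv
  have e1 : g a = a := by simp [e, h.self, h.sym a v, hv]
  have e2 : g u = u + ε • a := by simp [e, hua, hε]
  have k2 := h.conj k hg
  rw [map_smul, e1, e2] at k2
  obtain ⟨g₁, hg₁, e₁⟩ := k
  obtain ⟨g₂, hg₂, e₂⟩ := k2
  refine ⟨g₁ * g₂, L.mul_mem hg₁ hg₂, fun x => ?_⟩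
  have := h.two
  rw [LinearEquiv.mul_apply, e₁, e₂]
  simp only [map_add, map_smul, LinearMap.add_apply, LinearMap.smul_apply, smul_eq_mul, h.self,
    h.sym a u, hua]
  match_scalars <;> grind

variable [Finite F]

omit [FiniteDimensional F V] in
theorem exists_sq (τ : F) : ∃ μ : F, μ ^ 2 = τ := by
  have hinj : Function.Injective fun μ : F => μ ^ 2 := fun x y hxy => by
    have : (x - y) ^ 2 = 0 := by
      have := h.two
      simp only at hxy
      grind
    exact sub_eq_zero.1 (pow_eq_zero_iff two_ne_zero |>.1 this)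
  exact Finite.injective_iff_surjective.1 hinj τ

theorem dich {a u : V} {ν₁ ν₂ κ₁ κ₂ : F} (ha : SFull B L a) (hT : ¬ ∀ τ, SHas B L a 0 τ)
    (hua : B u a = 0) (hu : u ∉ F ∙ a) (k₁ : SHas B L u (ν₁ • a) κ₁) (k₂ : SHas B L u (ν₂ • a) κ₂)
    (h₁ : κ₁ ≠ 0) (h₂ : κ₂ ≠ 0) : κ₁ = κ₂ := by
  by_contra hne
  refine hT fun τ => ?_
  have hs : κ₁ + κ₂ ≠ 0 := fun hs => hne (by linear_combination hs - κ₂ * h.two)
  obtain ⟨μ, hμ⟩ := h.exists_sq (τ * (κ₁ * κ₂) / (κ₁ + κ₂))
  have e₁ := h.key ha hua hu k₁ (μ / κ₁)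
  have e₂ := h.key ha hua hu k₂ (μ / κ₂)
  rw [div_mul_cancel₀ _ h₁] at e₁
  rw [div_mul_cancel₀ _ h₂] at e₂
  refine (h.diff (by simp [hua]) e₁ e₂).of_eq rfl ?_
  rw [div_pow, div_pow, hμ]
  field_simp
  ring

theorem f2 {a u : V} {ν κ : F} (ha0 : a ≠ 0) (ha : SFull B L a) (hT : ¬ ∀ τ, SHas B L a 0 τ)
    (hu : SOrb L a u) (hua : B u a = 0) (hu' : u ∉ F ∙ a) (k : SHas B L u (ν • a) κ) (hκ : κ ≠ 0)
    (t : F) (ht : t ≠ 0) : t = 1 := by
  have ha' : a ∉ F ∙ u := fun hm => by
    obtain ⟨c, rfl⟩ := Submodule.mem_span_singleton.1 hm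
    have hc : c ≠ 0 := fun hc => ha0 (by simp [hc])
    exact hu' (Submodule.mem_span_singleton.2 ⟨c⁻¹, by simp [smul_smul, hc]⟩)
  have := h.dich (h.full ha hu) (fun hT' => hT (h.tf hT' hu.symm)) (by rw [h.sym, hua]) ha'
    (h.key ha hua hu' k t) (h.key ha hua hu' k 1) (by simp [ht, hκ]) (by simp [hκ])
  have h1 : t ^ 2 = 1 ^ 2 := mul_right_cancel₀ hκ this
  have : (t - 1) ^ 2 = 0 := by linear_combination h1 + (1 - t) * h.two
  exact sub_eq_zero.1 (pow_eq_zero_iff two_ne_zero |>.1 this)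

omit [Finite F] in
/-- A non-zero vector `w` orthogonal to the hyperbolic pair lies in the orbit as soon as `b + w`
does. -/
theorem orb_of_add {a b w : V} (ha : SFull B L a) (hb : SOrb L a b) (hab : B b a = 1)
    (hwa : B w a = 0) (hwb : B w b = 0) (hw : w ≠ 0) (hbw : SOrb L a (b + w)) : SOrb L a w := by
  have hw' : w ∉ F ∙ b := fun hm => by
    obtain ⟨c, rfl⟩ := Submodule.mem_span_singleton.1 hm
    simp [hab] at hwa
    exact hw (by simp [hwa])
  obtain ⟨v, hv, h1⟩ := h.exists_val hw' 1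
  obtain ⟨c, g, hg, e⟩ := h.full ha hb v hv
  have : g (b + w) = w := by
    rw [e]
    simp only [map_add, LinearMap.add_apply, h.self, hwb, h.sym b v, hv, h1]
    have := h.two
    match_scalars <;> grind
  exact this ▸ hbw.map hg

omit [Finite F] in
theorem orb_star {a b w : V} {κ : F} (ha : SFull B L a) (hb : SOrb L a b) (hab : B b a = 1)
    (hwa : B w a = 0) (hwb : B w b = 0) (hw : w ≠ 0) (k : SHas B L a w κ)
    (hκ : SOrb L a (b + κ • a)) : SOrb L a w := by
  refine h.orb_of_add ha hb hab hwa hwb hw ?_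
  obtain ⟨g, hg, e⟩ := k
  have : g (b + κ • a) = b + w := by
    rw [e]
    simp only [map_add, map_smul, LinearMap.add_apply, LinearMap.smul_apply, smul_eq_mul, h.self,
      hab, h.sym b w, hwb, h.sym a w, hwa]
    have := h.two
    match_scalars <;> grind
  exact this ▸ hκ.map hg

/-- If the orbit meets the hyperbolic line in a third point, it contains all points orthogonal to
the line. -/
theorem orb_perp {a b w : V} {l : F} (ha : SFull B L a) (hb : SOrb L a b) (hab : B b a = 1)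
    (hl : l ≠ 0) (hlo : SOrb L a (b + l • a)) (hwa : B w a = 0) (hwb : B w b = 0) (hw : w ≠ 0) :
    SOrb L a w := by
  choose φ hφ using fun μ : F => ha (μ • w) (by simp [hwa])
  have main : ∀ (μ : F) (κ : F), μ ≠ 0 → SHas B L a (μ • w) κ → SOrb L a (b + κ • a) →
      SOrb L a w := fun μ κ hμ k hk => SOrb.of_smul hμ
    (h.orb_star ha hb hab (by simp [hwa]) (by simp [hwb]) (smul_ne_zero hμ hw) k hk)
  by_cases hinj : Function.Injective φ
  · obtain ⟨μ₀, h₀⟩ := Finite.injective_iff_surjective.1 hinj 0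
    obtain ⟨μ₁, h₁⟩ := Finite.injective_iff_surjective.1 hinj l
    by_cases hμ : μ₀ = 0
    · refine main μ₁ l (fun h' => hl ?_) (h₁ ▸ hφ μ₁) hlo
      rw [← h₁, h']
      rwa [hμ] at h₀
    · exact main μ₀ 0 hμ (h₀ ▸ hφ μ₀) (by simpa using hb)
  · obtain ⟨μ, μ', he, hne⟩ := Function.not_injective_iff.1 hinj
    refine main (μ + μ') 0 (fun hs => hne (by linear_combination hs - μ' * h.two))
      ((h.mul (by simp [hwa]) (by simp [hwa]) (hφ μ) (hφ μ')).of_eq (add_smul _ _ _).symm ?_)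
      (by simpa using hb)
    simp only [map_smul, LinearMap.smul_apply, h.self, smul_zero, add_zero, he]
    linear_combination φ μ' * h.two

omit [Finite F] [FiniteDimensional F V] in
theorem decomp {a b : V} (hab : B b a = 1) (x : V) :
    ∃ w, B w a = 0 ∧ B w b = 0 ∧ x = B x a • b + w + B x b • a := by
  have := h.two
  refine ⟨x + B x a • b + B x b • a, ?_, ?_, ?_⟩
  · simp only [map_add, map_smul, LinearMap.add_apply, LinearMap.smul_apply, smul_eq_mul, h.self,
      hab]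
    grind
  · simp only [map_add, map_smul, LinearMap.add_apply, LinearMap.smul_apply, smul_eq_mul, h.self,
      hab, h.sym a b]
    grind
  · match_scalars <;> grind

/-- If the orbit contains a hyperbolic line, it contains all points. -/
theorem orb_all {a b : V} (ha : SFull B L a) (hb : SOrb L a b) (hab : B b a = 1)
    (hl : ∀ l : F, SOrb L a (b + l • a)) {x : V} (hx : x ≠ 0) : SOrb L a x := by
  obtain ⟨w, hwa, hwb, e⟩ := h.decomp hab x
  by_cases hxa : B x a = 0
  · rw [hxa, zero_smul, zero_add] at e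
    by_cases hw : w = 0
    · rw [hw, zero_add] at e
      rw [e]
      exact (SOrb.refl a).smul fun h0 => hx (by rw [e, h0, zero_smul])
    · have hw' : w ∉ F ∙ a := fun hm => by
        obtain ⟨c, rfl⟩ := Submodule.mem_span_singleton.1 hm
        simp [h.sym a b, hab] at hwb
        exact hw (by simp [hwb])
      obtain ⟨v, hv, h1⟩ := h.exists_val hw' (B x b)
      obtain ⟨c, g, hg, e'⟩ := ha v hv
      have : g w = x := by
        rw [e', hwa, h1, mul_zero, add_zero, zero_smul, add_zero, ← e]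
      exact this ▸ (h.orb_perp ha hb hab one_ne_zero (hl 1) hwa hwb hw).map hg
  · obtain ⟨κ, g, hg, e'⟩ := ha ((B x a)⁻¹ • w) (by simp [hwa])
    have : B x a • g (b + (B x b / B x a + κ) • a) = x := by
      rw [e']
      conv_rhs => rw [e]
      simp only [map_add, map_smul, LinearMap.add_apply, LinearMap.smul_apply, smul_eq_mul, h.self,
        hab, h.sym b w, hwb, h.sym a w, hwa]
      have := h.two
      match_scalars <;> grind
    exact this ▸ ((hl _).map hg).smul hxa

theorem eq_of_tf {a b : V} (ha : SFull B L a) (hb : SOrb L a b) (hab : B b a = 1)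
    (hT : ∀ τ, SHas B L a 0 τ) : L = isomGroup B := by
  have hl : ∀ l : F, SOrb L a (b + l • a) := fun l => by
    obtain ⟨g, hg, e⟩ := hT l
    have : g b = b + l • a := by simp [e, hab]
    exact this ▸ hb.map hg
  refine le_antisymm h.le (isomGroup_le_of_altTv_mem h.nd h.alt L fun w c => ?_)
  by_cases hw : w = 0
  · have : altTv h.alt w c = 1 := LinearEquiv.ext fun x => by simp [altTv_apply, hw]
    exact this ▸ L.one_mem
  · obtain ⟨g, hg, e⟩ := h.tf hT (h.orb_all ha hb hab hl hw) c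
    have : altTv h.alt w c = g := LinearEquiv.ext fun x => by simp [altTv_apply, e]
    exact this ▸ hg

omit [Finite F] h in
theorem exists_perp_notMem {ι : Type*} [Fintype ι] (x : ι → V) (U : Submodule F V)
    (hd : Fintype.card ι + finrank F U < finrank F V) : ∃ w, (∀ i, B w (x i) = 0) ∧ w ∉ U := by
  by_contra hc
  push Not at hc
  let f : V →ₗ[F] (ι → F) := LinearMap.pi fun i => B.flip (x i)
  have h1 : LinearMap.ker f ≤ U := fun w hw => hc w fun i => congrFun (LinearMap.mem_ker.1 hw) i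
  have h2 := Submodule.finrank_mono h1
  have h3 := LinearMap.finrank_range_add_finrank_ker f
  have h4 := (LinearMap.range f).finrank_le
  rw [Module.finrank_fintype_fun_eq_card] at h4
  omega

omit [Finite F] in
theorem exists_perp_pair {a b : V} (hab : B b a = 1) (h4 : 3 ≤ finrank F V) :
    ∃ w w', B w a = 0 ∧ B w b = 0 ∧ B w' a = 0 ∧ B w' b = 0 ∧ B w w' = 1 := by
  obtain ⟨w, hw, hw0⟩ := exists_perp_notMem (B := B) ![a, b] ⊥ (by simp; omega)
  have hwa : B w a = 0 := hw 0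
  have hwb : B w b = 0 := hw 1
  obtain ⟨y, hy⟩ := h.exists_one (a := w) (by simpa using hw0)
  obtain ⟨w', h1, h2, e⟩ := h.decomp hab y
  refine ⟨w, w', hwa, hwb, h1, h2, ?_⟩
  rw [e] at hy
  simpa [h.sym b w, h.sym a w, hwa, hwb, h.sym w' w] using hy

/-- A third point on a hyperbolic line, without full transvection groups, forces `F = 𝔽₂`. -/
theorem f2_of_third {a b : V} {l : F} (ha : SFull B L a) (hb : SOrb L a b) (hab : B b a = 1)
    (hl : l ≠ 0) (hlo : SOrb L a (b + l • a)) (hT : ¬ ∀ τ, SHas B L a 0 τ) (h3 : 3 ≤ finrank F V)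
    (t : F) (ht : t ≠ 0) : t = 1 := by
  by_contra hne
  have ha0 : a ≠ 0 := fun h0 => by simp [h0] at hab
  have main : ∀ w κ, B w a = 0 → B w b = 0 → w ≠ 0 → SHas B L a w κ → κ = 0 :=
    fun w κ hwa hwb hw k => by
    by_contra hκ
    have ho := h.orb_perp ha hb hab hl hlo hwa hwb hw
    have ha' : a ∉ F ∙ w := fun hm => by
      obtain ⟨c, rfl⟩ := Submodule.mem_span_singleton.1 hm
      simp [h.sym b w, hwb] at hab
    exact hne (h.f2 (ν := 1) hw (h.full ha ho) (fun hT' => hT (h.tf hT' ho.symm)) ho.symm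
      (by rw [h.sym, hwa]) ha' (by simpa using k) hκ t ht)
  obtain ⟨w, w', h1, h2, h3, h4, h5⟩ := h.exists_perp_pair hab h3
  obtain ⟨κ, k⟩ := ha w h1
  obtain ⟨κ', k'⟩ := ha w' h3
  have hw : w ≠ 0 := fun h0 => by simp [h0] at h5
  have hw' : w' ≠ 0 := fun h0 => by simp [h0] at h5
  have hs : w + w' ≠ 0 := fun h0 => by
    have : B (w + w') w' = 0 := by simp [h0]
    simp [h.self, h5] at this
  have := main _ _ (by simp [h1, h3]) (by simp [h2, h4]) hs (h.mul h1 h3 k k')
  rw [main _ _ h1 h2 hw k, main _ _ h3 h4 hw' k', h5] at this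
  simp at this

end SpX

end Cfsg.Agent.H26
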