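import Cfsg.Agent.H26.SpXA
import Cfsg.Agent.H30.OrthOmega

/-!
# Subgroups of `Sp(V)` in characteristic two containing a complement to the transvections in the
unipotent radical of a point stabiliser, II
-/

set_option autoImplicit false

namespace Cfsg.Agent.H26

open H27 Module QuadraticMap

variable {F V : Type*} [Field F] [AddCommGroup V] [Module F V]
variable {B : LinearMap.BilinForm F V} {L : Subgroup (V ≃ₗ[F] V)}

/-- In characteristic two the Eichler group contains the kernel of the Dickson invariant. -/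
theorem spx_mem_eichGroup [FiniteDimensional F V] [Finite F] {Q : QuadraticForm F V}
    (hQ : (polarBilin Q).Nondegenerate) (h2 : (2 : F) = 0) {e f : V} (hef : H30.IsHyp Q e f)
    (h3 : 3 ≤ finrank F V) {g : H30.O Q} (hg : H30.dickson hQ g = 1) : g ∈ H30.eichGroup Q := by
  have hN := H30.eichGroup_normal (Q := Q)
  have h1 : Q (e + f) ≠ 0 := by simp [H30.Q_add, hef.left, hef.right, hef.pol]
  have hrr : ∀ x y, Q x ≠ 0 → Q y ≠ 0 → H30.refl Q x * H30.refl Q y ∈ H30.eichGroup Q :=
    fun x y hx hy => by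
      obtain ⟨x', hx', e'⟩ := H30.exists_refl_eq_of_isSquare hx hy
        (H30.isSquare_of_two_eq_zero h2 _)
      rw [← e']
      exact H30.refl_mul_refl_mem_eichGroup hQ hef h3 (hx' ▸ hy) hx'
  have main : ∀ g : H30.O Q, g ∈ H30.eichGroup Q ∨ H30.refl Q (e + f) * g ∈ H30.eichGroup Q := by
    refine H30.refl_eich_induction hQ (Or.inl (one_mem _)) (fun v g hv h => ?_)
      fun u v g _ _ _ h => ?_
    · rcases h with h | h
      · exact Or.inr (by rw [← mul_assoc]; exact mul_mem (hrr _ _ h1 hv) h)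
      · refine Or.inl ?_
        have := mul_mem (hrr _ _ hv h1) h
        rwa [mul_assoc, ← mul_assoc (H30.refl Q (e + f)), H30.refl_mul_self, one_mul] at this
    · rcases h with h | h
      · exact Or.inl (mul_mem (H30.eich_mem_eichGroup u v) h)
      · refine Or.inr ?_
        have := mul_mem (hN.conj_mem _ (H30.eich_mem_eichGroup u v) (H30.refl Q (e + f))) h
        rwa [mul_assoc, inv_mul_cancel_left, mul_assoc] at this
  refine (main g).resolve_right fun h => ?_
  have := ((H30.mem_kerDS hQ).1 (H30.eichGroup_le_kerDS hQ h)).1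
  rw [map_mul, H30.dickson_refl hQ h1, hg] at this
  exact absurd this (by decide)

namespace SpX

variable (h : SpX B L)
include h

theorem d1 {a p r w : V} {μ κ : F} (hr : B r p = 1) (hH : ∀ l : F, SOrb L a (r + l • p) → l = 0)
    (hwp : B w p = 0) (hwr : B w r = 0) (ho : SOrb L a (r + w + μ • p)) (k : SHas B L p w κ) :
    μ = κ := by
  obtain ⟨g, hg, e⟩ := k
  have h2 := h.two
  have : g (r + w + μ • p) = r + (μ + κ) • p := by
    rw [e]
    simp only [map_add, map_smul, LinearMap.add_apply, LinearMap.smul_apply, smul_eq_mul, h.self,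
      hr, h.sym r w, hwr, h.sym p w, hwp]
    match_scalars <;> grind
  have := hH _ (this ▸ ho.map hg)
  grind

theorem d2 {a p r w : V} {κ : F} (hr : B r p = 1) (hwr : B w r = 0) (ho : SOrb L a r)
    (k : SHas B L p w κ) : SOrb L a (r + w + κ • p) := by
  obtain ⟨g, hg, e⟩ := k
  have : g r = r + w + κ • p := by simp [e, hr, h.sym r w, hwr]
  exact this ▸ ho.map hg

variable [FiniteDimensional F V]

theorem n1 {a p r w : V} {κ : F} (hr : B r p = 1) (hH : ∀ l : F, SOrb L a (r + l • p) → l = 0)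
    (hf : SFull B L r) (hwp : B w p = 0) (hwr : B w r = 0) (hw : w ≠ 0) (ho : SOrb L a w)
    (k : SHas B L p w κ) : κ = 0 := by
  have hw' : w ∉ F ∙ r := fun hm => by
    obtain ⟨c, rfl⟩ := Submodule.mem_span_singleton.1 hm
    simp [hr] at hwp
    exact hw (by simp [hwp])
  obtain ⟨v, hv, h1⟩ := h.exists_val hw' 1
  obtain ⟨c, g, hg, e⟩ := hf v hv
  have : g w = r + w + (0 : F) • p := by simp [e, hwr, h1, add_comm]
  exact (h.d1 hr hH hwp hwr (this ▸ ho.map hg) k).symm

variable [Finite F]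

theorem f2_uniq (hF : ∀ t : F, t ≠ 0 → t = 1) {p u : V} {κ κ' : F}
    (hT : ¬ ∀ τ, SHas B L p 0 τ) (hu : B u p = 0) (k : SHas B L p u κ) (k' : SHas B L p u κ') :
    κ = κ' := by
  by_contra hne
  refine hT fun τ => ?_
  by_cases hτ : τ = 0
  · exact hτ ▸ SHas.zero p
  · refine (h.diff hu k k').of_eq rfl ?_
    rw [hF τ hτ]
    exact hF _ fun hs => hne (by linear_combination hs - κ' * h.two)

theorem f2_symm (hF : ∀ t : F, t ≠ 0 → t = 1) {p u : V} {κ : F} (hp : SFull B L p)
    (hu : B u p = 0) (hu0 : u ≠ 0) (hup : u ≠ p) (k : SHas B L u p κ) : SHas B L p u κ := by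
  by_cases hκ : κ = 0
  · subst hκ
    exact k.swap
  · have hu' : u ∉ F ∙ p := fun hm => by
      obtain ⟨c, rfl⟩ := Submodule.mem_span_singleton.1 hm
      exact hup (by rw [hF c fun hc => hu0 (by simp [hc]), one_smul])
    obtain rfl := hF κ hκ
    exact (h.key (ν := 1) hp hu hu' (by simpa using k) 1).of_eq (by rw [mul_one, one_smul])
      (by rw [mul_one, one_pow])

theorem f2_finrank (hF : ∀ t : F, t ≠ 0 → t = 1) {a b : V} (ha : SFull B L a) (hab : B b a = 1)
    (hall : ∀ x, x ≠ 0 → SOrb L a x) (hT : ¬ ∀ τ, SHas B L a 0 τ) : finrank F V ≤ 4 := by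
  by_contra hd
  obtain ⟨u, hu, hu0⟩ := exists_perp_notMem (B := B) ![a, b] ⊥ (by simp; omega)
  have hu0' : u ≠ 0 := by simpa using hu0
  obtain ⟨v, hv, hv0⟩ := exists_perp_notMem (B := B) ![a, b, u] (F ∙ u) (by
    rw [finrank_span_singleton hu0']; simp; omega)
  have hua : B u a = 0 := hu 0
  have hub : B u b = 0 := hu 1
  have hva : B v a = 0 := hv 0
  have hvb : B v b = 0 := hv 1
  have hvu : B v u = 0 := hv 2
  have hfull : ∀ x, x ≠ 0 → SFull B L x := fun x hx => h.full ha (hall x hx)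
  have ha0 : a ≠ 0 := fun h0 => by simp [h0] at hab
  have hb0 : b ≠ 0 := fun h0 => by simp [h0] at hab
  have hs : B (a + b) a = 1 := by simp [h.self, hab]
  have hs0 : a + b ≠ 0 := fun h0 => by simp [h0] at hs
  have A : ∀ w κ₁ κ₂, w ≠ 0 → B w a = 0 → B w b = 0 → SHas B L a w κ₁ → SHas B L b w κ₂ →
      SHas B L (a + b) w (κ₁ + κ₂ + 1) := fun w κ₁ κ₂ hw hwa hwb k₁ k₂ => by
    have e₁ := h.f2_symm hF (hfull w hw) (by rw [h.sym, hwa]) ha0
      (fun e => by simp [← e, h.sym a b, hab] at hwb) k₁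
    have e₂ := h.f2_symm hF (hfull w hw) (by rw [h.sym, hwb]) hb0
      (fun e => by simp [← e, hab] at hwa) k₂
    have e := h.mul (by rw [h.sym, hwa]) (by rw [h.sym, hwb]) e₁ e₂
    rw [h.sym a b, hab] at e
    exact h.f2_symm hF (hfull _ hs0) (by simp [hwa, hwb]) hw
      (fun e => by rw [e, hs] at hwa; exact one_ne_zero hwa) e
  obtain ⟨α₁, k₁⟩ := ha u hua
  obtain ⟨α₂, k₂⟩ := ha v hva
  obtain ⟨β₁, l₁⟩ := hfull b hb0 u hub
  obtain ⟨β₂, l₂⟩ := hfull b hb0 v hvb
  have hv0' : v ≠ 0 := fun h0 => hv0 (by simp [h0])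
  have huv : u + v ≠ 0 := fun h0 => hv0 (by
    rw [eq_neg_of_add_eq_zero_right h0]
    exact neg_mem (Submodule.mem_span_singleton_self u))
  have := h.f2_uniq hF (fun hT' => hT (h.tf hT' (hall _ hs0).symm)) (by simp [hua, hub, hva, hvb])
    (A _ _ _ huv (by simp [hua, hva]) (by simp [hub, hvb]) (h.mul hua hva k₁ k₂)
      (h.mul hub hvb l₁ l₂))
    (h.mul (by simp [hua, hub]) (by simp [hva, hvb]) (A _ _ _ hu0' hua hub k₁ l₁)
      (A _ _ _ hv0' hva hvb k₂ l₂))
  rw [h.sym u v, hvu] at this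
  exact one_ne_zero (α := F) (by linear_combination -this)

theorem f2_card (hF : ∀ t : F, t ≠ 0 → t = 1) {a b : V} (ha : SFull B L a) (hab : B b a = 1)
    (hall : ∀ x, x ≠ 0 → SOrb L a x) (hT : ¬ ∀ τ, SHas B L a 0 τ) (hd : finrank F V = 4) :
    120 ∣ Nat.card L := by
  have h2 := h.two
  have ha0 : a ≠ 0 := fun h0 => by simp [h0] at hab
  obtain ⟨u, hua, hub, k⟩ : ∃ u, B u a = 0 ∧ B u b = 0 ∧ SHas B L a u 1 := by
    obtain ⟨w, w', h1, h2, h3, h4, h5⟩ := h.exists_perp_pair hab (by omega)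
    obtain ⟨κ, k⟩ := ha w h1
    obtain ⟨κ', k'⟩ := ha w' h3
    by_cases hκ : κ = 0
    · by_cases hκ' : κ' = 0
      · exact ⟨w + w', by simp [h1, h3], by simp [h2, h4],
          (h.mul h1 h3 k k').of_eq rfl (by simp [hκ, hκ', h5])⟩
      · exact ⟨w', h3, h4, hF _ hκ' ▸ k'⟩
    · exact ⟨w, h1, h2, hF _ hκ ▸ k⟩
  have hu0 : u ≠ 0 := fun h0 => one_ne_zero (h.f2_uniq hF hT hua k (h0 ▸ SHas.zero a))
  have hne : a ≠ u := fun e => by simp [← e, h.sym a b, hab] at hub
  obtain ⟨r, hr, er⟩ := h.f2_symm hF (h.full ha (hall u hu0)) (by rw [h.sym, hua]) ha0 hne k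
  obtain ⟨v, hv, hv1⟩ := h.exists_val (a := a) (u := u) (fun hm => by
    obtain ⟨c, rfl⟩ := Submodule.mem_span_singleton.1 hm
    exact hne (by rw [hF c fun hc => hu0 (by simp [hc]), one_smul])) 1
  have hb' : B (b + v) a = 1 := by simp [hab, hv]
  have hb'u : B (b + v) u = 1 := by simp [h.sym b u, hub, h.sym v u, hv1]
  generalize b + v = c at hb' hb'u
  have hra : r a = a := by simp [er, h.sym a u, hua, h.self]
  have hrc : r c = c + a := by
    rw [er, hb', hb'u]
    match_scalars <;> grind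
  have hcF : Nat.card F = 2 := (Nat.card_eq_two_iff' 0).2 ⟨1, one_ne_zero, hF⟩
  have hcV : Nat.card V = 16 := by rw [Module.natCard_eq_pow_finrank (K := F), hcF, hd]; rfl
  have : Finite V := Nat.finite_of_card_ne_zero (by omega)
  have o1 : MulAction.orbit L a = {a | a ≠ 0} := by
    ext x
    constructor
    · rintro ⟨g, rfl⟩
      exact g.1.map_ne_zero_iff.2 ha0
    · intro hx
      obtain ⟨g, hg, t, ht, e⟩ := hall x hx
      exact ⟨⟨g, hg⟩, by rw [e, hF t ht, one_smul]; rfl⟩
  have o2 : MulAction.orbit (MulAction.stabilizer L a) c = {y | B y a = 1} := by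
    ext y
    constructor
    · rintro ⟨g, rfl⟩
      have e : g.1.1 a = a := g.2
      change B (g.1.1 c) a = 1
      rw [← hb', ← h.le g.1.2 c a, e]
    · intro hy
      obtain ⟨w, hwa, hwc, e⟩ := h.decomp hb' y
      obtain ⟨κ, g, hg, eg⟩ := ha w hwa
      have hga : g a = a := by simp [eg, h.self, h.sym a w, hwa]
      have hgc : g c = c + w + κ • a := by simp [eg, hb', h.sym c w, hwc]
      rw [show B y a = 1 from hy, one_smul] at e
      by_cases hκ : B y c + κ = 0
      · refine ⟨⟨⟨g, hg⟩, hga⟩, ?_⟩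
        change g c = y
        rw [hgc, e, show κ = B y c by grind, ← e]
      · refine ⟨⟨⟨g * r, L.mul_mem hg hr⟩, show g (r a) = a by rw [hra, hga]⟩, ?_⟩
        change g (r c) = y
        have := hF _ hκ
        rw [hrc, map_add, hgc, hga, show κ = B y c + 1 by grind]
        conv_rhs => rw [e]
        match_scalars <;> grind
  have c1 : ({a | a ≠ 0} : Set V).ncard = 15 := by
    have := Set.ncard_add_ncard_compl ({0} : Set V)
    rw [Set.ncard_singleton, hcV] at this
    have e : ({a | a ≠ 0} : Set V) = {0}ᶜ := rfl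
    rw [e]
    omega
  have c2 : ({y | B y a = 1} : Set V).ncard = 8 := by
    have e : ({y | B y a = 1} : Set V)ᶜ = (fun y => y + c) '' {y | B y a = 1} := by
      ext y
      constructor
      · intro hy
        have h0 : B y a = 0 := by
          by_contra h0
          exact hy (hF _ h0)
        exact ⟨y + c, by simp [h0, hb'], by simp only [add_assoc, h.add_self, add_zero]⟩
      · rintro ⟨z, hz, rfl⟩ hy
        have hz' : B z a = 1 := hz
        simp [hz', hb'] at hy
    have := Set.ncard_add_ncard_compl ({y | B y a = 1} : Set V)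
    rw [e, Set.ncard_image_of_injective _ (add_left_injective c), hcV] at this
    omega
  have e1 := (MulAction.stabilizer L a).card_mul_index
  have e2 := (MulAction.stabilizer (MulAction.stabilizer L a) c).card_mul_index
  rw [MulAction.index_stabilizer, o1, c1] at e1
  rw [MulAction.index_stabilizer, o2, c2] at e2
  rw [← e1, ← e2, mul_assoc]
  exact Dvd.intro_left _ rfl

theorem orth {a b : V} (ha : SFull B L a) (hb : SOrb L a b) (hab : B b a = 1)
    (hH : ∀ l : F, SOrb L a (b + l • a) → l = 0)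
    (hirr : ∀ W : Submodule F V, (∀ g ∈ L, ∀ w ∈ W, g w ∈ W) → W = ⊥ ∨ W = ⊤) :
    ∃ Q : QuadraticForm F V, (∀ x y, polar Q x y = B x y) ∧ Q a = 0 ∧ Q b = 0 ∧ L ≤ H30.O Q ∧
      ∀ u v, u ≠ 0 → Q u = 0 → B u v = 0 → (H30.eich Q u v).1 ∈ L := by
  have h2 := h.two
  have ha0 : a ≠ 0 := fun h0 => by simp [h0] at hab
  have hba : B a b = 1 := by rw [h.sym, hab]
  have hH' : ∀ l : F, SOrb L a (a + l • b) → l = 0 := fun l hl => by
    by_contra hl0
    refine inv_ne_zero hl0 (hH _ ?_)
    convert hl.smul (inv_ne_zero hl0) using 1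
    rw [smul_add, smul_smul, inv_mul_cancel₀ hl0, one_smul, add_comm]
  have hfb := h.full ha hb
  have ha' := ha
  have hfb' := hfb
  choose! φ hφ using ha'
  choose! ψ hψ using hfb'
  have uφ : ∀ w κ, B w a = 0 → B w b = 0 → SHas B L a w κ → φ w = κ := fun w κ hwa hwb k =>
    h.d1 hab hH hwa hwb (h.d2 hab hwb hb (hφ w hwa)) k
  have uψ : ∀ w κ, B w a = 0 → B w b = 0 → SHas B L b w κ → ψ w = κ := fun w κ hwa hwb k =>
    h.d1 hba hH' hwb hwa (h.d2 hba hwa (SOrb.refl a) (hψ w hwb)) k
  have φ0 : φ 0 = 0 := uφ 0 0 (by simp) (by simp) (SHas.zero a)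
  have ψ0 : ψ 0 = 0 := uψ 0 0 (by simp) (by simp) (SHas.zero b)
  have nφ : ∀ w, B w a = 0 → B w b = 0 → SOrb L a w → φ w = 0 := fun w hwa hwb ho =>
    h.n1 hab hH hfb hwa hwb (ho.ne_zero ha0) ho (hφ w hwa)
  have nψ : ∀ w, B w a = 0 → B w b = 0 → SOrb L a w → ψ w = 0 := fun w hwa hwb ho =>
    h.n1 hba hH' ha hwb hwa (ho.ne_zero ha0) ho (hψ w hwb)
  have hom : ∀ w, B w a = 0 → B w b = 0 → ψ w = φ w ∧ ∀ c : F, φ (c • w) = c ^ 2 * φ w := by
    intro w hwa hwb
    by_cases hw : w = 0
    · simp [hw, φ0, ψ0]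
    by_cases ho : SOrb L a w
    · refine ⟨by rw [nφ w hwa hwb ho, nψ w hwa hwb ho], fun c => ?_⟩
      by_cases hc : c = 0
      · simp [hc, φ0]
      · rw [nφ w hwa hwb ho, nφ _ (by simp [hwa]) (by simp [hwb]) (ho.smul hc), mul_zero]
    have hinj : Function.Injective fun μ : F => φ (μ • w) := fun μ μ' e => by
      by_contra hne
      have hs : μ + μ' ≠ 0 := fun hs => hne (by grind)
      refine ho (SOrb.of_smul hs (h.orb_star (κ := 0) ha hb hab (by simp [hwa]) (by simp [hwb])
        (smul_ne_zero hs hw) ((h.mul (by simp [hwa]) (by simp [hwa]) (hφ (μ • w) (by simp [hwa]))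
          (hφ (μ' • w) (by simp [hwa]))).of_eq (add_smul _ _ _).symm ?_) (by simpa using hb)))
      simp only [map_smul, LinearMap.smul_apply, h.self, smul_zero, add_zero]
      simp only at e
      grind
    have key : ∀ c : F, c ≠ 0 → ∀ ν : F, c ^ 2 * ψ (ν • w) = φ ((c * ν) • w) := fun c hc ν => by
      obtain ⟨μ, hμ⟩ := Finite.injective_iff_surjective.1 hinj c
      simp only at hμ
      have k₁ := hφ (μ • w) (by simp [hwa])
      rw [hμ] at k₁
      have k₂ := hψ ((c⁻¹ * μ) • w) (by simp [hwb])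
      have o₁ : SOrb L a (a + (c⁻¹ * μ) • w + c⁻¹ • b) := by
        convert (h.d2 hab (by simp [hwb]) hb k₁).smul (inv_ne_zero hc) using 1
        match_scalars <;> field_simp
      rw [← h.d1 hba hH' (by simp [hwb]) (by simp [hwa]) o₁ k₂] at k₂
      have o₂ := h.d2 hba (by simp [hwa]) (SOrb.refl a) (hψ (ν • w) (by simp [hwb]))
      obtain ⟨g₁, hg₁, e₁⟩ := k₁
      obtain ⟨g₂, hg₂, e₂⟩ := k₂
      have a1 : g₁ a = a := by simp [e₁, h.self, h.sym a w, hwa]
      have w1 : g₁ w = w := by simp [e₁, h.self, hwa]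
      have b1 : g₁ b = b + μ • w + c • a := by simp [e₁, hab, h.sym b w, hwb]
      have b2 : g₂ b = b := by simp [e₂, h.self, h.sym b w, hwb]
      have w2 : g₂ w = w := by simp [e₂, h.self, hwb]
      have a2 : g₂ a = a + (c⁻¹ * μ) • w + c⁻¹ • b := by simp [e₂, hba, h.sym a w, hwa]
      refine h.d1 hab hH (by simp [hwa]) (by simp [hwb]) ?_ (hφ ((c * ν) • w) (by simp [hwa]))
      convert (((o₂.map hg₁).map hg₂).map hg₁).smul hc using 1
      simp only [map_add, map_smul, a1, w1, b1, a2, w2, b2]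
      match_scalars <;> grind
    have e1 : ψ w = φ w := by simpa using key 1 one_ne_zero 1
    refine ⟨e1, fun c => ?_⟩
    by_cases hc : c = 0
    · simp [hc, φ0]
    · simpa [e1] using (key c hc 1).symm
  have pa : ∀ x, B (x + B x a • b + B x b • a) a = 0 := fun x => by
    simp only [map_add, map_smul, LinearMap.add_apply, LinearMap.smul_apply, smul_eq_mul, h.self,
      hab]
    grind
  have pb : ∀ x, B (x + B x a • b + B x b • a) b = 0 := fun x => by
    simp only [map_add, map_smul, LinearMap.add_apply, LinearMap.smul_apply, smul_eq_mul, h.self,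
      hba]
    grind
  have hadd : ∀ x y, B (x + y) a * B (x + y) b + φ (x + y + B (x + y) a • b + B (x + y) b • a) =
      B x a * B x b + φ (x + B x a • b + B x b • a) +
        (B y a * B y b + φ (y + B y a • b + B y b • a)) + B x y := fun x y => by
    rw [uφ _ _ (pa _) (pb _) ((h.mul (pa x) (pa y) (hφ _ (pa x)) (hφ _ (pa y))).of_eq (by
      simp only [map_add, LinearMap.add_apply]; module) rfl)]
    simp only [map_add, map_smul, LinearMap.add_apply, LinearMap.smul_apply, smul_eq_mul, h.self,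
      hab, hba, h.sym a y, h.sym b y]
    grind
  let Q : QuadraticForm F V :=
    { toFun := fun x => B x a * B x b + φ (x + B x a • b + B x b • a)
      toFun_smul := fun c x => by
        have := (hom _ (pa x) (pb x)).2 c
        rw [smul_add, smul_add, smul_smul, smul_smul] at this
        simp only [map_smul, LinearMap.smul_apply, smul_eq_mul, this]
        ring
      exists_companion' := ⟨B, hadd⟩ }
  have hpol : ∀ x y, polar Q x y = B x y := fun x y => by
    rw [polar]
    exact (congrArg (· - Q x - Q y) (hadd x y)).trans (by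
      change Q x + Q y + B x y - Q x - Q y = _
      ring)
  have hQ : ∀ (α β : F) w, B w a = 0 → B w b = 0 → Q (β • b + w + α • a) = β * α + φ w :=
    fun α β w hwa hwb => by
      have e1 : B (β • b + w + α • a) a = β := by simp [hwa, hab, h.self]
      have e2 : B (β • b + w + α • a) b = α := by simp [hwb, hba, h.self]
      change B _ a * B _ b + φ (_ + B _ a • b + B _ b • a) = _
      rw [e1, e2]
      congr 2
      match_scalars <;> grind
  have s1 : ∀ x, SOrb L a x → Q x = 0 := fun x hx => by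
    obtain ⟨w, hwa, hwb, e⟩ := h.decomp hab x
    generalize B x a = β at e
    generalize B x b = α at e
    subst e
    rw [hQ _ _ _ hwa hwb]
    by_cases hβ : β = 0
    · by_cases hα : α = 0
      · simpa [hα] using nφ w hwa hwb (by simpa [hα, hβ] using hx)
      · have := h.d1 (μ := 0) hba hH' (by simp [hwb]) (by simp [hwa]) (by
          convert hx.smul (inv_ne_zero hα) using 1
          match_scalars <;> simp [hα, hβ]) (hψ (α⁻¹ • w) (by simp [hwb]))
        rw [(hom _ (by simp [hwa]) (by simp [hwb])).1, (hom _ hwa hwb).2] at this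
        simpa [hβ, hα] using this
    · have := h.d1 (μ := β⁻¹ * α) hab hH (by simp [hwa]) (by simp [hwb]) (by
        convert hx.smul (inv_ne_zero hβ) using 1
        match_scalars <;> simp [hβ]) (hφ (β⁻¹ • w) (by simp [hwa]))
      rw [(hom _ hwa hwb).2] at this
      grind
  have s2 : ∀ x, x ≠ 0 → Q x = 0 → SOrb L a x := fun x hx hq => by
    obtain ⟨w, hwa, hwb, e⟩ := h.decomp hab x
    generalize B x a = β at e
    generalize B x b = α at e
    subst e
    rw [hQ _ _ _ hwa hwb] at hq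
    by_cases hβ : β = 0
    · have hw : φ w = 0 := by simpa [hβ] using hq
      by_cases hα : α = 0
      · simpa [hα, hβ] using h.orb_star (κ := 0) ha hb hab hwa hwb (by simpa [hα, hβ] using hx)
          (hw ▸ hφ w hwa) (by simpa using hb)
      · convert (h.d2 hba (by simp [hwa]) (SOrb.refl a) (hψ (α⁻¹ • w) (by simp [hwb]))).smul hα
          using 1
        rw [(hom _ (by simp [hwa]) (by simp [hwb])).1, (hom _ hwa hwb).2, hw]
        match_scalars <;> simp [hα, hβ]
    · convert (h.d2 hab (by simp [hwb]) hb (hφ (β⁻¹ • w) (by simp [hwa]))).smul hβ using 1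
      rw [(hom _ hwa hwb).2]
      match_scalars <;> grind
  have hLO : L ≤ H30.O Q := by
    let M : Submodule F V :=
      { carrier := {x | ∀ g ∈ L, Q (g x) = Q x}
        add_mem' := fun {x y} hx hy g hg => by
          rw [map_add, H30.Q_add, H30.Q_add, hx g hg, hy g hg, hpol, hpol, h.le hg]
        zero_mem' := fun g _ => by rw [map_zero]
        smul_mem' := fun c x hx g hg => by rw [map_smul, H30.Q_smul, H30.Q_smul, hx g hg] }
    rcases hirr M (fun k hk x hx g hg => (hx (g * k) (L.mul_mem hg hk)).trans (hx k hk).symm)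
      with hM | hM
    · have : a ∈ M := fun g hg => by rw [s1 _ ((SOrb.refl a).map hg), s1 _ (SOrb.refl a)]
      rw [hM] at this
      exact absurd this ha0
    · exact fun g hg x => (hM ▸ Submodule.mem_top : x ∈ M) g hg
  refine ⟨Q, hpol, s1 _ (SOrb.refl a), s1 _ hb, hLO, fun u v hu hq huv => ?_⟩
  obtain ⟨κ, g, hg, e⟩ := h.full ha (s2 u hu hq) v (by rw [h.sym, huv])
  obtain ⟨x, hx⟩ := h.exists_one hu
  have hκ : κ = Q v := by
    have := hLO hg x
    rw [e, hx, H30.Q_add, H30.Q_add, H30.Q_smul, H30.Q_smul, hq, hpol, hpol] at this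
    simp only [map_add, map_smul, LinearMap.add_apply, LinearMap.smul_apply, smul_eq_mul, hx,
      h.sym v u, huv] at this
    grind
  have : (H30.eich Q u v).1 = g := LinearEquiv.ext fun y => by
    rw [H30.eich_apply hq (by rw [hpol, huv]), e, hpol, hpol, hκ]
    match_scalars <;> grind
  exact this ▸ hg

theorem main {a : V} (ha0 : a ≠ 0) (ha : SFull B L a) (h4 : 4 ≤ finrank F V)
    (hirr : ∀ W : Submodule F V, (∀ g ∈ L, ∀ w ∈ W, g w ∈ W) → W = ⊥ ∨ W = ⊤) :
    L = isomGroup B ∨
      (∃ Q : QuadraticForm F V, (∀ x y, polar Q x y = B x y) ∧ (L = H30.O Q ∨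
        ∀ g, g ∈ L ↔ g ∈ H30.O Q ∧
          Even (finrank F (LinearMap.range ((g : V →ₗ[F] V) - LinearMap.id))))) ∨
      ((∀ t : F, t ≠ 0 → t = 1) ∧ finrank F V = 4 ∧ 120 ∣ Nat.card L) := by
  obtain ⟨b, hb, hab⟩ : ∃ b, SOrb L a b ∧ B b a = 1 := by
    obtain ⟨g, hg, hne⟩ : ∃ g ∈ L, B (g a) a ≠ 0 := by
      by_contra hc
      push Not at hc
      let M : Submodule F V :=
        { carrier := {x | ∀ g ∈ L, B (g x) a = 0}
          add_mem' := fun {x y} hx hy g hg => by simp [hx g hg, hy g hg]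
          zero_mem' := fun g _ => by simp
          smul_mem' := fun c x hx g hg => by simp [hx g hg] }
      rcases hirr M (fun k hk x hx g hg => hx (g * k) (L.mul_mem hg hk)) with hM | hM
      · have : a ∈ M := hc
        rw [hM] at this
        exact ha0 this
      · exact ha0 (h.nd.2 a fun x => (hM ▸ Submodule.mem_top : x ∈ M) 1 L.one_mem)
    exact ⟨(B (g a) a)⁻¹ • g a, ⟨g, hg, _, inv_ne_zero hne, rfl⟩, by simp [hne]⟩
  by_cases hH : ∀ l : F, SOrb L a (b + l • a) → l = 0
  · obtain ⟨Q, hpol, hQa, hQb, hLO, hE⟩ := h.orth ha hb hab hH hirr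
    refine Or.inr (Or.inl ⟨Q, hpol, ?_⟩)
    have hQ : (polarBilin Q).Nondegenerate := H30.nondegenerate_of_forall fun x hx =>
      h.nd.1 x fun y => by rw [← hpol, hx]
    have hker : ∀ g : H30.O Q, H30.dickson hQ g = 1 → g.1 ∈ L := fun g hg =>
      H30.eichGroup_le (H := L.subgroupOf (H30.O Q))
        (fun u v hu hq huv => hE u v hu hq (by rw [← hpol, huv]))
        (spx_mem_eichGroup hQ h.two ⟨hQb, hQa, by rw [hpol, hab]⟩ (by omega) hg)
    have hev : ∀ g : H30.O Q, H30.dickson hQ g = 1 ↔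
        Even (finrank F (LinearMap.range ((g.1 : V →ₗ[F] V) - LinearMap.id))) := fun g => by
      rw [H30.dickson_apply]
      exact neg_one_pow_eq_one_iff_even (by decide)
    by_cases hall : ∀ g : H30.O Q, g.1 ∈ L → H30.dickson hQ g = 1
    · exact Or.inr fun g => ⟨fun hg => ⟨hLO hg, (hev ⟨g, hLO hg⟩).1 (hall _ hg)⟩,
        fun hg => hker ⟨g, hg.1⟩ ((hev ⟨g, hg.1⟩).2 hg.2)⟩
    · push Not at hall
      obtain ⟨l, hl, hl'⟩ := hall
      refine Or.inl (le_antisymm hLO fun g hg => ?_)
      rcases Int.units_eq_one_or (H30.dickson hQ ⟨g, hg⟩) with e | e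
      · exact hker _ e
      · have := hker (⟨g, hg⟩ * l) (by
          rw [map_mul, e, (Int.units_eq_one_or _).resolve_left hl']; decide)
        exact (L.mul_mem_cancel_right hl).1 this
  · push Not at hH
    obtain ⟨l, hlo, hl⟩ := hH
    by_cases hT : ∀ τ, SHas B L a 0 τ
    · exact Or.inl (h.eq_of_tf ha hb hab hT)
    · have hF := h.f2_of_third ha hb hab hl hlo hT (by omega)
      have hall : ∀ x, x ≠ 0 → SOrb L a x := fun x hx => h.orb_all ha hb hab (fun l' => by
        by_cases hl' : l' = 0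
        · simpa [hl'] using hb
        · rwa [hF l' hl', ← hF l hl]) hx
      have hd : finrank F V = 4 := le_antisymm (h.f2_finrank hF ha hab hall hT) h4
      exact Or.inr (Or.inr ⟨hF, hd, h.f2_card hF ha hab hall hT hd⟩)

end SpX

end Cfsg.Agent.H26
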